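import Cfsg.Agent.Lib.Invol.SECriterion.EqType.Big.Frame
import Cfsg.Agent.Lib.Invol.SECriterion.Cube.Base
import Cfsg.Agent.Lib.Invol.SECriterion.ResOfA
import Mathlib.GroupTheory.Sylow

/-!
# The strong embedding criterion, equal type with many fixed points: the Sylow subgroup of `M`

The further `s q u` points, `u` odd, fall into orbits of a two-group of `M` of lengths at least its order
over the largest order of a two-group fixing two points: so a two-group at the point has order at most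
`q s |T|`, which is reached inside the stabilizer of the coset of `x`.
-/

set_option autoImplicit false
set_option linter.style.haveILetI false

namespace CfsgLib.SECrit.Eq

open CfsgLib.Invol Small Subgroup
open scoped Pointwise

universe u

variable {G : Type u} [Group G] [Finite G] {M : Subgroup G} {z : G}

theorem RegTwo_two {x : G} {p : G ⧸ M} {P : Subgroup G} (hd : RegTwo M z x p P) : IsPGroup 2 P :=
  fun g => ((hd.mem g).1 g.2).2.2.imp fun k hk => Subtype.ext (by rwa [SubmonoidClass.coe_pow, coe_one])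

theorem RegTwo_conj {x : G} {p : G ⧸ M} {P : Subgroup G} (hd : RegTwo M z x p P) {c : G}
    (hxc : Commute x c) (hcp : c • p = p) {g : G} (hg : g ∈ P) : c * g * c⁻¹ ∈ P := by
  obtain ⟨hgL, hgp, k, hk⟩ := (hd.mem g).1 hg
  refine (hd.mem _).2 ⟨?_, by rw [mul_smul, mul_smul, inv_smul_eq_iff.2 hcp.symm, hgp, hcp], k, ?_⟩
  · clear hgp hk hg
    induction hgL using closure_induction with
    | mem d hd' =>
      exact mem_locGroup (hd'.1.trans (isConj_iff.2 ⟨c, rfl⟩)) ((hxc.mul_right hd'.2).mul_right hxc.inv_right)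
    | one => simp
    | mul a b _ _ iha ihb =>
      rw [show c * (a * b) * c⁻¹ = c * a * c⁻¹ * (c * b * c⁻¹) by group]; exact mul_mem iha ihb
    | inv a _ iha => rw [show c * a⁻¹ * c⁻¹ = (c * a * c⁻¹)⁻¹ by group]; exact inv_mem iha
  · rw [conj_pow, hk, mul_one, mul_inv_cancel]

theorem RegTwo_commute {x : G} {p : G ⧸ M} {P : Subgroup G} (hd : RegTwo M z x p P) {g : G}
    (hg : g ∈ P) : Commute x g :=
  commute_of_mem_locGroup ((hd.mem g).1 hg).1

/-- Each orbit has at least the index of the largest stabilizer. -/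
theorem dvd_card_of_stabilizer_le {V X : Type*} [Group V] [Finite V] [Finite X] [MulAction V X] {k m t : ℕ}
    (hV : Nat.card V = 2 ^ k) (hstab : ∀ b : X, Nat.card (MulAction.stabilizer V b) ≤ t)
    (hm : 2 ^ m * t ≤ 2 ^ k) : 2 ^ m ∣ Nat.card X := by
  classical
  haveI : Fact (Nat.Prime 2) := ⟨Nat.prime_two⟩
  letI := Fintype.ofFinite (Quotient (MulAction.orbitRel V X))
  have h1 := Nat.card_congr (MulAction.selfEquivSigmaOrbits' V X)
  rw [Nat.card_sigma] at h1
  rw [h1]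
  refine Finset.dvd_sum fun o _ => ?_
  induction o using Quotient.inductionOn' with
  | h b =>
    rw [MulAction.orbitRel.Quotient.orbit_mk, Nat.card_coe_set_eq, ← MulAction.index_stabilizer]
    have h2 := (MulAction.stabilizer V b).card_mul_index
    rw [hV] at h2
    obtain ⟨j, -, hj⟩ := (Nat.dvd_prime_pow Nat.prime_two).1 (Dvd.intro_left _ h2)
    rw [hj]
    refine Nat.pow_dvd_pow 2 (Nat.le_of_not_lt fun hlt => ?_)
    rw [hj] at h2
    have h3 := hstab b
    have h4 : 2 ^ j < 2 ^ m := Nat.pow_lt_pow_right (by norm_num) hlt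
    have h5 : 0 < Nat.card (MulAction.stabilizer V b) := Nat.card_pos
    nlinarith

namespace EqRes

variable (h : EqRes M z)
include h

/-- **A frame.** -/
theorem exists_frame {x₀ : G} (hx₀ : Bad z x₀) : ∃ (x : G) (a : G ⧸ M) (T : Subgroup G), Frame M z x a T := by
  classical
  haveI : Fact (Nat.Prime 2) := ⟨Nat.prime_two⟩
  obtain ⟨p₀, hp₀⟩ := Small.exists_fix h.res.crit hx₀.invol
  obtain ⟨g, hg⟩ := MulAction.exists_smul_eq G p₀ (base M)
  set x₁ := g * x₀ * g⁻¹ with hx₁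
  have hx₁p : x₁ • base M = base M := by rw [hx₁, ← hg, smul_smul, inv_mul_cancel_right, mul_smul, hp₀]
  obtain ⟨a₁, ha₁, hxa₁⟩ := h.res.bad_two_fix (hx₀.conj g) hx₁p
  set ok : Subgroup G × (G ⧸ M) → Prop := fun r =>
    IsPGroup 2 r.1 ∧ r.2 ≠ base M ∧ ∀ t ∈ r.1, t • base M = base M ∧ t • r.2 = r.2 with hok
  have h1 : ok (zpowers x₁, a₁) :=
    ⟨Crit.isPGroup_zpowers_invol (hx₀.conj g).invol, ha₁, fun t ht =>
      ⟨Crit.forall_zpowers_fix hx₁p t ht, Crit.forall_zpowers_fix hxa₁ t ht⟩⟩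
  obtain ⟨⟨T, a⟩, ⟨hT2, ha, hTfix⟩, hmax⟩ :=
    Set.exists_max_image {r | ok r} (fun r => Nat.card r.1) (Set.toFinite _) ⟨_, h1⟩
  have hne : 1 < Nat.card T := lt_of_lt_of_le (by
    rw [show Nat.card (zpowers x₁) = 2 by rw [Nat.card_zpowers]; exact (hx₀.conj g).invol]
    norm_num) (hmax _ h1)
  haveI : Nontrivial T := Finite.one_lt_card_iff_nontrivial.1 hne
  haveI : Nontrivial (Subgroup.center T) := hT2.center_nontrivial
  have heven : 2 ∣ Nat.card (Subgroup.center T) := by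
    obtain ⟨k, hk⟩ := IsPGroup.iff_card.1 (hT2.to_subgroup (Subgroup.center T))
    rcases Nat.eq_zero_or_pos k with rfl | hk0
    · exact absurd hk (Finite.one_lt_card (α := Subgroup.center T)).ne'
    · rw [hk]; exact dvd_pow_self 2 hk0.ne'
  obtain ⟨⟨⟨w, hwT⟩, hwc⟩, hw⟩ := exists_prime_orderOf_dvd_card' 2 heven
  have hwo : orderOf w = 2 := by rwa [orderOf_mk, orderOf_mk] at hw
  have hwb : Bad z w := ⟨hwo, fun hh => ha (h.res.crit.fix_unique hh (hTfix w hwT).2 (hTfix w hwT).1)⟩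
  exact ⟨w, a, T, hwb, (hTfix w hwT).1, (hTfix w hwT).2, ha, hT2,
    fun t ht => (congrArg Subtype.val (mem_center_iff.1 hwc ⟨t, ht⟩)).symm, hTfix, hwT,
    fun U c hU hc hUc => hmax (U, c) ⟨hU, hc, hUc⟩⟩

theorem exists_deg_pow : ∃ β : ℕ, 2 ≤ β ∧ deg M z + 1 = 2 ^ β := by
  haveI : Fact (Nat.Prime 2) := ⟨Nat.prime_two⟩
  obtain ⟨β, hβ⟩ := IsPGroup.iff_card.1 (h.res.isPGroup_grp (base M))
  rw [h.res.card_grp] at hβ
  have := h.two_le
  refine ⟨β, ?_, hβ⟩
  rcases β with _ | _ | β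
  · rw [pow_zero] at hβ; omega
  · rw [zero_add, pow_one] at hβ; omega
  · omega

/-- The group keeping the coset of `x`. -/
def cosetStab {x : G} (hx : Bad z x) (hxp : x • base M = base M) : Subgroup G where
  carrier := {g | g • base M = base M ∧ g * x * g⁻¹ * x ∈ h.res.grp (base M)}
  one_mem' := ⟨one_smul _ _, by simp [invol_mul_self hx.invol]⟩
  mul_mem' := by
    rintro g g' ⟨hg, hge⟩ ⟨hg', hge'⟩
    refine ⟨by rw [mul_smul, hg', hg], ?_⟩
    have e : g * g' * x * (g * g')⁻¹ * x = g * (g' * x * g'⁻¹ * x) * g⁻¹ * (g * x * g⁻¹ * x) := by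
      simp only [mul_inv_rev, mul_assoc, inv_mul_cancel_left]
      rw [← mul_assoc x x, invol_mul_self hx.invol, one_mul]
    rw [e]
    exact mul_mem (h.res.grp_conj hg hge') hge
  inv_mem' := by
    rintro g ⟨hg, hge⟩
    refine ⟨inv_smul_eq_iff.2 hg.symm, ?_⟩
    have hgi : g⁻¹ • base M = base M := inv_smul_eq_iff.2 hg.symm
    set e := g * x * g⁻¹ * x with he
    have e1 : g * x * g⁻¹ = e * x := by rw [he, mul_assoc _ x x, invol_mul_self hx.invol, mul_one]
    have hc := h.commute_grp hx hxp (h.res.grp_conj hgi hge)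
    have e2 : g⁻¹ * x * g⁻¹⁻¹ = (g⁻¹ * e⁻¹ * g⁻¹⁻¹) * x := by
      have : x = (g⁻¹ * e * g) * (g⁻¹ * x * g) := by
        calc x = g⁻¹ * (g * x * g⁻¹) * g := by group
          _ = _ := by rw [e1]; group
      rw [inv_inv]
      calc g⁻¹ * x * g = (g⁻¹ * e * g)⁻¹ * ((g⁻¹ * e * g) * (g⁻¹ * x * g)) := by group
        _ = g⁻¹ * e⁻¹ * g * x := by rw [← this]; group
    rw [e2, mul_assoc, invol_mul_self hx.invol, mul_one]
    exact h.res.grp_conj hgi (inv_mem hge)

variable (hS : Setup M z) (hloc : ∀ x : G, IsBad M x → Local M z x)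
include hS hloc

/-- The fixed points: `q ^ m + 1` of them. -/
theorem exists_fix_pow {x : G} (hx : Bad z x)
    (hbig : fix M x = (deg M z + 1) ^ 2 + 1 ∨ fix M x = (deg M z + 1) ^ 3 + 1) :
    ∃ β m : ℕ, 2 ≤ β ∧ 2 ≤ m ∧ deg M z + 1 = 2 ^ β ∧ fix M x = 2 ^ (β * m) + 1 := by
  obtain ⟨β, hβ2, hβ⟩ := h.exists_deg_pow
  rcases hbig with e | e
  · exact ⟨β, 2, hβ2, le_rfl, hβ, by rw [e, hβ, ← pow_mul]⟩
  · exact ⟨β, 3, hβ2, by norm_num, hβ, by rw [e, hβ, ← pow_mul]⟩

/-- The regular two-group of a bad involution. -/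
theorem exists_reg {x : G} (hx : Bad z x) (hxp : x • base M = base M)
    (hbig : fix M x = (deg M z + 1) ^ 2 + 1 ∨ fix M x = (deg M z + 1) ^ 3 + 1) :
    ∃ P : Subgroup G, RegTwo M z x (base M) P := by
  obtain ⟨β, m, hβ2, hm, hβ, hk⟩ := h.exists_fix_pow hS hloc hx hbig
  have hb := h.isBad hx
  obtain ⟨P, hP, -⟩ := hS.exists_regTwo (hloc x hb) hb hxp
    (show Nat.card (CAt z ({x} : Set G) (base M)) + 1 = 2 ^ β by
      rw [show Nat.card (CAt z ({x} : Set G) (base M)) = deg M z from h.full x _ hx hxp, hβ]) hβ2 hm hk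
  exact ⟨P, hP⟩

/-- A two-group at the base point has order at most `q (fix - 1) |T|`. -/
theorem card_twoGroup_le {x : G} {a : G ⧸ M} {T : Subgroup G} (hF : Frame M z x a T)
    (hbig : fix M x = (deg M z + 1) ^ 2 + 1 ∨ fix M x = (deg M z + 1) ^ 3 + 1) {V : Subgroup G}
    (hV : IsPGroup 2 V) (hVp : ∀ g ∈ V, g • base M = base M) :
    Nat.card V ≤ (deg M z + 1) * (fix M x - 1) * Nat.card T := by
  classical
  haveI : Fact (Nat.Prime 2) := ⟨Nat.prime_two⟩
  obtain ⟨β, m, hβ2, hm, hβ, hk⟩ := h.exists_fix_pow hS hloc hF.bad hbig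
  obtain ⟨v, hv⟩ := IsPGroup.iff_card.1 hV
  obtain ⟨t, ht⟩ := IsPGroup.iff_card.1 hF.two
  rw [hv, ht, hk, hβ, Nat.add_sub_cancel, ← pow_add, ← pow_add]
  refine Nat.pow_le_pow_right (by norm_num) (Nat.le_of_not_lt fun hlt => ?_)
  let X := {b : G ⧸ M // b ≠ base M}
  letI : MulAction V X :=
    { smul := fun g b => ⟨(g : G) • b.1, fun e => b.2 (smul_left_cancel (g : G) (e.trans (hVp g g.2).symm))⟩
      one_smul := fun b => Subtype.ext (one_smul G b.1)
      mul_smul := fun g g' b => Subtype.ext (mul_smul (g : G) (g' : G) b.1) }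
  have hstab : ∀ b : X, Nat.card (MulAction.stabilizer V b) ≤ 2 ^ t := fun b => by
    rw [← ht, ← card_map_of_injective (K := MulAction.stabilizer V b) V.subtype_injective]
    refine hF.max _ b.1 ((hV.to_subgroup (MulAction.stabilizer V b)).map V.subtype) b.2 ?_
    rintro _ ⟨g, hg, rfl⟩
    exact ⟨hVp g g.2, congrArg Subtype.val (MulAction.mem_stabilizer_iff.1 hg)⟩
  have hdvd := dvd_card_of_stabilizer_le (m := β * m + β + 1) hv hstab (by
    rw [← pow_add]; exact Nat.pow_le_pow_right (by norm_num) (by omega))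
  have hX : Nat.card X + 1 = Nat.card (G ⧸ M) := by
    rw [← Finite.card_option]; exact Nat.card_congr (Equiv.optionSubtypeNe _)
  have hN := h.card_points hF.bad
  rw [hk, Nat.add_sub_cancel] at hN
  obtain ⟨d, hd⟩ : ∃ d, deg M z = d := ⟨_, rfl⟩
  rw [hd] at hN hβ
  obtain ⟨n, rfl⟩ : ∃ n, m = n + 1 := ⟨m - 1, by omega⟩
  have e : 2 ^ (β * (n + 1)) + 1 + (2 ^ (β * (n + 1)) + 1) * d * 2 ^ (β * (n + 1)) =
      2 ^ (β * (n + 1) + β) * (1 + 2 ^ (β * n) * d) + 1 := by
    rw [pow_add, show β * (n + 1) = β * n + β by ring, pow_add, ← hβ]; ring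
  rw [e, ← hX] at hN
  rw [Nat.succ_injective hN, pow_succ, Nat.mul_dvd_mul_iff_left (by positivity), Nat.dvd_iff_mod_eq_zero] at hdvd
  have h2 : 2 ∣ 2 ^ (β * n) * d := Dvd.dvd.mul_right (dvd_pow_self 2 (Nat.mul_ne_zero (by omega) (by omega))) d
  omega

/-- The two-group `P T` centralizing `x`. -/
theorem sup_props {x : G} {a : G ⧸ M} {T P : Subgroup G} (hF : Frame M z x a T) (hd : RegTwo M z x (base M) P) :
    IsPGroup 2 (P ⊔ T : Subgroup G) ∧ (∀ g ∈ P ⊔ T, Commute x g ∧ g • base M = base M) ∧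
      (∀ g ∈ P ⊔ T, ∃ v ∈ P, ∃ t ∈ T, g = v * t) ∧ fix M x - 1 ≤ Nat.card (P ⊔ T : Subgroup G) / Nat.card T ∧
      (fix M x - 1) * Nat.card T ≤ Nat.card (P ⊔ T : Subgroup G) := by
  classical
  haveI : Fact (Nat.Prime 2) := ⟨Nat.prime_two⟩
  have hn : T ≤ normalizer (P : Set G) := fun t ht => mem_normalizer_iff.2 fun g =>
    ⟨fun hg => RegTwo_conj hd (hF.cent t ht) (hF.fix_T t ht).1 hg, fun hg => by
      have h1 := RegTwo_conj hd (hF.cent t ht).inv_right (inv_smul_eq_iff.2 (hF.fix_T t ht).1.symm) hg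
      rwa [show t⁻¹ * (t * g * t⁻¹) * t⁻¹⁻¹ = g by group] at h1⟩
  have hU : IsPGroup 2 (P ⊔ T : Subgroup G) :=
    sup_comm T P ▸ IsPGroup.to_sup_of_normal_right' hF.two (RegTwo_two hd) hn
  have hdec : ∀ g ∈ P ⊔ T, ∃ v ∈ P, ∃ t ∈ T, g = v * t := by
    intro g hg
    have h1 : g ∈ ((P : Set G) * (T : Set G)) := by
      rw [← Subgroup.coe_mul_of_right_le_normalizer_left P T hn]; exact hg
    obtain ⟨v, hv, t, ht, rfl⟩ := Set.mem_mul.1 h1
    exact ⟨v, hv, t, ht, rfl⟩
  have hcf : ∀ g ∈ P ⊔ T, Commute x g ∧ g • base M = base M := fun g hg => by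
    obtain ⟨v, hv, t, ht, rfl⟩ := hdec g hg
    exact ⟨(RegTwo_commute hd hv).mul_right (hF.cent t ht),
      by rw [mul_smul, (hF.fix_T t ht).1, ((hd.mem v).1 hv).2.1]⟩
  set U := P ⊔ T with hUdef
  have hle : (fix M x - 1) * Nat.card T ≤ Nat.card U := by
    letI : MulAction U (G ⧸ M) := MulAction.compHom _ U.subtype
    have h1 := (Nat.card_prod _ _).symm.trans (Nat.card_congr (MulAction.orbitProdStabilizerEquivGroup U a))
    rw [← h1]
    refine Nat.mul_le_mul ?_ ?_
    · have : fix M x - 1 = Nat.card {b : G ⧸ M // x • b = b ∧ b ≠ base M} := by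
        rw [fix]
        have e := Nat.card_congr (Equiv.optionSubtypeNe (⟨base M, hF.fix_base⟩ : {b : G ⧸ M // x • b = b}))
        rw [Finite.card_option] at e
        have e2 : Nat.card {b : {b : G ⧸ M // x • b = b} // b ≠ ⟨base M, hF.fix_base⟩} =
            Nat.card {b : G ⧸ M // x • b = b ∧ b ≠ base M} :=
          Nat.card_congr ⟨fun b => ⟨b.1.1, b.1.2, fun e => b.2 (Subtype.ext e)⟩,
            fun b => ⟨⟨b.1, b.2.1⟩, fun e => b.2.2 (congrArg Subtype.val e)⟩, fun _ => rfl, fun _ => rfl⟩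
        omega
      rw [this]
      refine Nat.card_le_card_of_injective (fun b => ⟨b.1, ?_⟩) fun b b' e =>
        Subtype.ext (Subtype.mk.inj e)
      obtain ⟨g, hg, hgb⟩ := hd.trans a b.1 hF.fix_pt b.2.1 hF.ne b.2.2
      exact ⟨⟨g, mem_sup_left hg⟩, hgb⟩
    · exact Nat.card_le_card_of_injective
        (fun t : T => (⟨⟨t.1, mem_sup_right t.2⟩, (hF.fix_T t t.2).2⟩ : MulAction.stabilizer U a))
        fun t t' e => Subtype.ext (congrArg (fun r : MulAction.stabilizer U a => ((r.1 : U) : G)) e)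
  refine ⟨hU, hcf, hdec, (Nat.le_div_iff_mul_le Nat.card_pos).2 hle, hle⟩

/-- **The Sylow subgroup keeping the coset.** -/
theorem exists_block {x : G} {a : G ⧸ M} {T : Subgroup G} (hF : Frame M z x a T)
    (hbig : fix M x = (deg M z + 1) ^ 2 + 1 ∨ fix M x = (deg M z + 1) ^ 3 + 1) :
    ∃ P S : Subgroup G, RegTwo M z x (base M) P ∧ IsPGroup 2 S ∧ P ≤ S ∧ T ≤ S ∧
      h.res.grp (base M) ≤ S ∧ (∀ g ∈ S, g • base M = base M) ∧
      (∀ g ∈ S, g * x * g⁻¹ * x ∈ h.res.grp (base M)) ∧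
      (∀ e ∈ h.res.grp (base M), ∃ g ∈ S, g * x * g⁻¹ = e * x) ∧
      (∀ g ∈ S, Commute x g → ∃ v ∈ P, ∃ t ∈ T, g = v * t) ∧
      (∀ U : Subgroup G, IsPGroup 2 U → (∀ g ∈ U, g • base M = base M) → Nat.card U ≤ Nat.card S) ∧
      Nat.card S = (deg M z + 1) * ((fix M x - 1) * Nat.card T) := by
  classical
  haveI : Fact (Nat.Prime 2) := ⟨Nat.prime_two⟩
  obtain ⟨P, hd⟩ := h.exists_reg hS hloc hF.bad hF.fix_base hbig
  obtain ⟨hU2, hUcf, hUdec, -, hUle⟩ := h.sup_props hS hloc hF hd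
  set U := P ⊔ T with hUdef
  set H := h.cosetStab hF.bad hF.fix_base with hHdef
  set E := h.res.grp (base M) with hEdef
  have hUH : U ≤ H := fun g hg => ⟨(hUcf g hg).2, by
    rw [← (hUcf g hg).1.eq, mul_inv_cancel_right, invol_mul_self hF.bad.invol]; exact one_mem _⟩
  obtain ⟨Sy, hSy⟩ := (hU2.of_equiv (subgroupOfEquivOfLe hUH).symm).exists_le_sylow
  set S := (Sy : Subgroup H).map H.subtype with hSdef
  have hUS : U ≤ S := fun g hg => ⟨⟨g, hUH hg⟩, hSy (mem_subgroupOf.2 hg), rfl⟩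
  have hS2 : IsPGroup 2 S := Sy.2.map _
  have hSH : S ≤ H := map_subtype_le _
  have hSp : ∀ g ∈ S, g • base M = base M := fun g hg => (hSH hg).1
  have hbound := h.card_twoGroup_le hS hloc hF hbig hS2 hSp
  -- translations
  have hline := h.lineGrp_eq hF.bad hF.fix_base
  have ha : 2 ≤ Nat.card (CAt z ({x} : Set G) (base M)) := by
    rw [show Nat.card (CAt z ({x} : Set G) (base M)) = deg M z from h.full x _ hF.bad hF.fix_base]
    exact h.two_le
  have htrans : ∀ e ∈ E, ∃ g ∈ H, g * x * g⁻¹ = e * x := fun e he => by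
    obtain ⟨k, hk, hkx⟩ := hS.exists_translate hloc (h.isBad hF.bad) hF.fix_base ha
      (show e ∈ lineGrp z x (base M) by rw [hline]; exact he)
    exact ⟨k, ⟨hk, by rw [hkx, mul_assoc, invol_mul_self hF.bad.invol, mul_one]; exact he⟩, hkx⟩
  choose τ hτH hτx using htrans
  let CH : Subgroup G := H ⊓ centralizer ({x} : Set G)
  have hcardH : Nat.card E * Nat.card CH ≤ Nat.card H ∧ Nat.card H = Nat.card E * Nat.card CH := by
    have hsame : Nat.card (E × CH) = Nat.card H := by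
      refine Nat.card_eq_of_bijective (fun w => (⟨τ w.1 w.1.2 * w.2, mul_mem (hτH _ _) w.2.2.1⟩ : H)) ⟨?_, ?_⟩
      · rintro ⟨e, c⟩ ⟨e', c'⟩ hh
        have h1 : τ e e.2 * c = τ e' e'.2 * c' := congrArg Subtype.val hh
        have hx' : ∀ (f : E) (d : CH), τ f f.2 * d * x * (τ f f.2 * d)⁻¹ = f * x := fun f d => by
          rw [show τ f f.2 * d * x * (τ f f.2 * d)⁻¹ = τ f f.2 * ((d : G) * x * (d : G)⁻¹) * (τ f f.2)⁻¹ by group,
            mem_centralizer_singleton_iff.1 d.2.2, mul_inv_cancel_right, hτx]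
        obtain rfl : e = e' := Subtype.ext (mul_right_cancel ((hx' e c).symm.trans (h1 ▸ hx' e' c')))
        exact Prod.ext rfl (Subtype.ext (mul_left_cancel h1))
      · rintro ⟨g, hgp, hge⟩
        refine ⟨(⟨_, hge⟩, ⟨(τ _ hge)⁻¹ * g, Subgroup.mem_inf.2 ⟨H.mul_mem (H.inv_mem (hτH _ _))
          (show g ∈ H from ⟨hgp, hge⟩), mem_centralizer_singleton_iff.2 ?_⟩⟩), Subtype.ext (mul_inv_cancel_left _ _)⟩
        refine mul_inv_eq_iff_eq_mul.1 ?_
        have hk : τ _ hge * x * (τ _ hge)⁻¹ = g * x * g⁻¹ := by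
          rw [hτx _ hge, mul_assoc _ x x, invol_mul_self hF.bad.invol, mul_one]
        generalize τ (g * x * g⁻¹ * x) hge = k at hk ⊢
        calc k⁻¹ * g * x * (k⁻¹ * g)⁻¹ = k⁻¹ * (g * x * g⁻¹) * k := by group
          _ = x := by rw [← hk]; group
    rw [Nat.card_prod] at hsame
    exact ⟨hsame.le, hsame.symm⟩
  have hUC : U ≤ CH := le_inf hUH fun g hg => mem_centralizer_singleton_iff.2 (hUcf g hg).1.symm.eq
  have hlow : (deg M z + 1) * Nat.card U ≤ Nat.card S := by
    have hd2 : (deg M z + 1) * Nat.card U ∣ Nat.card H := by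
      rw [hcardH.2, ← h.res.card_grp (base M)]
      exact mul_dvd_mul_left _ (card_dvd_of_le hUC)
    obtain ⟨β, -, hβ⟩ := h.exists_deg_pow
    obtain ⟨i, hi⟩ := IsPGroup.iff_card.1 hU2
    rw [hβ, hi, ← pow_add] at hd2 ⊢
    have e : Nat.card S = Nat.card (Sy : Subgroup H) := card_map_of_injective H.subtype_injective
    rw [e]
    exact Nat.le_of_dvd Nat.card_pos (Sy.pow_dvd_card_of_pow_dvd_card hd2)
  have hScard : Nat.card S = (deg M z + 1) * ((fix M x - 1) * Nat.card T) :=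
    le_antisymm (by rwa [← mul_assoc]) ((Nat.mul_le_mul_left _ hUle).trans hlow)
  -- the centralizer of `x` in `S`
  let D : Subgroup G := S ⊓ centralizer ({x} : Set G)
  have hUD : U ≤ D := le_inf hUS fun g hg => mem_centralizer_singleton_iff.2 (hUcf g hg).1.symm.eq
  have hDle : Nat.card D ≤ (fix M x - 1) * Nat.card T := by
    letI : MulAction D (G ⧸ M) := MulAction.compHom _ D.subtype
    rw [← (Nat.card_prod _ _).symm.trans (Nat.card_congr (MulAction.orbitProdStabilizerEquivGroup D a))]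
    refine Nat.mul_le_mul ?_ ?_
    · have e1 : Nat.card (MulAction.orbit D a) ≤ Nat.card {b : G ⧸ M // x • b = b ∧ b ≠ base M} := by
        refine Nat.card_le_card_of_injective (fun b => ⟨b.1, ?_⟩) fun b b' e =>
          Subtype.ext (Subtype.mk.inj e)
        obtain ⟨⟨g, hg⟩, hgb⟩ := b.2
        rw [← hgb]
        exact ⟨smul_mem_fix (mem_centralizer_singleton_iff.1 hg.2).symm hF.fix_pt,
          fun e => hF.ne (smul_left_cancel g (e.trans (hSp g hg.1).symm))⟩
      refine e1.trans (le_of_eq ?_)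
      rw [fix]
      have e := Nat.card_congr (Equiv.optionSubtypeNe (⟨base M, hF.fix_base⟩ : {b : G ⧸ M // x • b = b}))
      rw [Finite.card_option] at e
      have e2 : Nat.card {b : {b : G ⧸ M // x • b = b} // b ≠ ⟨base M, hF.fix_base⟩} =
          Nat.card {b : G ⧸ M // x • b = b ∧ b ≠ base M} :=
        Nat.card_congr ⟨fun b => ⟨b.1.1, b.1.2, fun e => b.2 (Subtype.ext e)⟩,
          fun b => ⟨⟨b.1, b.2.1⟩, fun e => b.2.2 (congrArg Subtype.val e)⟩, fun _ => rfl, fun _ => rfl⟩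
      omega
    · rw [← card_map_of_injective (K := MulAction.stabilizer D a) D.subtype_injective]
      refine hF.max _ a ((((hS2.to_le inf_le_left).to_subgroup _)).map D.subtype) hF.ne ?_
      rintro _ ⟨g, hg, rfl⟩
      exact ⟨hSp g g.2.1, MulAction.mem_stabilizer_iff.1 hg⟩
  have hDU : D = U := (eq_of_le_of_card_ge hUD (hDle.trans hUle)).symm
  refine ⟨P, S, hd, hS2, le_sup_left.trans hUS, le_sup_right.trans hUS,
    (hline ▸ hd.line_le).trans (le_sup_left.trans hUS), hSp, fun g hg => (hSH hg).2, ?_, ?_, ?_, hScard⟩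
  · intro e he
    let f : S → E := fun g => ⟨(g : G) * x * (g : G)⁻¹ * x, (hSH g.2).2⟩
    suffices hsurj : Function.Surjective f by
      obtain ⟨g, hg⟩ := hsurj ⟨e, he⟩
      exact ⟨g, g.2, by rw [← show (g : G) * x * (g : G)⁻¹ * x = e from congrArg Subtype.val hg,
        mul_assoc _ x x, invol_mul_self hF.bad.invol, mul_one]⟩
    by_contra hns
    have h1 : Nat.card (Set.range f) < Nat.card E := by
      rw [Nat.card_coe_set_eq, ← Set.ncard_univ]
      exact Set.ncard_lt_ncard ((Set.ssubset_univ_iff).2 fun hh => hns (Set.range_eq_univ.1 hh)) (Set.toFinite _)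
    have h2 : Nat.card S ≤ Nat.card (Set.range f) * Nat.card D := by
      rw [← Nat.card_prod]
      have hg : ∀ g : S, ∃ g₀ : S, f g₀ = f g ∧ g₀ = Function.invFun f (f g) := fun g =>
        ⟨_, Function.invFun_eq ⟨g, rfl⟩, rfl⟩
      refine Nat.card_le_card_of_injective (fun g : S => ((⟨f g, g, rfl⟩ : Set.range f),
        (⟨((Function.invFun f (f g) : S) : G)⁻¹ * (g : G),
          Subgroup.mem_inf.2 ⟨S.mul_mem (S.inv_mem (Function.invFun f (f g)).2) g.2, mem_centralizer_singleton_iff.2 ?_⟩⟩ : D))) ?_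
      · have e1 : f (Function.invFun f (f g)) = f g := Function.invFun_eq ⟨g, rfl⟩
        have e2 : ((Function.invFun f (f g) : S) : G) * x * ((Function.invFun f (f g) : S) : G)⁻¹ * x =
            (g : G) * x * (g : G)⁻¹ * x := congrArg Subtype.val e1
        refine mul_inv_eq_iff_eq_mul.1 ?_
        generalize ((Function.invFun f (f g) : S) : G) = k at e2 ⊢
        have e3 := mul_right_cancel e2
        calc k⁻¹ * g * x * (k⁻¹ * g)⁻¹ = k⁻¹ * ((g : G) * x * (g : G)⁻¹) * k := by group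
          _ = x := by rw [← e3]; group
      · intro g g' hh
        have e1 : f g = f g' := congrArg (fun w : Set.range f × D => w.1.1) hh
        have e2 := congrArg (fun w : Set.range f × D => (w.2 : G)) hh
        simp only [e1] at e2
        exact Subtype.ext (mul_left_cancel e2)
    have h3 : Nat.card (Set.range f) * Nat.card D < Nat.card E * Nat.card D :=
      Nat.mul_lt_mul_of_pos_right h1 Nat.card_pos
    rw [h.res.card_grp] at h3
    have h4 := Nat.mul_le_mul_left (deg M z + 1) hDle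
    omega
  · intro g hg hxg
    exact hUdec g (hDU ▸ ⟨hg, mem_centralizer_singleton_iff.2 hxg.symm.eq⟩)
  · intro V hV hVp
    rw [hScard, ← mul_assoc]
    exact h.card_twoGroup_le hS hloc hF hbig hV hVp

/-- **The Sylow data**, from the centralizing of the members by the two-elements of `M`. -/
theorem exists_sylo {x : G} {a : G ⧸ M} {T : Subgroup G} (hF : Frame M z x a T)
    (hbig : fix M x = (deg M z + 1) ^ 2 + 1 ∨ fix M x = (deg M z + 1) ^ 3 + 1)
    (hcent : ∀ (g : G) (k : ℕ), g ^ 2 ^ k = 1 → g • base M = base M → ∀ e ∈ h.res.grp (base M), Commute g e) :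
    ∃ P S : Subgroup G, h.Sylo x a T P S := by
  obtain ⟨P, S, hd, hS2, hPS, hTS, hES, hSp, hco, hsu, hdec, hmax, -⟩ := h.exists_block hS hloc hF hbig
  refine ⟨P, S, hF, hd, hS2, hSp, fun g hg => ?_, hES, hPS, hTS, hco, hsu, hdec, hmax⟩
  obtain ⟨k, hk⟩ := hS2 ⟨g, hg⟩
  exact hcent g k (congrArg Subtype.val hk) (hSp g hg)

end EqRes

end CfsgLib.SECrit.Eq
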