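import Cfsg.Agent.Lib.Invol.SECriterion.EqType.Big.Twist
import Cfsg.Agent.Lib.Invol.SECriterion.EqType.Big.Sylo
import Cfsg.Agent.Lib.Invol.SECriterion.TwoFusion
import Cfsg.Agent.Lib.Invol.SECriterion.EqType.Equal.SylowTransfer
import Mathlib.GroupTheory.Sylow
import Mathlib.GroupTheory.SpecificGroups.Cyclic
import Mathlib.GroupTheory.Transfer

/-!
# The strong embedding criterion, equal type with many fixed points: translations give centralizing

If one translation of `x` centralizes the members at the base point, all do, and the stabilizer of the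
coset acts on the members as the centralizer of `x`: a torus and field automorphisms.  The transfer of
the two-part of the field automorphisms is a two-quotient of `M`, so the two-elements of `M` centralize
the members.
-/

set_option autoImplicit false
set_option linter.style.haveILetI false

namespace CfsgLib.SECrit.Eq

open CfsgLib.Invol Small Subgroup

universe u

variable {G : Type u} [Group G] [Finite G] {M : Subgroup G} {z : G}

namespace EqRes

variable (h : EqRes M z)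
include h

/-- One translation centralizing the members gives all. -/
theorem exists_translation_all {x : G} (hx : Bad z x) (hxp : x • base M = base M) {a : G ⧸ M}
    (hap : a ≠ base M) (hxa : x • a = a) {n d : G} (hnp : n • base M = base M)
    (hnE : ∀ e ∈ h.res.grp (base M), Commute n e) (hn2 : ∃ k : ℕ, n ^ 2 ^ k = 1) (hd : d ∈ h.res.grp (base M))
    (hd1 : d ≠ 1) (hnx : n * x * n⁻¹ = d * x) {e : G} (he : e ∈ h.res.grp (base M)) :
    ∃ n : G, n • base M = base M ∧ (∀ f ∈ h.res.grp (base M), Commute n f) ∧ (∃ k : ℕ, n ^ 2 ^ k = 1) ∧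
      n * x * n⁻¹ = e * x := by
  rcases (show e = 1 ∨ _ from he) with rfl | ⟨hez, hep⟩
  · exact ⟨1, one_smul _ _, fun f _ => Commute.one_left f, ⟨0, one_pow _⟩, by simp⟩
  obtain ⟨hdz, hdp⟩ := (show d = 1 ∨ _ from hd).resolve_left hd1
  obtain ⟨c, hcp, hxc, -, -, hce⟩ := h.exists_swap_conj hx hx hap hxp hxa hxp hxa hdz hdp hez hep
  have hcip : c⁻¹ • base M = base M := inv_smul_eq_iff.2 hcp.symm
  refine ⟨c * n * c⁻¹, by rw [mul_smul, mul_smul, hcip, hnp, hcp], fun f hf => ?_,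
    hn2.imp fun k hk => by rw [conj_pow, hk, mul_one, mul_inv_cancel], ?_⟩
  · have h1 := (hnE _ (h.res.grp_conj hcip hf)).conj c
    rwa [show c * (c⁻¹ * f * c⁻¹⁻¹) * c⁻¹ = f by group] at h1
  · calc c * n * c⁻¹ * x * (c * n * c⁻¹)⁻¹ = c * n * (c⁻¹ * x * c) * n⁻¹ * c⁻¹ := by group
      _ = c * (n * x * n⁻¹) * c⁻¹ := by
        rw [show c⁻¹ * x * c = x by rw [mul_assoc, hxc.eq, inv_mul_cancel_left]]; group
      _ = c * d * c⁻¹ * (c * x * c⁻¹) := by rw [hnx]; group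
      _ = e * x := by rw [hce, ← hxc.eq, mul_inv_cancel_right]

variable (hS : Setup M z) (hgen : normalClosure ({z} : Set G) = ⊤) (hloc : ∀ x : G, IsBad M x → Local M z x)
  {x : G} {a : G ⧸ M} {T : Subgroup G} (hF : Frame M z x a T)
  (hm : fix M x = (deg M z + 1) ^ 2 + 1 ∨ fix M x = (deg M z + 1) ^ 3 + 1)
include hS hgen hloc hF hm

/-- **Centralizing from a translation.** -/
theorem commute_of_translation {n d : G} (hnp : n • base M = base M)
    (hnE : ∀ e ∈ h.res.grp (base M), Commute n e) (hn2 : ∃ k : ℕ, n ^ 2 ^ k = 1) (hd : d ∈ h.res.grp (base M))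
    (hd1 : d ≠ 1) (hnx : n * x * n⁻¹ = d * x) {g : G} {k : ℕ} (hgk : g ^ 2 ^ k = 1)
    (hgp : g • base M = base M) {e : G} (he : e ∈ h.res.grp (base M)) : Commute g e := by
  classical
  haveI : Fact (Nat.Prime 2) := ⟨Nat.prime_two⟩
  obtain ⟨P, S, -, hS2, -, -, -, hSp, hco, -, -, hmax, -⟩ := h.exists_block hS hloc hF hm
  set E := h.res.grp (base M) with hE
  set η := h.conjE.rangeRestrict with hη
  set Λ := h.centImage x with hΛ
  have hxx := invol_mul_self hF.bad.invol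
  -- the Sylow group of `M`
  have hSM : S ≤ M := fun t ht => smul_base_iff.1 (hSp t ht)
  set S' := S.subgroupOf M with hS'
  have hS'2 : IsPGroup 2 S' := hS2.of_equiv (subgroupOfEquivOfLe hSM).symm
  obtain ⟨Sy, hSy⟩ := hS'2.exists_le_sylow
  have hSyS : (Sy : Subgroup M) = S' := by
    refine (eq_of_le_of_card_ge hSy ?_).symm
    have h1 : Nat.card ((Sy : Subgroup M).map M.subtype) ≤ Nat.card S := hmax _ (Sy.2.map _) (by
      rintro _ ⟨m, -, rfl⟩; exact smul_base_iff.2 m.2)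
    rw [card_map_of_injective M.subtype_injective] at h1
    exact h1.trans (le_of_eq (Nat.card_congr (subgroupOfEquivOfLe hSM).toEquiv).symm)
  -- it acts as the centralizer of `x`
  have hSΛ : S'.map η ≤ Λ := by
    rintro _ ⟨m, hm', rfl⟩
    obtain ⟨n₁, hn₁p, hn₁E, -, hn₁x⟩ :=
      h.exists_translation_all hF.bad hF.fix_base hF.ne hF.fix_pt hnp hnE hn2 hd hd1 hnx (hco _ (mem_subgroupOf.1 hm'))
    set n' : M := ⟨n₁, smul_base_iff.1 hn₁p⟩
    refine h.mem_centImage.2 ⟨n'⁻¹ * m, ?_, ?_⟩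
    · show n₁⁻¹ * (m : G) * x = x * (n₁⁻¹ * (m : G))
      have e1 : n₁ * x * n₁⁻¹ = (m : G) * x * (m : G)⁻¹ := by
        rw [hn₁x, mul_assoc _ x x, hxx, mul_one]
      refine mul_inv_eq_iff_eq_mul.1 ?_
      calc n₁⁻¹ * (m : G) * x * (n₁⁻¹ * (m : G))⁻¹ = n₁⁻¹ * ((m : G) * x * (m : G)⁻¹) * n₁ := by group
        _ = x := by rw [← e1]; group
    · rw [map_mul, map_inv, show h.conjE.rangeRestrict n' = 1 from Subtype.ext (h.conjE_eq_one_iff.2 hn₁E),
        inv_one, one_mul]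
  have hΛodd : Odd Λ.index := by
    have h1 : Odd S'.index := by
      rw [← hSyS, Nat.odd_iff, ← Nat.two_dvd_ne_zero]
      exact Sy.not_dvd_index
    exact h1.of_dvd_nat ((index_dvd_of_le hSΛ).trans (index_map_dvd _ h.conjE.rangeRestrict_surjective))
  -- the members are centralized by `S`
  suffices hker : ∀ m ∈ S', η m = 1 by
    have hgM : g ∈ M := smul_base_iff.1 hgp
    set g' : M := ⟨g, hgM⟩
    have hg2 : IsPGroup 2 (zpowers g') := by
      rintro ⟨_, i, rfl⟩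
      refine ⟨k, Subtype.ext (Subtype.ext ?_)⟩
      show (g ^ i) ^ (2 ^ k) = 1
      rw [← zpow_natCast, zpow_comm, zpow_natCast, hgk, one_zpow]
    obtain ⟨Q, hQ⟩ := hg2.exists_le_sylow
    obtain ⟨u, hu⟩ := MulAction.exists_smul_eq M Q Sy
    have hmem : u * g' * u⁻¹ ∈ S' := by
      rw [← hSyS, ← hu, Sylow.coe_subgroup_smul, mem_pointwise_smul_iff_inv_smul_mem]
      simpa [MulAut.smul_def, mul_assoc] using hQ (mem_zpowers g')
    have h1 := hker _ hmem
    rw [map_mul, map_mul, map_inv, mul_inv_eq_one, mul_eq_left] at h1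
    exact h.conjE_eq_one_iff.1 (congrArg Subtype.val h1) e he
  by_contra hne
  push Not at hne
  obtain ⟨m₀, hm₀, hm₀ne⟩ := hne
  -- an involution
  obtain ⟨j, hj⟩ := hS'2 ⟨m₀, hm₀⟩
  have hj' : η m₀ ^ 2 ^ j = 1 := by
    rw [← map_pow, show m₀ ^ 2 ^ j = 1 from congrArg Subtype.val hj, map_one]
  obtain ⟨t, htΛ, hto⟩ : ∃ t ∈ Λ, orderOf t = 2 := by
    obtain ⟨i, hile, hi⟩ := (Nat.dvd_prime_pow Nat.prime_two).1 (orderOf_dvd_of_pow_eq_one hj')
    rcases i with - | i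
    · exact absurd (orderOf_eq_one_iff.1 (by rw [hi, pow_zero])) hm₀ne
    · refine ⟨η m₀ ^ 2 ^ i, pow_mem (hSΛ ⟨m₀, hm₀, rfl⟩) _, ?_⟩
      rw [orderOf_pow_of_dvd (by positivity) (by rw [hi, pow_succ]; exact dvd_mul_right _ _), hi, pow_succ,
        Nat.mul_div_cancel_left _ (Nat.two_pow_pos i)]
  -- the torus
  obtain ⟨C, hC, -, hCle, hCn⟩ := h.exists_torus_group' hS hloc hF.bad hF.fix_base
  obtain ⟨β, hβ⟩ := IsPGroup.iff_card.1 (h.res.isPGroup_grp (base M))
  obtain ⟨e₀, e₁, hd₀, hd₁, hd₀p, hd₁p, hne01⟩ := h.exists_two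
  have hne1 : (⟨e₀, Or.inr ⟨hd₀, hd₀p⟩⟩ : E) ≠ 1 := fun e1 =>
    invol_ne_one (h.res.crit.orderOf_conj hd₀) (congrArg Subtype.val e1)
  set ē : E := ⟨e₀, Or.inr ⟨hd₀, hd₀p⟩⟩
  set D := Λ ⊓ MulAction.stabilizer h.conjE.range ē with hD
  obtain ⟨-, hDc, -⟩ := hC.fix_normalizer hβ D hne1 (fun r hr => hr.2) fun r hr c hc => hCn r hr.1 c hc
  set C' := C.subgroupOf Λ with hC'
  haveI : C'.Normal := ⟨fun c hc r => by
    rw [mem_subgroupOf] at hc ⊢
    exact hCn r r.2 c hc⟩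
  set mk := QuotientGroup.mk' C' with hmk
  have hsurj : Function.Surjective (mk.comp (Subgroup.inclusion (inf_le_left : D ≤ Λ))) := by
    intro q
    obtain ⟨r, rfl⟩ := QuotientGroup.mk'_surjective C' q
    obtain ⟨c, hc, hce⟩ := hC.trans ē ((r : h.conjE.range) • ē) hne1 (hC.smul_ne_one hne1)
    refine ⟨⟨c⁻¹ * r, Subgroup.mem_inf.2 ⟨Λ.mul_mem (Λ.inv_mem (hCle hc)) r.2, MulAction.mem_stabilizer_iff.2
      (by rw [mul_smul, ← hce, inv_smul_smul])⟩⟩, ?_⟩
    refine (QuotientGroup.eq (s := C')).2 ?_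
    rw [mem_subgroupOf]
    show (c⁻¹ * (r : h.conjE.range))⁻¹ * r ∈ C
    rw [show (c⁻¹ * (r : h.conjE.range))⁻¹ * r = (r : h.conjE.range)⁻¹ * c * r by group]
    have := hCn _ (inv_mem r.2) c hc
    rwa [inv_inv] at this
  haveI : IsCyclic D := hDc
  haveI hcyc : IsCyclic (Λ ⧸ C') := isCyclic_of_surjective _ hsurj
  letI : CommGroup (Λ ⧸ C') := IsCyclic.commGroup
  -- its two-part
  obtain ⟨i, μ, hμ, hN⟩ := Nat.exists_eq_two_pow_mul_odd (Nat.card_pos (α := Λ ⧸ C')).ne'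
  set ψ : Λ ⧸ C' →* Λ ⧸ C' := powMonoidHom μ with hψ
  have hA2 : IsPGroup 2 ψ.range := by
    rintro ⟨_, q, rfl⟩
    refine ⟨i, Subtype.ext ?_⟩
    show (q ^ μ) ^ 2 ^ i = 1
    rw [← pow_mul, mul_comm, ← hN, pow_card_eq_one']
  set χ : Λ →* ψ.range := ψ.rangeRestrict.comp mk with hχ
  have hCodd : Odd (Nat.card C) := by
    rw [hC.card_eq hne1]
    have h1 := Nat.card_congr (Equiv.optionSubtypeNe (1 : E))
    rw [Finite.card_option, hβ] at h1
    rcases β with - | β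
    · rw [pow_zero] at h1
      have h3 : Nat.card E = 1 := hβ
      rw [Subgroup.card_eq_one] at h3
      exact absurd (h3 ▸ (Or.inr ⟨hd₀, hd₀p⟩ : e₀ ∈ E) : e₀ ∈ (⊥ : Subgroup G))
        fun e1 => invol_ne_one (h.res.crit.orderOf_conj hd₀) (mem_bot.1 e1)
    · exact ⟨2 ^ β - 1, Nat.add_right_cancel (m := 1)
        (h1.trans (by have := Nat.one_le_two_pow (n := β); rw [pow_succ]; omega))⟩
  have hord : ∀ t' : Λ, orderOf t' = 2 → mk t' * mk t' = 1 ∧ mk t' ≠ 1 := by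
    intro t' ht'
    refine ⟨by rw [← map_mul, invol_mul_self ht', map_one], fun e1 => ?_⟩
    have hC1 : (t' : h.conjE.range) ∈ C := mem_subgroupOf.1 ((QuotientGroup.eq_one_iff t').1 e1)
    have h2 : orderOf (⟨(t' : h.conjE.range), hC1⟩ : C) ∣ Nat.card C := orderOf_dvd_natCard _
    rw [orderOf_mk, orderOf_coe, ht'] at h2
    exact (Nat.not_even_iff_odd.2 hCodd) (even_iff_two_dvd.2 h2)
  have hto' : orderOf (⟨t, htΛ⟩ : Λ) = 2 := by rwa [orderOf_mk]
  have huniq : ∀ t' : Λ, orderOf t' = 2 → mk t' = mk ⟨t, htΛ⟩ := by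
    intro t' ht'
    obtain ⟨h1, h2⟩ := hord t' ht'
    obtain ⟨h3, h4⟩ := hord _ hto'
    by_contra hne2
    letI := Fintype.ofFinite (Λ ⧸ C')
    have h5 := IsCyclic.card_pow_eq_one_le (α := Λ ⧸ C') (n := 2) (by norm_num)
    have h6 : ({1, mk t', mk ⟨t, htΛ⟩} : Finset (Λ ⧸ C')) ⊆ Finset.univ.filter fun q => q ^ 2 = 1 := by
      intro q hq
      simp only [Finset.mem_insert, Finset.mem_singleton] at hq
      rw [Finset.mem_filter]
      refine ⟨Finset.mem_univ _, ?_⟩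
      rcases hq with rfl | rfl | rfl
      exacts [one_pow _, by rw [pow_two, h1], by rw [pow_two, h3]]
    have h7 := (Finset.card_le_card h6).trans h5
    rw [Finset.card_insert_of_notMem (by simp [Ne.symm h2, Ne.symm h4]), Finset.card_pair hne2] at h7
    omega
  set ι := χ ⟨t, htΛ⟩ with hι
  haveI : Λ.FiniteIndex := ⟨index_ne_zero_of_finite⟩
  have htr := transfer_invol_comm χ hto ι fun r hr => by
    show ψ.rangeRestrict (mk ⟨r⁻¹ * t * r, hr⟩) = ψ.rangeRestrict (mk ⟨t, htΛ⟩)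
    rw [huniq ⟨r⁻¹ * t * r, hr⟩ (by rw [orderOf_mk]; simpa using invol_conj hto r⁻¹)]
  have hfixodd : Odd (Nat.card {b : h.conjE.range ⧸ Λ // t • b = b}) := by
    have hmod := (Crit.isPGroup_zpowers_invol hto).card_modEq_card_fixedPoints (h.conjE.range ⧸ Λ)
    have e1 : Nat.card {b : h.conjE.range ⧸ Λ // t • b = b} =
        Nat.card (MulAction.fixedPoints (zpowers t) (h.conjE.range ⧸ Λ)) :=
      Nat.card_congr (Equiv.subtypeEquivRight fun b =>
        ⟨fun hb r => Crit.forall_zpowers_fix hb r r.2, fun hb => hb ⟨t, mem_zpowers t⟩⟩)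
    rw [e1, Nat.odd_iff, ← hmod, ← Nat.odd_iff, ← index_eq_card]
    exact hΛodd
  have hι1 : ι ≠ 1 := by
    intro e1
    obtain ⟨h3, h4⟩ := hord _ hto'
    have e2 : mk ⟨t, htΛ⟩ ^ μ = 1 := congrArg Subtype.val e1
    refine h4 ?_
    obtain ⟨w, rfl⟩ := hμ
    rwa [pow_succ, pow_mul, pow_two, h3, one_pow, one_mul] at e2
  have hιι : ι * ι = 1 := by
    rw [hι, ← map_mul, invol_mul_self hto', map_one]
  obtain ⟨w, hw⟩ := hfixodd
  rw [hw, pow_succ, pow_mul, pow_two, hιι, one_pow, one_mul] at htr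
  -- a two-quotient of `M`
  obtain ⟨m, rfl⟩ := h.conjE.rangeRestrict_surjective t
  have hprod : IsConj z (e₀ * e₁) := h.res.mul e₀ e₁ hd₀ hd₁ (h.res.comm e₀ e₁ _ hd₀ hd₁ hd₀p hd₁p) hne01
  have hχ1 := hS.crit.char_eq_one_of_two hgen hA2 ((MonoidHom.transfer χ).comp h.conjE.rangeRestrict) hd₀ hd₁
    (smul_base_iff.1 hd₀p) (smul_base_iff.1 hd₁p) hprod
  have hz := DFunLike.congr_fun hχ1 m
  rw [MonoidHom.comp_apply, htr] at hz
  exact hι1 hz

end EqRes

end CfsgLib.SECrit.Eq
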