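import Mathlib.LinearAlgebra.Dual.Lemmas
import Mathlib.LinearAlgebra.FreeModule.Finite.Basic
import Mathlib.Algebra.Module.ZMod
import Mathlib.Algebra.BigOperators.Ring.Finset
import Mathlib.GroupTheory.QuotientGroup.Basic
import Mathlib.Algebra.Field.ZMod
import Mathlib.LinearAlgebra.Finsupp.VectorSpace
import Mathlib.Tactic.Module

/-!
# A bijective quadratic map with a transitive commutative group: no involutive symmetry

`f : V → E` is bijective, its defect `B` is biadditive and non-zero, a commutative group `C` is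
transitive on `V ∖ 0` compatibly with `f`, and `|V| = 2 ^ b` with `b` odd.  The kernels `K u` of
`B u` are the radicals of the forms `φ ∘ B`, so they partition `V`; an involution commuting with `f`
that is not trivial fixes one of them pointwise or halves its dimension, and both are absurd.
-/

set_option autoImplicit false

namespace CfsgLib.SECrit

open Finset

universe u v w

variable {V : Type u} {E : Type v} {C : Type w} [AddCommGroup V] [Finite V] [AddCommGroup E] [Finite E]
  [CommGroup C] [DistribMulAction C V] [DistribMulAction C E]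

private def sgn (a : ZMod 2) : ℤ := if a = 0 then 1 else -1

private theorem sgn_add : ∀ a b : ZMod 2, sgn (a + b) = sgn a * sgn b := by decide

private theorem two_cases : ∀ a : ZMod 2, a = 0 ∨ a = 1 := by decide

/-- The defect of `f`. -/
def defect (f : V → E) (x y : V) : E := f (x + y) + f x + f y

/-- A sign sum over a group with a non-trivial character vanishes. -/
private theorem sum_sgn_eq_zero {W : Type*} [AddCommGroup W] [Fintype W] (ψ : W →+ ZMod 2) {w : W}
    (hw : ψ w ≠ 0) : ∑ x, sgn (ψ x) = 0 := by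
  have h1 : ψ w = 1 := (two_cases _).resolve_left hw
  have h2 := Fintype.sum_equiv (Equiv.addRight w) (fun x => sgn (ψ (x + w))) (fun x => sgn (ψ x)) fun x => rfl
  simp only [map_add, sgn_add, h1, ← Finset.sum_mul, show sgn (1 : ZMod 2) = -1 from rfl] at h2
  omega

/-- **No involution commutes with the form.** -/
theorem false_of_form_involution (h2V : ∀ x : V, x + x = 0) (h2E : ∀ e : E, e + e = 0) {b : ℕ}
    (hcard : Nat.card V = 2 ^ b) (hodd : Odd b) (f : V → E) (hf : Function.Bijective f)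
    (hfC : ∀ (c : C) (x : V), f (c • x) = c • f x) (htr : ∀ x y : V, x ≠ 0 → y ≠ 0 → ∃ c : C, c • x = y)
    (hB : ∀ x y z : V, f (x + y + z) + f x + f y + f z = f (x + y) + f (x + z) + f (y + z))
    (hne : ∃ x y : V, f (x + y) ≠ f x + f y) (sV : V →+ V) (sE : E →+ E) (hsE : ∀ e, sE (sE e) = e)
    (hsf : ∀ x, f (sV x) = sE (f x)) (hmove : ∃ e, sE e ≠ e) : False := by
  classical
  letI : Module (ZMod 2) V := AddCommGroup.zmodModule fun x => by rw [two_nsmul]; exact h2V x
  letI : Module (ZMod 2) E := AddCommGroup.zmodModule fun x => by rw [two_nsmul]; exact h2E x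
  letI := Fintype.ofFinite V
  letI := Fintype.ofFinite E
  -- the defect
  have hf0 : f 0 = 0 := by
    have h1 := hB 0 0 0
    simp only [add_zero] at h1
    exact left_eq_add.1 h1.symm
  set B := defect f with hBdef
  have hBadd : ∀ x y z, B (x + y) z = B x z + B y z := fun x y z => by
    show f (x + y + z) + f (x + y) + f z = f (x + z) + f x + f z + (f (y + z) + f y + f z)
    have h1 : f (x + y + z) = f (x + y) + f (x + z) + f (y + z) + f x + f y + f z := by
      rw [← hB x y z]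
      calc f (x + y + z) = f (x + y + z) + (f x + f x) + (f y + f y) + (f z + f z) := by
            rw [h2E, h2E, h2E, add_zero, add_zero, add_zero]
        _ = _ := by abel
    rw [h1]
    calc f (x + y) + f (x + z) + f (y + z) + f x + f y + f z + f (x + y) + f z
        = f (x + z) + f (y + z) + f x + f y + (f z + f z) + (f (x + y) + f (x + y)) := by abel
      _ = f (x + z) + f (y + z) + f x + f y + (f z + f z) := by rw [h2E (f (x + y)), add_zero]
      _ = _ := by abel
  have hBsymm : ∀ x y, B x y = B y x := fun x y => by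
    show f (x + y) + f x + f y = f (y + x) + f y + f x
    rw [add_comm x y]; abel
  have hBadd' : ∀ x y z, B x (y + z) = B x y + B x z := fun x y z => by
    rw [hBsymm x, hBadd, hBsymm y, hBsymm z]
  have hBself : ∀ x, B x x = 0 := fun x => by
    show f (x + x) + f x + f x = 0
    rw [h2V, hf0, zero_add, h2E]
  have hBC : ∀ (c : C) x y, B (c • x) (c • y) = c • B x y := fun c x y => by
    show f (c • x + c • y) + f (c • x) + f (c • y) = c • (f (x + y) + f x + f y)
    rw [← smul_add, hfC, hfC, hfC, smul_add, smul_add]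
  let Bh : V → (V →+ E) := fun x => AddMonoidHom.mk' (B x) (hBadd' x)
  have hBC0 : ∀ {c : C} {x : V}, x ≠ 0 → B x (c • x) = 0 → ∀ y, B y (c • y) = 0 := fun {c x} hx h1 y => by
    by_cases hy : y = 0
    · subst hy; rw [smul_zero]; exact hBself 0
    obtain ⟨d, rfl⟩ := htr x y hx hy
    rw [smul_smul, mul_comm, ← smul_smul, hBC, h1, smul_zero]
  have hadj : ∀ {c : C} {x : V}, x ≠ 0 → B x (c • x) = 0 → ∀ y z, B (c • y) z = B y (c • z) := fun hx h1 y z => by
    have h2 := hBC0 hx h1 (y + z)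
    rw [smul_add, hBadd, hBadd', hBadd', hBC0 hx h1 y, hBC0 hx h1 z, zero_add, add_zero] at h2
    rw [hBsymm, eq_comm]
    calc B y _ = B y _ + (B z _ + B z _) := by rw [h2E, add_zero]
      _ = B z _ := by rw [← add_assoc, h2, zero_add]
  -- the sizes of the kernels
  have hKcard : ∀ {x y : V}, x ≠ 0 → y ≠ 0 → Nat.card (Bh x).ker = Nat.card (Bh y).ker := fun {x y} hx hy => by
    obtain ⟨c, rfl⟩ := htr x y hx hy
    refine Nat.card_congr ⟨fun t => ⟨c • t.1, ?_⟩, fun t => ⟨c⁻¹ • t.1, ?_⟩,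
      fun t => Subtype.ext (inv_smul_smul c _), fun t => Subtype.ext (smul_inv_smul c _)⟩
    · show B (c • x) (c • t.1) = 0
      rw [hBC, show B x t.1 = 0 from t.2, smul_zero]
    · show B x (c⁻¹ • t.1) = 0
      have h1 := hBC c x (c⁻¹ • t.1)
      rw [smul_inv_smul, show B (c • x) t.1 = 0 from t.2] at h1
      exact (smul_eq_zero_iff_eq c).1 h1.symm
  let D := Module.Dual (ZMod 2) E
  haveI : Finite D := Finite.of_injective (fun φ : D => (φ : E → ZMod 2)) DFunLike.coe_injective
  letI := Fintype.ofFinite D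
  let R : D → Set V := fun φ => {x | ∀ y, φ (B x y) = 0}
  have hqE : Nat.card E = Nat.card V := (Nat.card_eq_of_bijective f hf).symm
  have hann : ∀ x : V, Nat.card {φ : D // x ∈ R φ} = Nat.card (Bh x).ker := by
    intro x
    set W : Submodule (ZMod 2) E := AddSubgroup.toZModSubmodule 2 (Bh x).range with hW
    have e1 : Nat.card {φ : D // x ∈ R φ} = Nat.card W.dualAnnihilator := by
      refine Nat.card_congr (Equiv.subtypeEquivRight fun φ => ?_)
      rw [Submodule.mem_dualAnnihilator]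
      exact ⟨fun h1 e he => by obtain ⟨y, rfl⟩ := he; exact h1 y, fun h1 y => h1 _ ⟨y, rfl⟩⟩
    have e2 : Nat.card W.dualAnnihilator = Nat.card (E ⧸ W) := by
      rw [← Nat.card_congr (Submodule.dualQuotEquivDualAnnihilator W).toEquiv]
      exact Nat.card_congr (Module.Free.chooseBasis (ZMod 2) (E ⧸ W)).toDualEquiv.symm.toEquiv
    have e3 : Nat.card W * Nat.card (E ⧸ W) = Nat.card E := (Submodule.card_eq_card_quotient_mul_card W).symm
    have e4 : Nat.card W = Nat.card (Bh x).range := rfl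
    have e5 : Nat.card (Bh x).ker * Nat.card (Bh x).range = Nat.card V := by
      rw [AddSubgroup.card_eq_card_quotient_mul_card_addSubgroup (Bh x).ker,
        Nat.card_congr (QuotientAddGroup.quotientKerEquivRange (Bh x)).toEquiv, mul_comm]
    rw [e1, e2]
    refine Nat.eq_of_mul_eq_mul_left (show 0 < Nat.card (Bh x).range from Nat.card_pos) ?_
    rw [← e4, e3, hqE, ← e5, e4, mul_comm]
  -- a point of the radical off the kernel of the form
  have hrad : ∀ φ : D, φ ≠ 0 → ∃ x ∈ R φ, φ (f x) ≠ 0 := by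
    intro φ hφ
    by_contra hh
    push Not at hh
    obtain ⟨e, he⟩ : ∃ e, φ e ≠ 0 := by
      by_contra h3; push Not at h3; exact hφ (LinearMap.ext h3)
    have hsum : ∑ x, sgn (φ (f x)) = 0 := by
      rw [Fintype.sum_bijective f hf (fun x => sgn (φ (f x))) (fun e => sgn (φ e)) fun x => rfl]
      exact sum_sgn_eq_zero φ.toAddMonoidHom he
    have key : (∑ x, sgn (φ (f x))) * ∑ x, sgn (φ (f x)) = ∑ u, sgn (φ (f u)) * ∑ x, sgn (φ (B u x)) := by
      rw [Finset.sum_mul_sum]
      calc ∑ x, ∑ y, sgn (φ (f x)) * sgn (φ (f y)) = ∑ x, ∑ u, sgn (φ (f u)) * sgn (φ (B u x)) := by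
            refine Finset.sum_congr rfl fun x _ => ?_
            refine (Fintype.sum_equiv (Equiv.addLeft x) (fun u => sgn (φ (f u)) * sgn (φ (B u x)))
              (fun y => sgn (φ (f x)) * sgn (φ (f y))) fun u => ?_).symm
            show sgn (φ (f u)) * sgn (φ (B u x)) = sgn (φ (f x)) * sgn (φ (f (x + u)))
            rw [← sgn_add, ← sgn_add, ← map_add, ← map_add]
            refine congrArg (fun t => sgn (φ t)) ?_
            show f u + (f (u + x) + f u + f x) = _
            rw [add_comm u x]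
            calc f u + (f (x + u) + f u + f x) = f x + f (x + u) + (f u + f u) := by abel
              _ = _ := by rw [h2E, add_zero]
        _ = _ := by rw [Finset.sum_comm]; simp only [Finset.mul_sum]
    rw [hsum, mul_zero] at key
    have hinner : ∀ u, sgn (φ (f u)) * ∑ x, sgn (φ (B u x)) =
        if u ∈ R φ then (Fintype.card V : ℤ) else 0 := by
      intro u
      split_ifs with hu
      · rw [hh u hu, show sgn (0 : ZMod 2) = 1 from rfl, one_mul,
          Finset.sum_congr rfl fun x _ => by rw [hu x, show sgn (0 : ZMod 2) = 1 from rfl],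
          Finset.sum_const, nsmul_eq_mul, mul_one, Finset.card_univ]
      · simp only [R, Set.mem_setOf_eq, not_forall] at hu
        obtain ⟨y, hy⟩ := hu
        rw [show ∑ x, sgn (φ (B u x)) = 0 from sum_sgn_eq_zero (φ.toAddMonoidHom.comp (Bh u)) hy, mul_zero]
    rw [Finset.sum_congr rfl fun u _ => hinner u, ← Finset.sum_filter, Finset.sum_const, nsmul_eq_mul] at key
    have h0 : (0 : V) ∈ univ.filter (· ∈ R φ) := mem_filter.2 ⟨mem_univ _, fun y => by
      show φ (f (0 + y) + f 0 + f y) = 0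
      rw [zero_add, hf0, add_zero, h2E, map_zero]⟩
    have hpos := Finset.card_pos.2 ⟨_, h0⟩
    have hV : 0 < Fintype.card V := Fintype.card_pos
    exact absurd key.symm (by positivity)
  obtain ⟨e₀, he₀⟩ := hmove
  obtain ⟨x₀, hx₀⟩ : ∃ x : V, x ≠ 0 := by
    obtain ⟨x, rfl⟩ := hf.2 e₀
    exact ⟨x, fun h1 => he₀ (by rw [h1, hf0, map_zero])⟩
  set k := Nat.card (Bh x₀).ker with hk
  have hrsub : ∀ φ : D, ∀ u ∈ R φ, u ≠ 0 → ∀ y, B u y = 0 → y ∈ R φ := by
    intro φ u hu hu0 y hy z
    by_cases hy0 : y = 0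
    · subst hy0; show φ (f (0 + z) + f 0 + f z) = 0
      rw [zero_add, hf0, add_zero, h2E, map_zero]
    obtain ⟨c, rfl⟩ := htr u y hu0 hy0
    rw [hadj hu0 hy u z]
    exact hu _
  have hge : ∀ φ : D, φ ≠ 0 → k ≤ Nat.card (R φ) := by
    intro φ hφ
    obtain ⟨u, hu, hfu⟩ := hrad φ hφ
    have hu0 : u ≠ 0 := fun e => hfu (by rw [e, hf0, map_zero])
    rw [hk, hKcard hx₀ hu0]
    exact Nat.card_le_card_of_injective (fun t : (Bh u).ker => (⟨t.1, hrsub φ u hu hu0 _ t.2⟩ : R φ))
      fun s t e => Subtype.ext (congrArg (fun r : R φ => r.1) e)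
  have hRcard : ∀ φ : D, φ ≠ 0 → Nat.card (R φ) = k := by
    intro φ₀ hφ₀
    have hDV : Fintype.card D = Fintype.card V := by
      rw [← Nat.card_eq_fintype_card, ← Nat.card_eq_fintype_card, ← hqE]
      exact Nat.card_congr (Module.Free.chooseBasis (ZMod 2) E).toDualEquiv.symm.toEquiv
    have hR0 : Nat.card (R 0) = Fintype.card V := by
      rw [show R 0 = Set.univ from Set.eq_univ_of_forall fun x y => rfl, Nat.card_coe_set_eq, Set.ncard_univ,
        Nat.card_eq_fintype_card]
    have hK0 : Nat.card (Bh 0).ker = Fintype.card V := by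
      rw [← Nat.card_eq_fintype_card]
      refine Nat.card_congr (Equiv.subtypeUnivEquiv fun y => ?_)
      show f (0 + y) + f 0 + f y = 0
      rw [zero_add, hf0, add_zero, h2E]
    have hdc : ∑ φ : D, Nat.card (R φ) = ∑ x : V, Nat.card (Bh x).ker := by
      rw [← Finset.sum_congr rfl fun x _ => hann x, ← Nat.card_sigma, ← Nat.card_sigma]
      exact Nat.card_congr ⟨fun p => ⟨p.2.1, p.1, p.2.2⟩, fun p => ⟨p.2.1, p.1, p.2.2⟩, fun _ => rfl, fun _ => rfl⟩
    rw [← Finset.add_sum_erase univ (fun φ => Nat.card (R φ)) (mem_univ (0 : D)),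
      ← Finset.add_sum_erase univ (fun x => Nat.card (Bh x).ker) (mem_univ (0 : V)), hR0, hK0,
      Finset.sum_congr rfl (fun x hx => (hKcard (Finset.ne_of_mem_erase hx) hx₀ : Nat.card (Bh x).ker = k)),
      Finset.sum_const, Finset.card_erase_of_mem (mem_univ _), Finset.card_univ] at hdc
    by_contra hne'
    have hlt : ∑ _φ ∈ univ.erase (0 : D), k < ∑ φ ∈ univ.erase (0 : D), Nat.card (R φ) :=
      Finset.sum_lt_sum (fun φ hφ => hge φ (Finset.ne_of_mem_erase hφ))
        ⟨φ₀, mem_erase.2 ⟨hφ₀, mem_univ _⟩, lt_of_le_of_ne (hge φ₀ hφ₀) (Ne.symm hne')⟩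
    rw [Finset.sum_const, Finset.card_erase_of_mem (mem_univ _), Finset.card_univ, hDV] at hlt
    simp only [smul_eq_mul, ← hk] at hdc hlt
    omega
  have hReq : ∀ φ : D, φ ≠ 0 → ∀ u ∈ R φ, u ≠ 0 → ∀ y, y ∈ R φ → B u y = 0 := by
    intro φ hφ u hu hu0 y hy
    have hsub : ((Bh u).ker : Set V) ⊆ R φ := fun t ht => hrsub φ u hu hu0 t ht
    have heq : ((Bh u).ker : Set V) = R φ := Set.eq_of_subset_of_ncard_le hsub (by
      rw [← Nat.card_coe_set_eq, ← Nat.card_coe_set_eq, hRcard φ hφ]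
      exact (hKcard hx₀ hu0).le) (Set.toFinite _)
    exact (heq.symm.subset hy : y ∈ (Bh u).ker)
  -- the kernels partition
  have hpart : ∀ {u y z : V}, u ≠ 0 → y ≠ 0 → B u y = 0 → B u z = 0 → B y z = 0 := by
    intro u y z hu hy hy' hz
    have h2 : 1 < Nat.card {φ : D // u ∈ R φ} := by
      rw [hann u, Finite.one_lt_card_iff_nontrivial]
      exact ⟨⟨0, ⟨u, hBself u⟩, fun e => hu (congrArg Subtype.val e).symm⟩⟩
    haveI := Finite.one_lt_card_iff_nontrivial.1 h2
    obtain ⟨φ, hφ⟩ := exists_ne (⟨0, fun y => rfl⟩ : {φ : D // u ∈ R φ})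
    have hφ0 : φ.1 ≠ 0 := fun e => hφ (Subtype.ext e)
    exact hReq φ.1 hφ0 y (hrsub _ u φ.2 hu y hy') hy z (hrsub _ u φ.2 hu z hz)
  -- a form killing the fixed elements
  set U : Submodule (ZMod 2) E := AddSubgroup.toZModSubmodule 2 (sE + AddMonoidHom.id E).ker with hU
  have hmemU : ∀ e, e ∈ U ↔ sE e + e = 0 := fun e => Iff.rfl
  obtain ⟨φ, hφ, hφU⟩ : ∃ φ : D, φ ≠ 0 ∧ U ≤ LinearMap.ker φ := by
    have hUe : e₀ ∉ U := fun h1 => he₀ (by
      have h3 := (hmemU e₀).1 h1
      calc sE e₀ = sE e₀ + (e₀ + e₀) := by rw [h2E, add_zero]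
        _ = e₀ := by rw [← add_assoc, h3, zero_add])
    exact Submodule.exists_le_ker_of_lt_top U (lt_top_iff_ne_top.2 fun h1 => hUe (h1 ▸ Submodule.mem_top))
  have hφs : ∀ e, φ (sE e) = φ e := fun e => by
    have h1 : φ (sE e + e) = 0 := hφU ((hmemU _).2 (by rw [map_add, hsE]; rw [add_comm e (sE e)]; exact h2E _))
    rw [map_add] at h1
    rcases two_cases (φ (sE e)) with a | a <;> rcases two_cases (φ e) with c | c <;> rw [a, c] at h1 ⊢ <;>
      exact absurd h1 (by decide)
  have hsV : ∀ x, sV (sV x) = x := fun x => hf.1 (by rw [hsf, hsf, hsE])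
  have hsB : ∀ x y, B (sV x) (sV y) = sE (B x y) := fun x y => by
    show f (sV x + sV y) + f (sV x) + f (sV y) = sE (f (x + y) + f x + f y)
    rw [← map_add, hsf, hsf, hsf, map_add, map_add]
  have hRs : ∀ x ∈ R φ, sV x ∈ R φ := fun x hx y => by
    rw [← hsV y, hsB, hφs]; exact hx _
  have hadd : ∀ x ∈ R φ, ∀ y ∈ R φ, x + y ∈ R φ := fun x hx y hy z => by rw [hBadd, map_add, hx, hy, add_zero]
  obtain ⟨u₁, hu₁, hu₁'⟩ := hrad φ hφ
  have hu₁0 : u₁ ≠ 0 := fun e => hu₁' (by rw [e, hf0, map_zero])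
  -- not all of the radical is fixed
  obtain ⟨r₁, hr₁, hr₁m⟩ : ∃ r ∈ R φ, sV r + r ≠ 0 := by
    refine ⟨u₁, hu₁, fun h1 => hu₁' (hφU ((hmemU _).2 ?_))⟩
    have h3 : sV u₁ = u₁ := by
      calc sV u₁ = sV u₁ + (u₁ + u₁) := by rw [h2V, add_zero]
        _ = u₁ := by rw [← add_assoc, h1, zero_add]
    rw [← hsf, h3, h2E]
  set w₀ := sV r₁ + r₁ with hw₀
  have hw₀R : w₀ ∈ R φ := hadd _ (hRs _ hr₁) _ hr₁
  have hw₀f : sV w₀ = w₀ := by rw [hw₀, map_add, hsV, add_comm]
  -- a point outside the radical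
  obtain ⟨v₀, hv₀⟩ : ∃ v, B w₀ v ≠ 0 := by
    obtain ⟨x, y, hxy⟩ := hne
    by_contra hh
    push Not at hh
    refine hxy ?_
    have hBxy : B x y = 0 := by
      by_cases hx : x = 0
      · subst hx; show f (0 + y) + f 0 + f y = 0
        rw [zero_add, hf0, add_zero, h2E]
      obtain ⟨c, rfl⟩ := htr w₀ x hr₁m hx
      rw [← smul_inv_smul c y, hBC, hh, smul_zero]
    calc f (x + y) = f (x + y) + (f x + f x) + (f y + f y) := by rw [h2E, h2E, add_zero, add_zero]
      _ = (f (x + y) + f x + f y) + (f x + f y) := by abel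
      _ = f x + f y := by rw [show f (x + y) + f x + f y = 0 from hBxy, zero_add]
  -- the fixed elements of the radical are displacements
  have hsurj : ∀ y ∈ R φ, sV y = y → ∃ r ∈ R φ, sV r + r = y := by
    intro y hy hyf
    by_cases hy0 : y = 0
    · exact ⟨0, fun z => by rw [← h2V w₀, hBadd, map_add, hw₀R, add_zero], by rw [map_zero, add_zero, hy0]⟩
    obtain ⟨c, hc⟩ := htr w₀ y hr₁m hy0
    have hcK : ∀ x, B x (c • x) = 0 := hBC0 hr₁m (hc ▸ hReq φ hφ w₀ hw₀R hr₁m y hy)
    refine ⟨c • r₁, ?_, ?_⟩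
    · by_cases hr0 : r₁ = 0
      · exact absurd (by rw [hw₀, hr0, map_zero, add_zero]) hr₁m
      exact hrsub φ r₁ hr₁ hr0 _ (hcK r₁)
    -- the two ways of moving agree
    let δ : V → V := fun x => sV (c • sV x) + c • x
    have hδadd : ∀ x z, δ (x + z) = δ x + δ z := fun x z => by
      show sV (c • sV (x + z)) + c • (x + z) = sV (c • sV x) + c • x + (sV (c • sV z) + c • z)
      rw [map_add, smul_add, map_add, smul_add]; abel
    have hδK : ∀ x, B x (δ x) = 0 := fun x => by
      show B x (sV (c • sV x) + c • x) = 0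
      rw [hBadd', hcK, add_zero, ← hsV x, hsV (sV x), hsV x]
      conv_lhs => arg 1; rw [← hsV x]
      rw [hsB, hcK, map_zero]
    have hδw : δ w₀ = 0 := by
      show sV (c • sV w₀) + c • w₀ = 0
      rw [hw₀f, hc, hyf, h2V]
    have hout : ∀ x, B w₀ x ≠ 0 → δ x = 0 := fun x hx => by
      by_contra hd
      have hx0 : x ≠ 0 := fun e => hx (by rw [e]; exact (Bh w₀).map_zero)
      have h1 : B (x + w₀) (δ x) = 0 := by
        have := hδK (x + w₀)
        rwa [hδadd, hδw, add_zero] at this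
      have h3 : B w₀ (δ x) = 0 := by
        rw [hBadd, hδK, zero_add] at h1
        exact h1
      exact hx (hpart hd hr₁m ((hBsymm _ _).trans h3) ((hBsymm _ _).trans (hδK x)))
    have hδ : ∀ x, δ x = 0 := fun x => by
      by_cases hx : B w₀ x = 0
      · have h1 : B w₀ (x + v₀) ≠ 0 := by rw [hBadd', hx, zero_add]; exact hv₀
        have h3 := hout _ h1
        rwa [hδadd, hout v₀ hv₀, add_zero] at h3
      · exact hout x hx
    have h1 : sV (c • sV r₁) + c • r₁ = 0 := hδ r₁
    have h3 : sV (c • r₁) = c • sV r₁ := by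
      have h4 : sV (c • sV r₁) = c • r₁ := by
        calc sV (c • sV r₁) = sV (c • sV r₁) + (c • r₁ + c • r₁) := by rw [h2V, add_zero]
          _ = c • r₁ := by rw [← add_assoc, h1, zero_add]
      rw [← h4, hsV]
    rw [h3, ← smul_add, ← hw₀, hc]
  -- so the radical has square order
  let Rg : AddSubgroup V :=
    { carrier := R φ
      add_mem' := fun {x y} hx hy => hadd x hx y hy
      zero_mem' := fun z => by rw [← h2V w₀, hBadd, map_add, hw₀R, add_zero]
      neg_mem' := fun {x} hx => by rwa [neg_eq_of_add_eq_zero_left (h2V x)] }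
  let ψ : Rg →+ Rg := AddMonoidHom.mk' (fun x => ⟨sV x.1 + x.1, hadd _ (hRs _ x.2) _ x.2⟩) fun x y =>
    Subtype.ext (show sV (x.1 + y.1) + (x.1 + y.1) = sV x.1 + x.1 + (sV y.1 + y.1) by rw [map_add]; abel)
  have hker : ψ.ker = ψ.range := by
    ext x
    constructor
    · intro hx
      have h1 : sV x.1 + x.1 = 0 := congrArg Subtype.val hx
      obtain ⟨r, hr, hrx⟩ := hsurj x.1 x.2 (by
        calc sV x.1 = sV x.1 + (x.1 + x.1) := by rw [h2V, add_zero]
          _ = x.1 := by rw [← add_assoc, h1, zero_add])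
      exact ⟨⟨r, hr⟩, Subtype.ext hrx⟩
    · rintro ⟨r, rfl⟩
      refine Subtype.ext ?_
      show sV (sV r.1 + r.1) + (sV r.1 + r.1) = 0
      rw [map_add, hsV, add_comm r.1, h2V]
  have hksq : k = Nat.card ψ.ker * Nat.card ψ.ker := by
    rw [← hRcard φ hφ]
    show Nat.card Rg = _
    rw [AddSubgroup.card_eq_card_quotient_mul_card_addSubgroup ψ.ker,
      Nat.card_congr (QuotientAddGroup.quotientKerEquivRange ψ).toEquiv, ← hker]
  -- the kernels divide the non-zero points
  let cls : {x : V // x ≠ 0} → Set V := fun x => {y | B x.1 y = 0}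
  have hfib : ∀ x : {x : V // x ≠ 0}, Nat.card {y : {y : V // y ≠ 0} // cls y = cls x} = k - 1 := by
    intro x
    have e : {y : {y : V // y ≠ 0} // cls y = cls x} ≃ {y : (Bh x.1).ker // y ≠ 0} :=
      { toFun := fun y => ⟨⟨y.1.1, show y.1.1 ∈ cls x from (Set.ext_iff.1 y.2 y.1.1).1 (hBself y.1.1)⟩, fun e => y.1.2 (congrArg Subtype.val e)⟩
        invFun := fun y => ⟨⟨y.1.1, fun e => y.2 (Subtype.ext e)⟩, Set.ext fun z =>
          ⟨fun hz => hpart (fun e => y.2 (Subtype.ext e)) x.2 ((hBsymm _ _).trans y.1.2) hz,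
           fun hz => hpart x.2 (fun e => y.2 (Subtype.ext e)) y.1.2 hz⟩⟩
        left_inv := fun _ => rfl
        right_inv := fun _ => rfl }
    rw [Nat.card_congr e, hk, hKcard hx₀ x.2]
    letI := Fintype.ofFinite (Bh x.1).ker
    rw [Nat.card_eq_fintype_card, Fintype.card_subtype_compl, Fintype.card_subtype_eq, ← Nat.card_eq_fintype_card]
  have hdvd : k - 1 ∣ 2 ^ b - 1 := by
    rw [← hcard, Nat.card_eq_fintype_card,
      show Fintype.card V - 1 = Nat.card {x : V // x ≠ 0} by
        rw [Nat.card_eq_fintype_card, Fintype.card_subtype_compl, Fintype.card_subtype_eq],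
      ← Nat.card_congr (Equiv.sigmaFiberEquiv (fun x => (⟨cls x, x, rfl⟩ : Set.range cls))), Nat.card_sigma]
    refine Finset.dvd_sum fun a _ => ?_
    obtain ⟨a, x, rfl⟩ := a
    refine dvd_of_eq ?_
    rw [← hfib x]
    exact Nat.card_congr (Equiv.subtypeEquivRight fun y => by rw [Subtype.ext_iff])
  obtain ⟨n, rfl⟩ := hodd
  obtain ⟨i, -, hi⟩ : ∃ i, i ≤ 2 * n + 1 ∧ Nat.card Rg = 2 ^ i := (Nat.dvd_prime_pow Nat.prime_two).1
    (hcard ▸ AddSubgroup.card_addSubgroup_dvd_card Rg)
  obtain ⟨j, -, hj⟩ : ∃ j, j ≤ i ∧ Nat.card ψ.ker = 2 ^ j :=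
    (Nat.dvd_prime_pow Nat.prime_two).1 (hi ▸ AddSubgroup.card_addSubgroup_dvd_card ψ.ker)
  have hj0 : j ≠ 0 := by
    rintro rfl
    haveI := (Nat.card_eq_one_iff_unique.1 (hj.trans (pow_zero 2))).1
    have := Subsingleton.elim (⟨⟨w₀, hw₀R⟩, Subtype.ext (show sV w₀ + w₀ = 0 by rw [hw₀f, h2V])⟩ : ψ.ker) 0
    exact hr₁m (congrArg (fun t : ψ.ker => t.1.1) this)
  rw [hksq, hj, ← pow_add, ← two_mul, pow_mul] at hdvd
  have h3 : 3 ∣ (2 ^ 2) ^ j - 1 := by
    have := Nat.sub_dvd_pow_sub_pow (2 ^ 2) 1 j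
    rwa [one_pow] at this
  have h4 : 3 ∣ (2 ^ 2) ^ n - 1 := by
    have := Nat.sub_dvd_pow_sub_pow (2 ^ 2) 1 n
    rwa [one_pow] at this
  have h5 : 2 ^ (2 * n + 1) = 2 * (2 ^ 2) ^ n := by rw [pow_succ, pow_mul, mul_comm]
  have h6 := h3.trans hdvd
  have h7 := Nat.one_le_pow n (2 ^ 2) (by norm_num)
  rw [h5] at h6
  obtain ⟨a, ha⟩ := h4
  obtain ⟨a', ha'⟩ := h6
  omega

end CfsgLib.SECrit
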