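import Cfsg.Agent.Lib.Invol.SECriterion.EqType.Big.CentRoot
import Cfsg.Agent.Lib.Invol.SECriterion.EqType.Big.CentTrans
import Cfsg.Agent.Lib.Invol.SECriterion.EqType.Big.FormInvol
import Mathlib.GroupTheory.QuotientGroup.Basic

/-!
# The strong embedding criterion, equal type with many fixed points: the members are centralized

If no translation of `x` centralized the members, the squares of the regular group would be a bijective
quadratic map onto the members commuting with the torus and with an involution moving them.  So some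
translation does, all do, and the two-elements of `M` centralize the members.
-/

set_option autoImplicit false
set_option linter.style.haveILetI false
set_option linter.unusedSectionVars false

namespace CfsgLib.SECrit.Eq

open CfsgLib.Invol Small Subgroup

universe u

variable {G : Type u} [Group G] [Finite G] {M : Subgroup G} {z : G}

namespace EqRes

variable (h : EqRes M z) (hS : Setup M z) (hgen : normalClosure ({z} : Set G) = ⊤)
  (hloc : ∀ x : G, IsBad M x → Local M z x) {x : G} {a : G ⧸ M} {T : Subgroup G} (hF : Frame M z x a T)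
  (hm : fix M x = (deg M z + 1) ^ 2 + 1 ∨ fix M x = (deg M z + 1) ^ 3 + 1)
include h hS hgen hloc hF hm

/-- **Some translation centralizes the members.** -/
theorem not_noTrans : ¬ NoTrans h x := by
  classical
  intro hb
  haveI : Fact (Nat.Prime 2) := ⟨Nat.prime_two⟩
  have hx := hF.bad
  have hxp := hF.fix_base
  have hxx := invol_mul_self hx.invol
  have hfix := h.fix_sq hS hgen hloc hF hm hb
  have hT := h.T_trivial hS hgen hloc hF hm hb
  obtain ⟨P, S, hP, hdec, hPS, hTS, hSp, hco, g, hg, -, ⟨eg, heg, hne⟩, hg2, -⟩ :=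
    h.exists_line_mover hS hgen hloc hF hm hb
  obtain ⟨C, β, hC, -, hCloc, hodd, hβ3, hβ, -, -⟩ := h.exists_pencil hS hloc hx hxp hb
  have hsU := h.sqUnique hS hloc hx hxp hF.ne hF.fix_pt hfix hP
  set E := h.res.grp (base M) with hE
  set ρ := h.conjE.rangeRestrict with hρ
  have hEP := h.grp_le_reg hS hloc hx hxp hP
  have hxE : ∀ e ∈ E, Commute x e := fun e he => h.commute_grp hx hxp he
  have hxn : x ∉ E := fun hh => by
    rcases (show x = 1 ∨ _ from hh) with h1 | h1
    exacts [invol_ne_one hx.invol h1, hx.not_conj h1.1]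
  -- the kernel part is `1` or `x`
  have hker : ∀ k ∈ P, k ∈ locKer M z x → k = 1 ∨ k = x := by
    intro k hkP hk
    obtain ⟨-, hkp, j, hj⟩ := (hP.mem k).1 hkP
    have hcard : Nat.card (zpowers k) ≤ 2 := by
      have hmax := hF.max (zpowers k) a (fun r => by
        obtain ⟨-, -, i, hi⟩ := (hP.mem _).1 (zpowers_le.2 hkP r.2)
        exact ⟨i, Subtype.ext hi⟩) hF.ne fun r hr =>
        ⟨Crit.forall_zpowers_fix hkp r hr, Crit.forall_zpowers_fix ((mem_locKer.1 hk).2 a hF.fix_pt) r hr⟩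
      refine hmax.trans ?_
      rw [show (2 : ℕ) = Nat.card (Fin 2) by simp]
      refine Nat.card_le_card_of_injective (fun t : T => if (t : G) = 1 then (0 : Fin 2) else 1) fun t t' e => ?_
      rcases hT t t.2 with h1 | h1 <;> rcases hT t' t'.2 with h2 | h2 <;>
        simp [h1, h2, invol_ne_one hx.invol] at e <;> exact Subtype.ext (h1.trans h2.symm)
    rw [Nat.card_zpowers] at hcard
    refine h.klein_two hS hgen hloc hF hm hb hF.ne hF.fix_pt ?_
      ⟨⟨mem_centralizer_singleton_iff.2 (commute_of_mem_locGroup (mem_locKer.1 hk).1).symm.eq,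
        MulAction.mem_stabilizer_iff.2 hkp⟩,
        MulAction.mem_stabilizer_iff.2 ((mem_locKer.1 hk).2 a hF.fix_pt)⟩
    rw [← pow_two, ← orderOf_dvd_iff_pow_eq_one]
    have := orderOf_pos k
    interval_cases hh : orderOf k <;> simp
  have hPc : ∀ e ∈ E, ∀ v ∈ P, Commute e v := fun e he v hv =>
    h.reg_comm_grp hS hloc hx hxp hF.ne hF.fix_pt hP he hv
  have hPx : ∀ v ∈ P, Commute x v := fun v hv => RegTwo_commute hP hv
  -- squares
  have hsq : ∀ v ∈ P, ∃ e ∈ E, v * v = e ∨ v * v = e * x := by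
    intro v hv
    obtain ⟨e, he, hek⟩ := hP.sq v hv
    rw [h.lineGrp_eq hx hxp] at he
    refine ⟨e, he, ?_⟩
    rcases hker _ (mul_mem (hEP he) (mul_mem hv hv)) hek with h1 | h1
    · exact Or.inl (by rw [eq_inv_of_mul_eq_one_right h1, inv_eq_of_mul_eq_one_right (h.res.grp_sq he)])
    · exact Or.inr (by rw [← h1, ← mul_assoc, h.res.grp_sq he, one_mul])
  -- the trivial part
  let W : Subgroup G :=
    { carrier := {w | w ∈ P ∧ ∃ e ∈ E, w = e ∨ w = e * x}
      one_mem' := ⟨one_mem _, 1, one_mem _, Or.inl rfl⟩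
      mul_mem' := by
        rintro w w' ⟨hw, e, he, h1⟩ ⟨hw', e', he', h2⟩
        refine ⟨mul_mem hw hw', e * e', mul_mem he he', ?_⟩
        rcases h1 with rfl | rfl <;> rcases h2 with rfl | rfl
        · exact Or.inl rfl
        · exact Or.inr (mul_assoc _ _ _).symm
        · exact Or.inr (by rw [mul_assoc, (hxE _ he').eq, mul_assoc])
        · refine Or.inl ?_
          rw [(hxE e' he').mul_mul_mul_comm, hxx, mul_one]
      inv_mem' := by
        rintro w ⟨hw, e, he, h1⟩
        refine ⟨inv_mem hw, e, he, ?_⟩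
        rcases h1 with rfl | rfl
        · exact Or.inl (inv_eq_of_mul_eq_one_right (h.res.grp_sq he))
        · exact Or.inr (by rw [mul_inv_rev, inv_eq_of_mul_eq_one_right (h.res.grp_sq he), invol_inv hx.invol,
            (hxE e he).eq]) }
  have hWc : ∀ w ∈ W, ∀ v ∈ P, Commute w v := by
    rintro w ⟨-, e, he, rfl | rfl⟩ v hv
    exacts [hPc _ he v hv, (hPc e he v hv).mul_left (hPx v hv)]
  have hW2 : ∀ w ∈ W, w * w = 1 := by
    rintro w ⟨-, e, he, rfl | rfl⟩
    exacts [h.res.grp_sq he, by rw [(hxE e he).mul_mul_mul_comm, h.res.grp_sq he, hxx, one_mul]]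
  have hsqW : ∀ v ∈ P, v * v ∈ W := fun v hv => ⟨mul_mem hv hv, hsq v hv⟩
  have hcoset : ∀ u ∈ P, ∀ v ∈ P, ∀ e ∈ E, (u * u = e ∨ u * u = e * x) → (v * v = e ∨ v * v = e * x) →
      u⁻¹ * v ∈ W := by
    intro u hu v hv e he h1 h2
    have hk : ∀ v ∈ P, (v * v = e ∨ v * v = e * x) → e * (v * v) ∈ locKer M z x := fun v hv h1 => by
      rcases h1 with h1 | h1 <;> rw [h1]
      · rw [h.res.grp_sq he]; exact one_mem _
      · have h3 : e * (v * v) ∈ P := mul_mem (hEP he) (mul_mem hv hv)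
        rw [h1, ← mul_assoc, h.res.grp_sq he, one_mul] at h3
        rw [← mul_assoc, h.res.grp_sq he, one_mul]
        exact mem_locKer.2 ⟨((hP.mem x).1 h3).1, fun b hb' => hb'⟩
    obtain ⟨f, hf, hfk⟩ := hsU u hu v hv e he (hk u hu h1) (hk v hv h2)
    refine ⟨mul_mem (inv_mem hu) hv, f, hf, ?_⟩
    rcases hker _ (mul_mem (hEP hf) (mul_mem (inv_mem hu) hv)) hfk with h3 | h3
    · exact Or.inl (by rw [eq_inv_of_mul_eq_one_right h3, inv_eq_of_mul_eq_one_right (h.res.grp_sq hf)])
    · exact Or.inr (by rw [← h3, ← mul_assoc, h.res.grp_sq hf, one_mul])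
  -- the commutator
  let br : G → G → G := fun v u => v * u * v⁻¹ * u⁻¹
  have hbrW : ∀ v ∈ P, ∀ u ∈ P, br v u ∈ W ∧ u * v * (u * v) = br v u * (u * u) * (v * v) := by
    intro v hv u hu
    have e1 : br v u = v * v * (v⁻¹ * u * (v⁻¹ * u)) * (u⁻¹ * u⁻¹) := by
      show v * u * v⁻¹ * u⁻¹ = _
      group
    have hmem : br v u ∈ W := e1 ▸ mul_mem (mul_mem (hsqW v hv) (hsqW _ (mul_mem (inv_mem hv) hu)))
      (hsqW _ (inv_mem hu))
    refine ⟨hmem, ?_⟩
    calc u * v * (u * v) = u * (br v u * (u * v)) * v := by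
          show _ = u * (v * u * v⁻¹ * u⁻¹ * (u * v)) * v
          group
      _ = u * br v u * (u * v * v) := by group
      _ = br v u * (u * u) * (v * v) := by rw [← (hWc _ hmem u hu).eq]; group
  have hbrl : ∀ v ∈ P, ∀ v' ∈ P, ∀ u ∈ P, br (v * v') u = br v u * br v' u := by
    intro v hv v' hv' u hu
    have h1 := (hbrW v' hv' u hu).1
    calc br (v * v') u = v * br v' u * (u * v⁻¹ * u⁻¹) := by
          show v * v' * u * (v * v')⁻¹ * u⁻¹ = v * (v' * u * v'⁻¹ * u⁻¹) * (u * v⁻¹ * u⁻¹)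
          group
      _ = br v' u * (v * u * v⁻¹ * u⁻¹) := by rw [← (hWc _ h1 v hv).eq]; group
      _ = _ := (hWc _ h1 _ (hbrW v hv u hu).1.1).eq
  -- the torus moves squares
  obtain ⟨d₀, -, hd₀, -, hd₀p, -, -⟩ := h.exists_two
  have hlift : ∀ c ∈ C, ∃ m : M, Commute x (m : G) ∧ (m : G) • base M = base M ∧
      (∀ v ∈ P, (m : G) * v * (m : G)⁻¹ ∈ P) ∧ ρ m = c := fun c hc => by
    obtain ⟨m, hmL, hmc⟩ := hCloc c hc
    exact ⟨m, commute_of_mem_locGroup hmL, smul_base_iff.2 m.2,
      fun v hv => RegTwo_conj hP (commute_of_mem_locGroup hmL) (smul_base_iff.2 m.2) hv, hmc⟩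
  -- the fibres
  let V := P ⧸ W.subgroupOf P
  haveI hWn : (W.subgroupOf P).Normal := ⟨fun w hw v => by
    rwa [show v * w = w * v from Subtype.ext (hWc w (mem_subgroupOf.1 hw) v v.2).eq.symm, mul_inv_cancel_right]⟩
  have hVle : Nat.card V ≤ Nat.card E := by
    let φ : V → E := fun q => ⟨Classical.choose (hsq (q.out : G) q.out.2),
      (Classical.choose_spec (hsq (q.out : G) q.out.2)).1⟩
    refine Nat.card_le_card_of_injective φ fun q q' e => ?_
    have h1 := (Classical.choose_spec (hsq (q.out : G) q.out.2)).2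
    have h2 := (Classical.choose_spec (hsq (q'.out : G) q'.out.2)).2
    have e' : Classical.choose (hsq (q.out : G) q.out.2) = Classical.choose (hsq (q'.out : G) q'.out.2) :=
      congrArg Subtype.val e
    rw [← e'] at h2
    rw [← QuotientGroup.out_eq' q, ← QuotientGroup.out_eq' q', QuotientGroup.eq, mem_subgroupOf]
    exact hcoset _ q.out.2 _ q'.out.2 _ (Classical.choose_spec (hsq (q.out : G) q.out.2)).1 h1 h2
  have hWcard : Nat.card (W.subgroupOf P) ≤ 2 * Nat.card E := by
    rw [mul_comm, show (2 : ℕ) = Nat.card Bool by simp, ← Nat.card_prod]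
    have hx2 : ∀ w : W.subgroupOf P, ∃ r : E × Bool, ((w : P) : G) = r.1 * (if r.2 then x else 1) := fun w => by
      obtain ⟨-, e, he, h1 | h1⟩ := mem_subgroupOf.1 w.2
      · exact ⟨(⟨e, he⟩, false), by simpa using h1⟩
      · exact ⟨(⟨e, he⟩, true), by simpa using h1⟩
    choose r hr using hx2
    exact Nat.card_le_card_of_injective r fun w w' e => Subtype.ext (Subtype.ext (by rw [hr w, hr w', e]))
  obtain ⟨β', hβ'2, hβ'⟩ := h.exists_deg_pow
  have hb' := h.isBad hx
  obtain ⟨P', hP', -, hPcard⟩ := hS.exists_regTwo (hloc x hb') hb' hxp (β := β) (m := 2)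
    (by rw [show Nat.card (CAt z ({x} : Set G) (base M)) = deg M z from h.full x _ hx hxp, hβ]) (by omega)
    le_rfl (show fix M x = _ by rw [hfix, hβ, ← pow_mul])
  obtain rfl : P = P' := Subgroup.ext fun g => (hP.mem g).trans (hP'.mem g).symm
  rw [h.lineGrp_eq hx hxp] at hPcard
  have hEcard : Nat.card E = 2 ^ β := (h.res.card_grp _).trans hβ
  have hWsmall : Nat.card (W.subgroupOf P) = Nat.card E * Nat.card (P ⊓ locKer M z x : Subgroup G) := by
    rw [← Nat.card_prod]
    have hmem : ∀ r : E × (P ⊓ locKer M z x : Subgroup G), (r.1 : G) * r.2 ∈ P ∧ (r.1 : G) * r.2 ∈ W := fun r =>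
      ⟨mul_mem (hEP r.1.2) r.2.2.1, mul_mem (hEP r.1.2) r.2.2.1, r.1, r.1.2, by
        rcases hker _ r.2.2.1 r.2.2.2 with h1 | h1 <;> rw [h1]
        · exact Or.inl (mul_one _)
        · exact Or.inr rfl⟩
    refine (Nat.card_eq_of_bijective (fun r => (⟨⟨_, (hmem r).1⟩, mem_subgroupOf.2 (hmem r).2⟩ : W.subgroupOf P))
      ⟨fun r r' hh => ?_, fun w => ?_⟩).symm
    · have h1 : (r.1 : G) * r.2 = r'.1 * r'.2 := congrArg (fun w : W.subgroupOf P => ((w : P) : G)) hh
      have h2 : (r'.1 : G)⁻¹ * r.1 = r'.2 * (r.2 : G)⁻¹ := by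
        rw [eq_mul_inv_iff_mul_eq, mul_assoc, h1, inv_mul_cancel_left]
      have h3 : (r'.1 : G)⁻¹ * r.1 ∈ locKer M z x := by rw [h2]; exact mul_mem r'.2.2.2 (inv_mem r.2.2.2)
      have h4 : r'.1 = r.1 := Subtype.ext (inv_mul_eq_one.1
        (h.eq_one_of_locKer hx hxp hF.ne hF.fix_pt hP (mul_mem (inv_mem r'.1.2) r.1.2) h3))
      rw [h4] at h1
      exact Prod.ext h4.symm (Subtype.ext (mul_left_cancel h1))
    · obtain ⟨hwP, e, he, h1⟩ := mem_subgroupOf.1 w.2
      have hk : e * ((w : P) : G) ∈ P ⊓ locKer M z x := by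
        refine ⟨mul_mem (hEP he) hwP, ?_⟩
        rcases h1 with h1 | h1
        · rw [h1, h.res.grp_sq he]; exact one_mem _
        · have h2 := mul_mem (hEP he) hwP
          rw [h1, ← mul_assoc, h.res.grp_sq he, one_mul] at h2
          rw [h1, ← mul_assoc, h.res.grp_sq he, one_mul]
          exact mem_locKer.2 ⟨((hP.mem x).1 h2).1, fun b hb' => hb'⟩
      exact ⟨(⟨e, he⟩, ⟨_, hk⟩), Subtype.ext (Subtype.ext (by
        show e * (e * ((w : P) : G)) = _
        rw [← mul_assoc, h.res.grp_sq he, one_mul]))⟩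
  have hVcard : Nat.card V = Nat.card E := by
    have h1 := card_eq_card_quotient_mul_card_subgroup (W.subgroupOf P)
    rw [hWsmall, hPcard, pow_two, mul_assoc (Nat.card E) (Nat.card E)] at h1
    exact (Nat.eq_of_mul_eq_mul_right (Nat.mul_pos Nat.card_pos Nat.card_pos) h1).symm
  -- squares lie in `E`
  have hsqE : ∀ v ∈ P, v * v ∈ E := by
    by_contra hh
    push Not at hh
    obtain ⟨v₀, hv₀, hv₀E⟩ := hh
    obtain ⟨e₀, he₀, h0⟩ := hsq v₀ hv₀
    replace h0 : v₀ * v₀ = e₀ * x := h0.resolve_left fun e => hv₀E (e ▸ he₀)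
    have he₀1 : e₀ ≠ 1 := fun e => by
      have h1 := hcoset 1 (one_mem _) v₀ hv₀ 1 (one_mem _) (Or.inl (one_mul 1)) (Or.inr (by rw [h0, e]))
      rw [inv_one, one_mul] at h1
      have h2 := hW2 _ h1
      rw [h0, e, one_mul] at h2
      exact invol_ne_one hx.invol h2
    have hall : ∀ v ∈ P, v ∉ W → ∃ e ∈ E, v * v = e * x := by
      intro v hv hvW
      obtain ⟨e, he, h1⟩ := hsq v hv
      by_cases he1 : e = 1
      · have h2 := hcoset 1 (one_mem _) v hv 1 (one_mem _) (Or.inl (one_mul 1)) (by rwa [he1] at h1)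
        rw [inv_one, one_mul] at h2
        exact absurd h2 hvW
      obtain ⟨c, hc, hce⟩ := hC.trans ⟨e₀, he₀⟩ ⟨e, he⟩ (fun e1 => he₀1 (congrArg Subtype.val e1))
        fun e1 => he1 (congrArg Subtype.val e1)
      obtain ⟨m, hxm, hmp, hmP, rfl⟩ := hlift c hc
      have he' : (m : G) * e₀ * (m : G)⁻¹ = e := congrArg Subtype.val hce
      set v' := (m : G) * v₀ * (m : G)⁻¹
      have h2 : v' * v' = e * x := by
        rw [← he', show v' * v' = (m : G) * (v₀ * v₀) * (m : G)⁻¹ by simp only [v']; group, h0]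
        rw [show (m : G) * (e₀ * x) * (m : G)⁻¹ = (m : G) * e₀ * (m : G)⁻¹ * ((m : G) * x * (m : G)⁻¹) by group,
          ← hxm.eq, mul_inv_cancel_right]
      have h3 := hcoset v' (hmP v₀ hv₀) v hv e he (Or.inr h2) h1
      refine ⟨e, he, ?_⟩
      rw [show v = v' * (v'⁻¹ * v) by group, (hWc _ h3 v' (hmP v₀ hv₀)).mul_mul_mul_comm, h2, hW2 _ h3, mul_one]
    -- three independent classes
    have hVbig : 8 ≤ Nat.card V := by
      rw [hVcard, hEcard]
      exact le_trans (by norm_num) (Nat.pow_le_pow_right (n := 2) (by norm_num) hβ3)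
    have hnotin : ∀ l : Finset V, l.card < 8 → ∃ q : V, q ∉ l := fun l hl => by
      by_contra hh
      push Not at hh
      letI := Fintype.ofFinite V
      have h1 := Finset.card_le_card (fun q (_ : q ∈ (Finset.univ : Finset V)) => hh q)
      rw [Finset.card_univ, ← Nat.card_eq_fintype_card] at h1
      omega
    let π := QuotientGroup.mk' (W.subgroupOf P)
    obtain ⟨qu, hqu⟩ := hnotin {1} (by simp)
    obtain ⟨qv, hqv⟩ := hnotin {1, qu} (lt_of_le_of_lt (Finset.card_le_two) (by norm_num))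
    obtain ⟨qw, hqw⟩ := hnotin {1, qu, qv, qu * qv} (lt_of_le_of_lt (Finset.card_le_four) (by norm_num))
    obtain ⟨u, rfl⟩ := QuotientGroup.mk'_surjective (W.subgroupOf P) qu
    obtain ⟨v, rfl⟩ := QuotientGroup.mk'_surjective (W.subgroupOf P) qv
    obtain ⟨w, rfl⟩ := QuotientGroup.mk'_surjective (W.subgroupOf P) qw
    have hout : ∀ r : P, π r ≠ 1 → (r : G) ∉ W := fun r hr hrW =>
      hr ((QuotientGroup.eq_one_iff _).2 (mem_subgroupOf.2 hrW))
    have hsq2 : ∀ r : P, π r * π r = 1 := fun r => by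
      rw [← map_mul]; exact (QuotientGroup.eq_one_iff _).2 (mem_subgroupOf.2 (hsqW r r.2))
    have hxe : ∀ e ∈ E, ∀ f ∈ E, e * x * (f * x) = e * f := fun e he f hf => by
      rw [(hxE f hf).mul_mul_mul_comm, hxx, mul_one]
    -- the commutator of two classes
    have hcx : ∀ r s : P, π r ≠ 1 → π s ≠ 1 → π r ≠ π s → ∃ e ∈ E, br r s = e * x := by
      intro r s hr hs hrs
      have h12 : π (s * r) ≠ 1 := fun e => hrs (by
        rw [map_mul] at e
        exact (eq_inv_of_mul_eq_one_right e).trans (inv_eq_of_mul_eq_one_right (hsq2 s)))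
      obtain ⟨e₁, he₁, h1⟩ := hall r r.2 (hout r hr)
      obtain ⟨e₂, he₂, h2⟩ := hall s s.2 (hout s hs)
      obtain ⟨e₃, he₃, h3⟩ := hall _ (mul_mem s.2 r.2) (hout (s * r) h12)
      rw [(hbrW r r.2 s s.2).2, h1, h2, mul_assoc, hxe e₂ he₂ e₁ he₁] at h3
      refine ⟨e₃ * (e₂ * e₁), mul_mem he₃ (mul_mem he₂ he₁), ?_⟩
      have h4 := eq_mul_inv_of_mul_eq h3
      rw [h4, inv_eq_of_mul_eq_one_right (h.res.grp_sq (mul_mem he₂ he₁)), mul_assoc,
        (hxE _ (mul_mem he₂ he₁)).eq, ← mul_assoc]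
    simp only [Finset.mem_insert, Finset.mem_singleton, not_or] at hqu hqv hqw
    obtain ⟨e₁, he₁, h1⟩ := hcx v u hqv.1 hqu hqv.2
    obtain ⟨e₂, he₂, h2⟩ := hcx w u hqw.1 hqu hqw.2.1
    obtain ⟨e₃, he₃, h3⟩ := hcx (v * w) u
      (fun e => hqw.2.2.1 (by
        rw [map_mul] at e
        exact (eq_inv_of_mul_eq_one_right e).trans (inv_eq_of_mul_eq_one_right (hsq2 v))))
      hqu (fun e => hqw.2.2.2 (by
        rw [map_mul] at e
        show π w = π u * π v
        have hab : π v * π u = π u * π v := by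
          have h5 := hsq2 (v * u)
          rw [map_mul] at h5
          rw [eq_inv_of_mul_eq_one_left h5, mul_inv_rev, inv_eq_of_mul_eq_one_right (hsq2 u),
            inv_eq_of_mul_eq_one_right (hsq2 v)]
        rw [← hab, ← e, ← mul_assoc, hsq2, one_mul]))
    have h4 := hbrl v v.2 w w.2 u u.2
    rw [show br ((v : G) * w) u = e₃ * x from h3, h1, h2, hxe e₁ he₁ e₂ he₂] at h4
    refine hxn ?_
    rw [show x = e₃⁻¹ * (e₁ * e₂) by rw [← h4, inv_mul_cancel_left]]
    exact mul_mem (inv_mem he₃) (mul_mem he₁ he₂)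
  -- the form
  have hx2W : ∀ u ∈ P, ∀ v ∈ P, u⁻¹ * v ∈ W → u * u = v * v := fun u hu v hv hw => by
    conv_rhs => rw [show v = u * (u⁻¹ * v) by group]
    rw [(hWc _ hw u hu).mul_mul_mul_comm, hW2 _ hw, mul_one]
  let f₀ : V → E := fun q => Quotient.liftOn' q (fun v : P => (⟨(v : G) * v, hsqE v v.2⟩ : E)) fun u v huv =>
    Subtype.ext (hx2W u u.2 v v.2 (mem_subgroupOf.1 (QuotientGroup.leftRel_apply.1 huv)))
  have hf₀ : ∀ v : P, (f₀ (QuotientGroup.mk v) : G) = (v : G) * v := fun v => rfl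
  have hinj : Function.Injective f₀ := fun q q' e => by
    induction q using QuotientGroup.induction_on with | _ u => ?_
    induction q' using QuotientGroup.induction_on with | _ v => ?_
    have h1 : (u : G) * u = (v : G) * v := by rw [← hf₀, ← hf₀, e]
    exact QuotientGroup.eq.2 (mem_subgroupOf.2 (hcoset u u.2 v v.2 _ (hsqE u u.2) (Or.inl rfl) (Or.inl h1.symm)))
  have hbij : Function.Bijective f₀ := (Nat.bijective_iff_injective_and_card f₀).2 ⟨hinj, hVcard⟩
  letI : CommGroup V :=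
    { (inferInstance : Group V) with
      mul_comm := fun q q' => by
        induction q using QuotientGroup.induction_on with | _ u => ?_
        induction q' using QuotientGroup.induction_on with | _ v => ?_
        refine QuotientGroup.eq.2 (mem_subgroupOf.2 ?_)
        show ((u : G) * v)⁻¹ * (v * u) ∈ W
        have h1 := (hbrW v v.2 u u.2).1
        rw [show ((u : G) * v)⁻¹ * (v * u) = ((u : G) * v)⁻¹ * br v u * ((u : G) * v) by
          simp only [br]; group, mul_assoc, (hWc _ h1 _ (mul_mem u.2 v.2)).eq, inv_mul_cancel_left]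
        exact h1 }
  letI : CommGroup E := { (inferInstance : Group E) with mul_comm := hC.mul_comm' }
  letI : CommGroup C := { (inferInstance : Group C) with mul_comm := fun a b => Subtype.ext (hC.comm a a.2 b b.2) }
  let fe := Equiv.ofBijective f₀ hbij
  let mkV : P → Additive V := fun v => Additive.ofMul (QuotientGroup.mk v : V)
  let f : Additive V → Additive E := fun q => Additive.ofMul (f₀ q.toMul)
  have hfb : Function.Bijective f := Additive.ofMul.bijective.comp (hbij.comp Additive.toMul.bijective)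
  letI : DistribMulAction C (Additive E) :=
    { smul := fun c e => Additive.ofMul ((c : h.conjE.range) • e.toMul)
      one_smul := fun e => congrArg Additive.ofMul (one_smul h.conjE.range e.toMul)
      mul_smul := fun c c' e => congrArg Additive.ofMul (mul_smul (c : h.conjE.range) (c' : h.conjE.range) e.toMul)
      smul_zero := fun c => congrArg Additive.ofMul (smul_one (c : h.conjE.range))
      smul_add := fun c e e' => congrArg Additive.ofMul (smul_mul' (c : h.conjE.range) e.toMul e'.toMul) }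
  have hfinj := hfb.1
  let fi := Equiv.ofBijective f hfb
  have hfi : ∀ e, f (fi.symm e) = e := fun e => fi.apply_symm_apply e
  have hact : ∀ c : C, ∀ q : Additive V, ∃ m : G, ∀ v : P, mkV v = q →
      ∃ hmv : m * v * m⁻¹ ∈ P, f (mkV ⟨_, hmv⟩) = c • f q := fun c q => by
    obtain ⟨m, -, -, hmP, hmc⟩ := hlift c c.2
    refine ⟨(m : G), fun v hv => ⟨hmP v v.2, ?_⟩⟩
    subst hv
    refine congrArg Additive.ofMul (Subtype.ext ?_)
    show (m : G) * v * (m : G)⁻¹ * ((m : G) * v * (m : G)⁻¹) = ((c : h.conjE.range) • (f₀ (QuotientGroup.mk v)) : E)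
    rw [← hmc]
    show _ = (m : G) * ((v : G) * v) * (m : G)⁻¹
    group
  let sm : C → Additive V → Additive V := fun c q => fi.symm (c • f q)
  have hsm : ∀ c q, f (sm c q) = c • f q := fun c q => hfi _
  have hsmadd : ∀ c q q', sm c (q + q') = sm c q + sm c q' := by
    intro c q q'
    obtain ⟨m, -, -, hmP, hmc⟩ := hlift c c.2
    have key : ∀ v : P, sm c (mkV v) = mkV ⟨_, hmP v v.2⟩ := fun v => hfinj (by
      rw [hsm]
      refine congrArg Additive.ofMul (Subtype.ext ?_)
      show ((c : h.conjE.range) • (f₀ (QuotientGroup.mk v)) : E) = (m : G) * v * (m : G)⁻¹ * ((m : G) * v * (m : G)⁻¹)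
      rw [← hmc]
      show (m : G) * ((v : G) * v) * (m : G)⁻¹ = _
      group)
    obtain ⟨u, rfl⟩ : ∃ u : P, mkV u = q := ⟨q.toMul.out, congrArg Additive.ofMul (QuotientGroup.out_eq' _)⟩
    obtain ⟨v, rfl⟩ : ∃ v : P, mkV v = q' := ⟨q'.toMul.out, congrArg Additive.ofMul (QuotientGroup.out_eq' _)⟩
    rw [show mkV u + mkV v = mkV (u * v) from rfl, key, key, key]
    refine congrArg Additive.ofMul (congrArg QuotientGroup.mk (Subtype.ext ?_))
    show (m : G) * ((u : G) * v) * (m : G)⁻¹ = (m : G) * u * (m : G)⁻¹ * ((m : G) * v * (m : G)⁻¹)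
    group
  have hf0 : f 0 = 0 := congrArg Additive.ofMul (Subtype.ext (show (1 : G) * 1 = 1 from one_mul 1))
  letI : DistribMulAction C (Additive V) :=
    { smul := sm
      one_smul := fun q => hfinj (by show f (sm 1 q) = f q; rw [hsm, one_smul])
      mul_smul := fun c c' q => hfinj (by
        show f (sm (c * c') q) = f (sm c (sm c' q))
        rw [hsm, hsm, hsm, mul_smul])
      smul_zero := fun c => hfinj (by
        show f (sm c 0) = f 0
        rw [hsm, hf0, smul_zero])
      smul_add := hsmadd }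
  -- the involution
  have hgi : g⁻¹ • base M = base M := inv_smul_eq_iff.2 (hSp g hg).symm
  let sE : Additive E →+ Additive E := AddMonoidHom.mk'
    (fun e => Additive.ofMul (⟨g * e.toMul * g⁻¹, h.res.grp_conj (hSp g hg) e.toMul.2⟩ : E))
    fun e e' => congrArg Additive.ofMul (Subtype.ext (by
      show g * ((e.toMul : G) * (e'.toMul : G)) * g⁻¹ = g * e.toMul * g⁻¹ * (g * e'.toMul * g⁻¹)
      group))
  have hsV : ∀ v : P, ∃ v' : P, (g * v * g⁻¹ = v' ∨ g * v * g⁻¹ = (v' : G) * x) ∧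
      f (mkV v') = sE (f (mkV v)) := by
    intro v
    set d := g * x * g⁻¹ * x with hd
    have hgx : g * x * g⁻¹ = d * x := by rw [hd, mul_assoc _ x x, hxx, mul_one]
    have hxc : Commute x (g * v * g⁻¹) := by
      have h1 : Commute (d * x) (g * v * g⁻¹) := hgx ▸ (hPx v v.2).conj g
      have h2 : Commute d (g * v * g⁻¹) := by
        have h3 := (hPc _ (h.res.grp_conj hgi (hco g hg)) v v.2).conj g
        rwa [show g * (g⁻¹ * d * g⁻¹⁻¹) * g⁻¹ = d by group] at h3
      have h4 := h2.inv_left.mul_left h1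
      rwa [inv_mul_cancel_left] at h4
    obtain ⟨v', hv', t, ht, he⟩ := hdec _ (mul_mem (mul_mem hg (hPS v.2)) (inv_mem hg)) hxc
    refine ⟨⟨v', hv'⟩, ?_, congrArg Additive.ofMul (Subtype.ext ?_)⟩
    · rcases hT t ht with rfl | rfl
      · exact Or.inl (by rw [he, mul_one])
      · exact Or.inr he
    · show v' * v' = g * ((v : G) * v) * g⁻¹
      rw [show g * ((v : G) * v) * g⁻¹ = g * v * g⁻¹ * (g * v * g⁻¹) by group, he]
      rcases hT t ht with rfl | rfl
      · rw [mul_one]
      · rw [(hPx v' hv').mul_mul_mul_comm, hxx, mul_one]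
  let sV0 : Additive V → Additive V := fun q => fi.symm (sE (f q))
  have hsVf : ∀ q, f (sV0 q) = sE (f q) := fun q => hfi _
  have hsVadd : ∀ q q', sV0 (q + q') = sV0 q + sV0 q' := by
    intro q q'
    obtain ⟨u, rfl⟩ : ∃ u : P, mkV u = q := ⟨q.toMul.out, congrArg Additive.ofMul (QuotientGroup.out_eq' _)⟩
    obtain ⟨v, rfl⟩ : ∃ v : P, mkV v = q' := ⟨q'.toMul.out, congrArg Additive.ofMul (QuotientGroup.out_eq' _)⟩
    obtain ⟨u', hu', hfu⟩ := hsV u
    obtain ⟨v', hv', hfv⟩ := hsV v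
    obtain ⟨w', hw', hfw⟩ := hsV (u * v)
    rw [show sV0 (mkV u) = mkV u' from hfinj (by rw [hsVf, hfu]),
      show sV0 (mkV v) = mkV v' from hfinj (by rw [hsVf, hfv]),
      show sV0 (mkV u + mkV v) = mkV w' from hfinj (by rw [hsVf, hfw]; rfl)]
    refine congrArg Additive.ofMul (QuotientGroup.eq.2 (mem_subgroupOf.2 ?_))
    refine ⟨(w'⁻¹ * (u' * v')).2, 1, one_mem _, ?_⟩
    show (w' : G)⁻¹ * ((u' : G) * v') = 1 ∨ (w' : G)⁻¹ * ((u' : G) * v') = 1 * x
    rw [one_mul]
    have hxi := invol_inv hx.invol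
    have e : g * ((u : G) * v) * g⁻¹ = g * u * g⁻¹ * (g * v * g⁻¹) := by group
    have hc := (hPx v' v'.2).eq
    rw [Subgroup.coe_mul, e] at hw'
    rcases hu' with h1 | h1 <;> rcases hv' with h2 | h2 <;> rw [h1, h2] at hw' <;> rcases hw' with h3 | h3
    · exact Or.inl (by rw [← h3]; group)
    · exact Or.inr (by rw [show (w' : G) = u' * v' * x by rw [h3, mul_assoc, hxx, mul_one]]; group; simp [hxi])
    · refine Or.inr ?_
      rw [show (w' : G) = u' * v' * x by rw [← h3, mul_assoc]]; group; simp [hxi]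
    · refine Or.inl ?_
      rw [show (w' : G) = u' * v' by rw [← mul_right_cancel (h3.symm.trans (mul_assoc _ _ _).symm)]]
      group
    · refine Or.inr ?_
      rw [show (w' : G) = u' * v' * x by rw [← h3, mul_assoc, hc, mul_assoc]]; group; simp [hxi]
    · refine Or.inl ?_
      have h4 : (w' : G) = u' * v' := mul_right_cancel (b := x) (by rw [← h3, mul_assoc, hc, mul_assoc])
      rw [h4]; group
    · refine Or.inl ?_
      have h4 : (w' : G) = u' * v' := by
        rw [← h3, mul_assoc (u' : G), ← mul_assoc x, hc, mul_assoc (v' : G), hxx, mul_one]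
      rw [h4]; group
    · refine Or.inr ?_
      have h4 : (w' : G) = u' * v' * x := by
        rw [mul_assoc (u' : G), ← mul_assoc x, hc, mul_assoc (v' : G), hxx, mul_one] at h3
        rw [h3, mul_assoc, hxx, mul_one]
      rw [h4]; group; simp [hxi]
  -- bilinearity
  have hbrE : ∀ v ∈ P, ∀ u ∈ P, br v u ∈ E := fun v hv u hu => by
    rw [eq_mul_inv_of_mul_eq (eq_mul_inv_of_mul_eq (hbrW v hv u hu).2.symm)]
    exact mul_mem (mul_mem (hsqE _ (mul_mem hu hv)) (inv_mem (hsqE v hv))) (inv_mem (hsqE u hu))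
  have hfadd : ∀ u v : P, f (mkV (u * v)) = Additive.ofMul (⟨br v u, hbrE v v.2 u u.2⟩ : E) +
        f (mkV u) + f (mkV v) := fun u v =>
    congrArg Additive.ofMul (Subtype.ext (hbrW v v.2 u u.2).2)
  have h2E : ∀ e : Additive E, e + e = 0 := fun e => congrArg Additive.ofMul (Subtype.ext (h.res.grp_sq e.toMul.2))
  have hoddV : Nat.card (Additive V) = 2 ^ β :=
    (Nat.card_congr (Additive.toMul (α := V))).trans (hVcard.trans hEcard)
  refine false_of_form_involution (C := C) (fun q => ?_) h2E hoddV hodd f hfb hsm (fun q q' hq hq' => ?_) ?_ ?_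
    (AddMonoidHom.mk' sV0 hsVadd) sE (fun e => ?_) hsVf ?_
  · obtain ⟨u, rfl⟩ : ∃ u : P, mkV u = q := ⟨q.toMul.out, congrArg Additive.ofMul (QuotientGroup.out_eq' _)⟩
    exact congrArg Additive.ofMul ((QuotientGroup.eq_one_iff _).2 (mem_subgroupOf.2 (hsqW u u.2)))
  · have hne : ∀ q : Additive V, q ≠ 0 → (f q).toMul ≠ 1 := fun q hq e =>
      hq (hfinj (hf0.symm ▸ congrArg Additive.ofMul e))
    obtain ⟨c, hc, hce⟩ := hC.trans (f q).toMul (f q').toMul (hne q hq) (hne q' hq')
    exact ⟨⟨c, hc⟩, hfinj ((hsm ⟨c, hc⟩ q).trans (congrArg Additive.ofMul hce))⟩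
  · intro q₁ q₂ q₃
    obtain ⟨u, rfl⟩ : ∃ u : P, mkV u = q₁ := ⟨q₁.toMul.out, congrArg Additive.ofMul (QuotientGroup.out_eq' _)⟩
    obtain ⟨v, rfl⟩ : ∃ v : P, mkV v = q₂ := ⟨q₂.toMul.out, congrArg Additive.ofMul (QuotientGroup.out_eq' _)⟩
    obtain ⟨w, rfl⟩ : ∃ w : P, mkV w = q₃ := ⟨q₃.toMul.out, congrArg Additive.ofMul (QuotientGroup.out_eq' _)⟩
    rw [show mkV u + mkV v + mkV w = mkV (u * v * w) from rfl, show mkV u + mkV v = mkV (u * v) from rfl,
      show mkV u + mkV w = mkV (u * w) from rfl, show mkV v + mkV w = mkV (v * w) from rfl,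
      hfadd (u * v) w, hfadd u v, hfadd u w, hfadd v w]
    have key : br (w : G) ((u * v : P) : G) = br (w : G) u * br (w : G) v := by
      show (w : G) * (u * v) * (w : G)⁻¹ * ((u : G) * v)⁻¹ = _
      have h1 := (hbrW w w.2 v v.2).1
      calc (w : G) * (u * v) * (w : G)⁻¹ * ((u : G) * v)⁻¹ = br (w : G) u * ((u : G) * br (w : G) v * (u : G)⁻¹) := by
            simp only [br]; group
        _ = _ := by rw [← (hWc _ h1 u u.2).eq, mul_inv_cancel_right]
    set B1 : Additive E := Additive.ofMul (⟨br v u, _⟩ : E)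
    have hsplit : ∀ (A B C : E), (A : G) = B * C → Additive.ofMul A = Additive.ofMul B + Additive.ofMul C :=
      fun A B C hABC => congrArg Additive.ofMul (Subtype.ext hABC)
    rw [hsplit ⟨br w ((u * v : P) : G), hbrE w w.2 _ (u * v).2⟩ ⟨br w u, hbrE w w.2 u u.2⟩ ⟨br w v, hbrE w w.2 v v.2⟩ key]
    · set B2 : Additive E := Additive.ofMul (⟨br w u, _⟩ : E)
      set B3 : Additive E := Additive.ofMul (⟨br w v, _⟩ : E)
      calc B2 + B3 + (B1 + f (mkV u) + f (mkV v)) + f (mkV w) + f (mkV u) + f (mkV v) + f (mkV w)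
          = B2 + B3 + B1 + (f (mkV u) + f (mkV u)) + (f (mkV v) + f (mkV v)) + (f (mkV w) + f (mkV w)) := by abel
        _ = B2 + B3 + B1 := by rw [h2E, h2E, h2E, add_zero, add_zero, add_zero]
        _ = B2 + B3 + B1 + (f (mkV u) + f (mkV u)) + (f (mkV v) + f (mkV v)) + (f (mkV w) + f (mkV w)) := by
          rw [h2E, h2E, h2E, add_zero, add_zero, add_zero]
        _ = _ := by abel
  · by_contra hh
    push Not at hh
    have hbr1 : ∀ u v : P, br (v : G) u = 1 := fun u v => by
      have h1 := hfadd u v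
      rw [show mkV (u * v) = mkV u + mkV v from rfl, hh, add_assoc (Additive.ofMul (_ : E)), right_eq_add] at h1
      exact congrArg Subtype.val h1
    obtain ⟨q, hq⟩ : ∃ q : Additive V, q ≠ 0 := by
      haveI : Nontrivial (Additive V) := Finite.one_lt_card_iff_nontrivial.1 (by
        rw [hoddV]; exact Nat.one_lt_two_pow (by omega))
      exact exists_ne 0
    obtain ⟨u, rfl⟩ : ∃ u : P, mkV u = q := ⟨q.toMul.out, congrArg Additive.ofMul (QuotientGroup.out_eq' _)⟩
    obtain ⟨f', hf', hfk⟩ := hP.center u u.2 fun v hv => by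
      rw [show (u : G) * v * (u : G)⁻¹ * v⁻¹ = 1 from hbr1 ⟨v, hv⟩ u]; exact one_mem _
    rw [h.lineGrp_eq hx hxp] at hf'
    refine hq (congrArg Additive.ofMul ((QuotientGroup.eq_one_iff _).2 (mem_subgroupOf.2 ⟨u.2, f', hf', ?_⟩)))
    rcases hker _ (mul_mem (hEP hf') u.2) hfk with h3 | h3
    · exact Or.inl (by rw [eq_inv_of_mul_eq_one_right h3, inv_eq_of_mul_eq_one_right (h.res.grp_sq hf')])
    · exact Or.inr (by rw [← h3, ← mul_assoc, h.res.grp_sq hf', one_mul])
  · refine congrArg Additive.ofMul (Subtype.ext ?_)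
    show g * (g * e.toMul * g⁻¹) * g⁻¹ = (e.toMul : G)
    rw [show g * (g * e.toMul * g⁻¹) * g⁻¹ = g * g * e.toMul * (g * g)⁻¹ by group,
      (hg2 _ e.toMul.2).eq, mul_inv_cancel_right]
  · exact ⟨Additive.ofMul ⟨eg, heg⟩, fun e1 => hne (mul_inv_eq_iff_eq_mul.1
      (congrArg (fun r : Additive E => (r.toMul : G)) e1))⟩

/-- **The two-elements of `M` centralize the members.** -/
theorem commute_of_two_element {g : G} {k : ℕ} (hgk : g ^ 2 ^ k = 1) (hgp : g • base M = base M) {e : G}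
    (he : e ∈ h.res.grp (base M)) : Commute g e := by
  have h1 := h.not_noTrans hS hgen hloc hF hm
  simp only [NoTrans] at h1
  push Not at h1
  obtain ⟨n, hnp, hn2, hnE, hnx, hne⟩ := h1
  refine h.commute_of_translation hS hgen hloc hF hm hnp hnE hn2 hnx (fun e1 => hne ?_) ?_ hgk hgp he
  · rw [mul_eq_one_iff_eq_inv, invol_inv hF.bad.invol] at e1
    exact mul_inv_eq_iff_eq_mul.1 e1
  · rw [mul_assoc (n * x * n⁻¹), invol_mul_self hF.bad.invol, mul_one]

/-- **Every translation by an element centralizing the members.** -/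
theorem exists_translation_cent {e : G} (he : e ∈ h.res.grp (base M)) :
    ∃ g : G, g • base M = base M ∧ (∃ k : ℕ, g ^ 2 ^ k = 1) ∧ (∀ f ∈ h.res.grp (base M), Commute g f) ∧
      g * x * g⁻¹ = e * x := by
  obtain ⟨P, S, -, hS2, -, -, -, hSp, -, hsu, -⟩ := h.exists_block hS hloc hF hm
  obtain ⟨g, hg, hgx⟩ := hsu e he
  obtain ⟨k, hk⟩ := hS2 ⟨g, hg⟩
  have hgk : g ^ 2 ^ k = 1 := congrArg Subtype.val hk
  exact ⟨g, hSp g hg, ⟨k, hgk⟩, fun f hf => h.commute_of_two_element hS hgen hloc hF hm hgk (hSp g hg) hf, hgx⟩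

/-- **The Sylow data.** -/
theorem exists_sylo_full : ∃ P S : Subgroup G, h.Sylo x a T P S :=
  h.exists_sylo hS hloc hF hm fun g k hgk hgp e he => h.commute_of_two_element hS hgen hloc hF hm hgk hgp he

end EqRes

end CfsgLib.SECrit.Eq
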