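import Cfsg.Agent.Lib.Invol.SECriterion.Shape.Rank
import Cfsg.Agent.Lib.Invol.SECriterion.Instances
import Cfsg.Agent.Lib.PGroup.Kazarin
import Cfsg.Agent.Lib.Invol.SECriterion.Consumers.Statement
import Cfsg.Agent.Lib.Invol.ZStar
import Cfsg.Agent.Lib.Coprime.Action

/-!
# The blocks of an elementary group with controlled fusion

`T` is elementary of order at least four in the Sylow two-group `S` of `H`, normal in `H` and centralized
by `S`, and an element mapping some member into `S` lies in `H`.  If the criterion holds modulo the core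
and no element of `S` in a normal closure squares to a member modulo the core, then what centralizes `T` in
`H` lies in `T` modulo the core.
-/

set_option autoImplicit false
set_option linter.style.haveILetI false
set_option linter.unusedSectionVars false

namespace CfsgLib.SECrit

open CfsgLib.Invol Subgroup

universe u

variable {Γ : Type u} [Group Γ] [Finite Γ] {H T : Subgroup Γ} {S : Sylow 2 Γ}

/-- An elementary group with controlled fusion. -/
structure TIData (H T : Subgroup Γ) (S : Sylow 2 Γ) : Prop where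
  /-- the Sylow group is in `H` -/
  le : (S : Subgroup Γ) ≤ H
  /-- and holds `T` -/
  T_le : T ≤ (S : Subgroup Γ)
  /-- elementary -/
  sq : ∀ w ∈ T, w * w = 1
  /-- of order four at least -/
  four : 4 ≤ Nat.card T
  /-- normal in `H` -/
  norm : ∀ g ∈ H, ∀ w ∈ T, g * w * g⁻¹ ∈ T
  /-- central in `S` -/
  cent : ∀ g ∈ (S : Subgroup Γ), ∀ w ∈ T, Commute g w
  /-- what maps a member into `S` is in `H` -/
  fuse : ∀ w ∈ T, w ≠ 1 → ∀ g : Γ, g * w * g⁻¹ ∈ (S : Subgroup Γ) → g ∈ H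
  /-- `H` is proper -/
  ne_top : H ≠ ⊤

namespace TIData

variable (d : TIData H T S)
include d

theorem invol {w : Γ} (hw : w ∈ T) (hw1 : w ≠ 1) : orderOf w = 2 := invol_iff.2 ⟨d.sq w hw, hw1⟩

theorem mem_of_conj {w g : Γ} (hw : w ∈ T) (hw1 : w ≠ 1) (hg : g * w * g⁻¹ ∈ H) : g ∈ H := by
  haveI : Fact (Nat.Prime 2) := ⟨Nat.prime_two⟩
  have hP : IsPGroup 2 (zpowers (g * w * g⁻¹)) :=
    IsPGroup.of_card (n := 1) (by rw [Nat.card_zpowers, invol_conj (d.invol hw hw1) g, pow_one])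
  obtain ⟨a, ha⟩ := exists_conj_le_sylow (hP.comap_of_injective H.subtype H.subtype_injective) (S.subtype d.le)
  have h2 : (a : Γ) * (g * w * g⁻¹) * (a : Γ)⁻¹ ∈ (S : Subgroup Γ) :=
    ha ⟨_, hg⟩ (mem_zpowers (g * w * g⁻¹))
  have h3 := d.fuse w hw hw1 ((a : Γ) * g) (by
    rwa [show (a : Γ) * g * w * ((a : Γ) * g)⁻¹ = (a : Γ) * (g * w * g⁻¹) * (a : Γ)⁻¹ by group])
  exact (H.mul_mem_cancel_left a.2).1 h3

theorem mem_of_commute {w g : Γ} (hw : w ∈ T) (hw1 : w ≠ 1) (hg : Commute g w) : g ∈ H :=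
  d.fuse w hw hw1 g (by rw [hg.eq, mul_inv_cancel_right]; exact d.T_le hw)

theorem eq_one_of_core {w : Γ} (hw : w ∈ T) (hwK : w ∈ H.normalCore) : w = 1 := by
  by_contra hw1
  exact d.ne_top (eq_top_iff.2 fun g _ => d.mem_of_conj hw hw1
    (H.normalCore_le ((normalCore_normal H).conj_mem w hwK g)))

/-- The core centralizes `T`. -/
theorem core_commute {w k : Γ} (hw : w ∈ T) (hk : k ∈ H.normalCore) : Commute k w := by
  have h1 : k * w * k⁻¹ * w⁻¹ ∈ H.normalCore := by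
    rw [show k * w * k⁻¹ * w⁻¹ = k * (w * k⁻¹ * w⁻¹) by group]
    exact mul_mem hk ((normalCore_normal H).conj_mem _ (inv_mem hk) w)
  exact mul_inv_eq_iff_eq_mul.1
    (mul_inv_eq_one.1 (d.eq_one_of_core (mul_mem (d.norm k (H.normalCore_le hk) w hw) (inv_mem hw)) h1))

/-- A member gives the setting of the criterion. -/
theorem crit {w : Γ} (hw : w ∈ T) (hw1 : w ≠ 1) : Crit H w where
  invol := d.invol hw hw1
  mem := d.le (d.T_le hw)
  sylow := odd_index_of_sylow_le S fun g hg => mem_centralizer_singleton_iff.2 (d.cent g hg w hw)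
  fuse := fun _ hg => d.mem_of_conj hw hw1 hg
  prod := fun g hc hne c hcm => by
    have h1 : g * w * g⁻¹ ∈ H := d.mem_of_commute hw hw1 hc.symm
    have h2 := d.norm g (d.mem_of_conj hw hw1 h1) w hw
    exact d.mem_of_commute (mul_mem hw h2) (fun e => hne (by
      rw [← inv_eq_of_mul_eq_one_right e, invol_inv (d.invol hw hw1)]))
      (mem_centralizer_singleton_iff.1 hcm)

/-- Not all members are isolated. -/
theorem exists_not_isolated :
    ∃ t ∈ T, t ≠ 1 ∧ ∃ g : Γ, g * t * g⁻¹ ∈ (S : Subgroup Γ) ∧ g * t * g⁻¹ ≠ t := by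
  haveI : Fact (Nat.Prime 2) := ⟨Nat.prime_two⟩
  by_contra hno
  push Not at hno
  set N := Cfsg.pPrimeCore 2 Γ with hN
  haveI := CfsgLib.Coprime.pPrimeCore_characteristic (G := Γ) 2
  have hz : ∀ w ∈ T, w ≠ 1 → IsZCentral w := fun w hw hw1 =>
    zstar_of_weakly_closed S (d.invol hw hw1) (fun g hg => hno w hw hw1 g hg)
  have hNodd : ¬ 2 ∣ Nat.card N := CfsgLib.Coprime.pPrimeCore_not_dvd Nat.prime_two
  haveI : IsMulCommutative T := ⟨⟨fun a b => Subtype.ext (d.cent a (d.T_le a.2) b b.2).eq⟩⟩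
  have hncyc : ¬ IsCyclic T := by
    intro hc
    obtain ⟨g, hg⟩ := hc.exists_generator
    have h1 : orderOf g ≤ 2 := Nat.le_of_dvd two_pos
      (orderOf_dvd_of_pow_eq_one (Subtype.ext (by rw [SubmonoidClass.coe_pow, pow_two, d.sq g g.2]; rfl)))
    have h2 : orderOf g = Nat.card T := orderOf_eq_card_of_forall_mem_zpowers hg
    have := d.four
    omega
  have hNH : N ≤ H := by
    refine CfsgLib.Coprime.le_of_centralizers_le (A := T) (K := N) hncyc ?_ ?_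
      fun w hw hw1 g hg => d.mem_of_commute hw hw1 (mem_centralizer_singleton_iff.1 hg.2)
    · rw [normalizer_eq_top]; exact le_top
    · obtain ⟨k, hk⟩ := IsPGroup.iff_card.1 (S.isPGroup'.to_le d.T_le)
      rw [hk]
      exact Nat.Coprime.pow_left k ((Nat.prime_two.coprime_iff_not_dvd).2 hNodd)
  obtain ⟨⟨t, ht⟩, ht1⟩ : ∃ t : T, t ≠ 1 := by
    haveI : Nontrivial T := Finite.one_lt_card_iff_nontrivial.1 (by have := d.four; omega)
    exact exists_ne 1
  have ht1' : t ≠ 1 := fun e => ht1 (Subtype.ext e)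
  refine d.ne_top (eq_top_iff.2 fun g _ => ?_)
  have hto := d.invol ht ht1'
  set u := g * t * g⁻¹ with hu
  have huo : orderOf u = 2 := invol_conj hto g
  have hr : t * u ∈ N := by
    have h1 : t * g * t⁻¹ * g⁻¹ ∈ N := hz t ht ht1' g
    rwa [show t * g * t⁻¹ * g⁻¹ = t * (g * t⁻¹ * g⁻¹) by group, invol_inv hto] at h1
  obtain ⟨k, hk⟩ : Odd (orderOf (t * u)) := by
    rw [← Nat.not_even_iff_odd, even_iff_two_dvd]
    exact fun hh => hNodd (hh.trans (Subgroup.orderOf_dvd_natCard N hr))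
  set r := t * u with hrdef
  have hinv : u * r * u⁻¹ = r⁻¹ := by
    calc u * r * u⁻¹ = u * t * (u * u⁻¹) := by rw [hrdef]; simp only [mul_assoc]
      _ = r⁻¹ := by rw [mul_inv_cancel, mul_one, hrdef, mul_inv_rev, invol_inv hto, invol_inv huo]
  have hrt : r ^ (k + 1) * u * (r ^ (k + 1))⁻¹ = t := by
    have h1 : u * (r ^ (k + 1))⁻¹ = r ^ (k + 1) * u := by
      rw [← inv_pow, ← hinv, conj_pow, ← mul_assoc, ← mul_assoc, invol_mul_self huo, one_mul, invol_inv huo]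
    rw [mul_assoc, h1, ← mul_assoc, ← pow_add, show k + 1 + (k + 1) = orderOf r + 1 by omega, pow_succ,
      pow_orderOf_eq_one, one_mul, hrdef, mul_assoc, invol_mul_self huo, mul_one]
  have h2 := d.fuse t ht ht1' (r ^ (k + 1) * g) (by
    rw [show r ^ (k + 1) * g * t * (r ^ (k + 1) * g)⁻¹ = r ^ (k + 1) * u * (r ^ (k + 1))⁻¹ by rw [hu]; group,
      hrt]
    exact d.T_le ht)
  exact (H.mul_mem_cancel_left (hNH (pow_mem hr _))).1 h2

omit d in
/-- The two-part of an element with a two-element as image. -/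
theorem exists_two_part {Δ : Type*} [Group Δ] (π : Γ →* Δ) {l : Γ} {k : ℕ} (hl : π l ^ 2 ^ k = 1) :
    ∃ m a : ℕ, π (l ^ m) = π l ∧ (l ^ m) ^ 2 ^ a = 1 := by
  obtain ⟨a, b, hb, he⟩ : ∃ a b, ¬ 2 ∣ b ∧ orderOf l = 2 ^ a * b :=
    ⟨(orderOf l).factorization 2, orderOf l / 2 ^ (orderOf l).factorization 2,
      Nat.not_dvd_ordCompl Nat.prime_two (orderOf_pos l).ne', (Nat.ordProj_mul_ordCompl_eq_self _ 2).symm⟩
  obtain ⟨c, -, hc⟩ := Nat.exists_mul_mod_eq_one_of_coprime (n := b) (k := 2 ^ (k + 1))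
    (Nat.Coprime.pow_right _ ((Nat.prime_two.coprime_iff_not_dvd).2 hb).symm)
    (Nat.one_lt_two_pow (Nat.succ_ne_zero k))
  refine ⟨b * c, a, ?_, ?_⟩
  · rw [map_pow, ← Nat.div_add_mod (b * c) (2 ^ (k + 1)), hc, pow_succ, pow_mul, pow_succ 2 k, pow_mul, hl,
      one_pow, one_pow, one_mul]
  · rw [← pow_mul, show b * c * 2 ^ a = 2 ^ a * b * c by ring, ← he, pow_mul, pow_orderOf_eq_one, one_pow]

/-- **What centralizes `T` is in `T` modulo the core.** -/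
theorem exists_core_rep
    (hih : ∀ (M' : Subgroup (Γ ⧸ H.normalCore)) (z' : Γ ⧸ H.normalCore), Crit M' z' → M' ≠ ⊤ →
      M'.normalCore = ⊥ → Concl M' z')
    (hsq : ∀ t ∈ T, t ≠ 1 → ∀ g ∈ (S : Subgroup Γ), g ∈ normalClosure ({t} : Set Γ) →
      ∀ w ∈ T, g * g * w ∈ H.normalCore → w ∈ H.normalCore)
    {u : Γ} (hu : u ∈ H) (hcu : ∀ w ∈ T, Commute u w) : ∃ w₀ ∈ T, u * w₀ ∈ H.normalCore := by
  classical
  haveI : Fact (Nat.Prime 2) := ⟨Nat.prime_two⟩
  obtain ⟨t, ht, ht1, g₀, hg₀S, hg₀ne⟩ := d.exists_not_isolated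
  have hg₀ := d.fuse t ht ht1 g₀ hg₀S
  have ht' := d.norm g₀ hg₀ t ht
  have hcrit := d.crit ht ht1
  obtain ⟨hc', hne', hcore'⟩ := hcrit.quotient d.ne_top
  have hC := hih _ _ hc' hne' hcore'
  set K := H.normalCore with hK
  set π := QuotientGroup.mk' K with hπ
  have hsurj : Function.Surjective π := QuotientGroup.mk'_surjective K
  have hone : ∀ g : Γ, π g = 1 ↔ g ∈ K := fun g => QuotientGroup.eq_one_iff g
  have hH : ∀ g : Γ, π g ∈ H.map π ↔ g ∈ H := fun g => by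
    rw [← mem_comap, comap_map_eq_self (by rw [hπ, QuotientGroup.ker_mk']; exact H.normalCore_le)]
  set L := normalClosure ({π t} : Set (Γ ⧸ K)) with hL
  have hLmap : (normalClosure ({t} : Set Γ)).map π = L := by
    rw [map_normalClosure _ π hsurj, Set.image_singleton]
  have hLn : L.Normal := normalClosure_normal
  have htL : π t ∈ L := subset_normalClosure (Set.mem_singleton _)
  have hse := stronglyEmbedded_of_concl hc' hne' hC
  set HL := (H.map π).subgroupOf L with hHL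
  -- every coset is `L` times `H`
  have hprod : ∀ p : Γ ⧸ K, ∃ l ∈ L, l⁻¹ * p ∈ H.map π := by
    intro p
    obtain ⟨g, rfl⟩ := hsurj p
    have hconj : π g * π t * (π g)⁻¹ ∈ L := hLn.conj_mem _ htL _
    have ho : orderOf (⟨_, hconj⟩ : L) = 2 := by
      rw [Subgroup.orderOf_mk]; exact invol_conj hc'.invol _
    obtain ⟨⟨c, hcL⟩, hc⟩ := exists_conj_mem (M := HL) (by
      show Odd ((H.map π).relIndex L)
      exact (odd_index_of_sylow_le (S.mapSurjective hsurj)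
        (by rw [Sylow.coe_mapSurjective]; exact map_mono d.le)).of_dvd_nat
        (CfsgLib.PGroup.relIndex_dvd_index_of_normal_right _ L)) ho
    refine ⟨c⁻¹, inv_mem hcL, ?_⟩
    rw [inv_inv]
    obtain ⟨g', hg'⟩ := hsurj c
    rw [← hg', ← map_mul, hH]
    refine d.mem_of_conj ht ht1 ((hH _).1 ?_)
    have h1 : c * (π g * π t * (π g)⁻¹) * c⁻¹ ∈ H.map π := hc
    rwa [← hg', ← map_inv, ← map_inv, ← map_mul, ← map_mul, ← map_mul, ← map_mul,
      show g' * (g * t * g⁻¹) * g'⁻¹ = g' * g * t * (g' * g)⁻¹ by group] at h1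
  have hcoreL : HL.normalCore = ⊥ := by
    rw [eq_bot_iff]
    intro x hx
    refine mem_bot.2 (Subtype.ext ?_)
    have h1 : (x : Γ ⧸ K) ∈ (H.map π).normalCore := by
      intro p
      obtain ⟨l, hl, hlp⟩ := hprod p⁻¹
      have h2 : (⟨l, hl⟩ : L)⁻¹ * x * (⟨l, hl⟩ : L)⁻¹⁻¹ ∈ HL := hx _
      have h3 : l⁻¹ * (x : Γ ⧸ K) * l ∈ H.map π := by simpa [HL, mem_subgroupOf, mul_assoc] using h2
      have h4 := mul_mem (mul_mem (inv_mem hlp) h3) hlp
      rwa [show (l⁻¹ * p⁻¹)⁻¹ * (l⁻¹ * (x : Γ ⧸ K) * l) * (l⁻¹ * p⁻¹) = p * x * p⁻¹ by group] at h4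
    rw [hcore'] at h1
    exact mem_bot.1 h1
  have himg : ∀ w ∈ T, w ≠ 1 → π w ≠ 1 := fun w hw hw1 e => hw1 (d.eq_one_of_core hw ((hone w).1 e))
  have hpair : CfsgLib.Bender.HasPair L := by
    have h1 : π (g₀ * t * g₀⁻¹) ∈ L := by
      rw [map_mul, map_mul, map_inv]; exact hLn.conj_mem _ htL _
    refine ⟨⟨π t, htL⟩, ⟨_, h1⟩, by rw [Subgroup.orderOf_mk]; exact hc'.invol, ?_, fun e => ?_,
      Subtype.ext ((d.cent _ (d.T_le ht) _ ht').map π).eq⟩
    · rw [Subgroup.orderOf_mk, map_mul, map_mul, map_inv]; exact invol_conj hc'.invol _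
    · have h2 : π (t * (g₀ * t * g₀⁻¹)) = 1 := by
        have e' : π t = π (g₀ * t * g₀⁻¹) := congrArg Subtype.val e
        rw [map_mul, ← e', ← map_mul, d.sq t ht, map_one]
      refine himg _ (mul_mem ht ht') (fun e' => hg₀ne ?_) h2
      rw [← inv_eq_of_mul_eq_one_right e', invol_inv (d.invol ht ht1)]
  obtain ⟨Q, hQH, hnorm, hQ2, hreg⟩ := CfsgLib.Bender.Full.fullStatement _ _ hse hcoreL hpair
  have hD : Shape.Data HL Q := ⟨hse, hcoreL, hpair, hQH, hnorm, hQ2, hreg⟩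
  -- the involutions of `Q` come from `T`
  have hQinv : ∀ q ∈ Q, q * q = 1 → ∃ w ∈ T, π w = (q : Γ ⧸ K) := by
    intro q hq hqq
    by_cases hq1 : q = 1
    · exact ⟨1, one_mem T, by rw [hq1, map_one]; rfl⟩
    have hqo : orderOf (q : Γ ⧸ K) = 2 := by rw [Subgroup.orderOf_coe]; exact invol_iff.2 ⟨hqq, hq1⟩
    obtain ⟨p, hp⟩ := isConj_iff.1 (hC _ q.2 hqo)
    obtain ⟨g, rfl⟩ := hsurj p
    have h1 : g * t * g⁻¹ ∈ H := by
      rw [← hH, map_mul, map_mul, map_inv, hp]; exact hQH hq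
    exact ⟨_, d.norm g (d.mem_of_conj ht ht1 h1) t ht, by rw [map_mul, map_mul, map_inv, hp]⟩
  -- so `Q` is elementary
  have hQexp : ∀ q ∈ Q, q * q = 1 := by
    suffices key : ∀ (k : ℕ) (q : L), q ∈ Q → q ^ 2 ^ k = 1 → q * q = 1 by
      intro q hq
      obtain ⟨k, hk⟩ := hQ2 ⟨q, hq⟩
      exact key k q hq (congrArg Subtype.val hk)
    intro k
    induction k with
    | zero => intro q _ h; rw [pow_zero, pow_one] at h; rw [h, one_mul]
    | succ k ih =>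
      intro q hq hqk
      have h1 := ih (q * q) (mul_mem hq hq) (by rw [← pow_two, ← pow_mul, ← pow_succ', hqk])
      by_contra hq2
      obtain ⟨w, hw, hwq⟩ := hQinv (q * q) (mul_mem hq hq) h1
      obtain ⟨l₀, hl₀, hl₀q⟩ : (q : Γ ⧸ K) ∈ (normalClosure ({t} : Set Γ)).map π := by rw [hLmap]; exact q.2
      obtain ⟨m, a, hma, hl⟩ := exists_two_part π (l := l₀) (k := k + 1) (by
        rw [hl₀q, ← SubmonoidClass.coe_pow, hqk]; rfl)
      set l := l₀ ^ m with hldef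
      have hlq : π l = (q : Γ ⧸ K) := hma.trans hl₀q
      have hlH : l ∈ H := (hH l).1 (hlq ▸ hQH hq)
      have hP : IsPGroup 2 (zpowers l) := by
        obtain ⟨i, -, hi⟩ := (Nat.dvd_prime_pow Nat.prime_two).1 (orderOf_dvd_of_pow_eq_one hl)
        exact IsPGroup.of_card (n := i) (by rw [Nat.card_zpowers, hi])
      obtain ⟨⟨c, hc⟩, hcS⟩ := exists_conj_le_sylow (hP.comap_of_injective H.subtype H.subtype_injective)
        (S.subtype d.le)
      have hgS : c * l * c⁻¹ ∈ (S : Subgroup Γ) := hcS ⟨l, hlH⟩ (mem_zpowers l)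
      have hw' := d.norm c hc w hw
      have hwK := hsq t ht ht1 _ hgS (normalClosure_normal.conj_mem _ (pow_mem hl₀ m) c) _ hw' (by
        rw [← hone, map_mul, map_mul, map_mul, map_mul, map_mul, map_mul, map_inv, hlq, hwq]
        rw [show ((q * q : L) : Γ ⧸ K) = (q : Γ ⧸ K) * q from rfl]
        have e : (q : Γ ⧸ K) * q * ((q : Γ ⧸ K) * q) = 1 := congrArg Subtype.val h1
        calc π c * (q : Γ ⧸ K) * (π c)⁻¹ * (π c * (q : Γ ⧸ K) * (π c)⁻¹) * (π c * ((q : Γ ⧸ K) * q) * (π c)⁻¹)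
            = π c * ((q : Γ ⧸ K) * q * ((q : Γ ⧸ K) * q)) * (π c)⁻¹ := by group
          _ = 1 := by rw [e, mul_one, mul_inv_cancel])
      have h2 := d.eq_one_of_core hw' hwK
      rw [conj_eq_one_iff] at h2
      rw [h2, map_one] at hwq
      exact hq2 (Subtype.ext hwq.symm)
  have hQT : ∀ q ∈ Q, ∃ w ∈ T, π w = (q : Γ ⧸ K) := fun q hq => hQinv q hq (hQexp q hq)
  -- the coset moved
  obtain ⟨⟨l₁, hl₁⟩, hl₁H⟩ := hD.exists_notMem
  have huH : π u ∈ H.map π := (hH u).2 hu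
  have hl₁' : π u * l₁ * (π u)⁻¹ ∈ L := hLn.conj_mem _ hl₁ _
  have hl₁'H : (⟨_, hl₁'⟩ : L) ∉ HL := fun hh => hl₁H (by
    have h1 := mul_mem (mul_mem (inv_mem huH) (show π u * l₁ * (π u)⁻¹ ∈ H.map π from hh)) huH
    show l₁ ∈ H.map π
    rwa [show (π u)⁻¹ * (π u * l₁ * (π u)⁻¹) * π u = l₁ by group] at h1)
  obtain ⟨x, ⟨hxQ, hx⟩, -⟩ := hreg ⟨l₁, hl₁⟩ ⟨_, hl₁'⟩ hl₁H hl₁'H
  obtain ⟨w, hw, hwx⟩ := hQT x hxQ
  refine ⟨w, hw, (hone _).1 ?_⟩
  -- `w u` fixes every point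
  have hfixl₁ : l₁⁻¹ * (π (w * u)) * l₁ ∈ H.map π := by
    have h1 : (π u * l₁ * (π u)⁻¹)⁻¹ * ((x : Γ ⧸ K) * l₁) ∈ H.map π := hx
    have h2 := mul_mem (inv_mem huH) h1
    have h3 : (π u * l₁)⁻¹ * ((x : Γ ⧸ K) * l₁) ∈ H.map π := by
      rwa [show (π u * l₁)⁻¹ * ((x : Γ ⧸ K) * l₁) = (π u)⁻¹ * ((π u * l₁ * (π u)⁻¹)⁻¹ * ((x : Γ ⧸ K) * l₁)) by group]
    have h4 := inv_mem h3
    rw [mul_inv_rev, inv_inv, mul_inv_rev, mul_assoc] at h4
    rw [map_mul, hwx]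
    have hx2 : (x : Γ ⧸ K)⁻¹ = x := inv_eq_of_mul_eq_one_right (congrArg Subtype.val (hQexp x hxQ))
    rwa [hx2, ← mul_assoc (x : Γ ⧸ K), ← mul_assoc] at h4
  have hcw : ∀ y ∈ Q, Commute (π (w * u)) (y : Γ ⧸ K) := by
    intro y hy
    obtain ⟨w', hw', e⟩ := hQT y hy
    rw [← e]
    exact ((d.cent w (d.T_le hw) w' hw').mul_left (hcu w' hw')).map π
  have hfix : π (w * u) ∈ (H.map π).normalCore := by
    have hwuH : π (w * u) ∈ H.map π := (hH _).2 (mul_mem (d.le (d.T_le hw)) hu)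
    have hL' : ∀ l ∈ L, l⁻¹ * π (w * u) * l ∈ H.map π := by
      intro l hl
      by_cases hlH : l ∈ H.map π
      · exact mul_mem (mul_mem (inv_mem hlH) hwuH) hlH
      obtain ⟨y, ⟨hyQ, hy⟩, -⟩ := hreg ⟨l₁, hl₁⟩ ⟨l, hl⟩ hl₁H hlH
      have h1 : l⁻¹ * ((y : Γ ⧸ K) * l₁) ∈ H.map π := hy
      have h2 := mul_mem (mul_mem h1 hfixl₁) (inv_mem h1)
      rwa [show l⁻¹ * ((y : Γ ⧸ K) * l₁) * (l₁⁻¹ * π (w * u) * l₁) * (l⁻¹ * ((y : Γ ⧸ K) * l₁))⁻¹ =
          l⁻¹ * ((y : Γ ⧸ K) * π (w * u) * (y : Γ ⧸ K)⁻¹) * l by group,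
        ← (hcw y hyQ).eq, mul_inv_cancel_right] at h2
    intro p
    obtain ⟨l, hl, hlp⟩ := hprod p⁻¹
    have h4 := mul_mem (mul_mem (inv_mem hlp) (hL' l hl)) hlp
    rwa [show (l⁻¹ * p⁻¹)⁻¹ * (l⁻¹ * π (w * u) * l) * (l⁻¹ * p⁻¹) = p * π (w * u) * p⁻¹ by group] at h4
  rw [hcore', mem_bot, map_mul] at hfix
  rw [map_mul]
  exact mul_eq_one_comm.1 hfix

end TIData

end CfsgLib.SECrit
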