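import Cfsg.Agent.Lib.Invol.SECriterion.EqType.Big.EndBlock
import Cfsg.Agent.Lib.Invol.SECriterion.EqType.Big.TIBlocks
import Mathlib.GroupTheory.Perm.Cycle.Type

/-!
# The strong embedding criterion, equal type: no pointwise group of order four

`T` is elementary, all its members have the fixed set of `x`, and `|T| ≥ 4`.  If `M` normalizes the block
`E T`, fixed sets give a quadrangle.  Otherwise the normalizer of the block controls fusion in `M / E`, so
by induction what centralizes `T` there lies in `T` modulo the core; the torus element `c` then centralizes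
a conjugate of `x` outside, which has the fixed set of `x` and so equals it.
-/

set_option autoImplicit false
set_option linter.style.haveILetI false
set_option linter.unusedSectionVars false

namespace CfsgLib.SECrit.Eq

open CfsgLib.Invol Small Subgroup
open scoped Pointwise

universe u

variable {G : Type u} [Group G] [Finite G] {M : Subgroup G} {z : G}

namespace EqRes

variable (h : EqRes M z)
include h

/-- The elements fixing the base point. -/
theorem mem_iff_fix {g : G} : g • base M = base M ↔ g ∈ M := by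
  show g • ((1 : G) : G ⧸ M) = ((1 : G) : G ⧸ M) ↔ _
  rw [smul_coe_eq_iff, inv_one, one_mul, mul_one]

variable (hS : Setup M z) (hloc : ∀ x : G, IsBad M x → Local M z x) {x : G} {a : G ⧸ M} {T P S : Subgroup G}
  (hY : h.Sylo x a T P S) (hbig : fix M x = (deg M z + 1) ^ 2 + 1 ∨ fix M x = (deg M z + 1) ^ 3 + 1)
  (hTp : T ≤ ptwise M z x) (hsq : ∀ t ∈ T, t * t = 1)

include hY in
/-- `S` is a Sylow group of `M`. -/
theorem exists_sylow_eq : ∃ Q : Sylow 2 M, (Q : Subgroup M) = S.subgroupOf M := by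
  haveI : Fact (Nat.Prime 2) := ⟨Nat.prime_two⟩
  have hSM : S ≤ M := fun g hg => h.mem_iff_fix.1 (hY.smul g hg)
  obtain ⟨Q, hQ⟩ := (hY.two.comap_of_injective M.subtype M.subtype_injective).exists_le_sylow
  refine ⟨Q, (eq_of_le_of_card_ge hQ ?_).symm⟩
  have h1 := hY.max ((Q : Subgroup M).map M.subtype) (Q.isPGroup'.map M.subtype) (by
    rintro _ ⟨q, -, rfl⟩; exact h.mem_iff_fix.2 q.2)
  rw [card_map_of_injective M.subtype_injective] at h1
  exact h1.trans (le_of_eq (Nat.card_congr (subgroupOfEquivOfLe hSM).toEquiv).symm)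

include hS hY in
/-- A normal group moving `T` only along `E` fixes a member or moves it to all its coset, inside `S`. -/
theorem core_orbit (Kp : Subgroup M) [Kp.Normal]
    (hK : ∀ k ∈ Kp, ∀ t ∈ T, (k : G) * t * (k : G)⁻¹ * t⁻¹ ∈ h.res.grp (base M))
    {t : G} (ht : t ∈ T) :
    (∀ k ∈ Kp, Commute (k : G) t) ∨
      ∀ e ∈ h.res.grp (base M), ∃ k ∈ Kp, (k : G) ∈ S ∧ (k : G) * t * (k : G)⁻¹ = e * t := by
  classical
  haveI : Fact (Nat.Prime 2) := ⟨Nat.prime_two⟩
  by_cases hall : ∀ k ∈ Kp, Commute (k : G) t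
  · exact Or.inl hall
  right
  push Not at hall
  obtain ⟨k₀, hk₀, hk₀t⟩ := hall
  set E := h.res.grp (base M) with hE
  let τ : Kp → E := fun k => ⟨_, hK k.1 k.2 t ht⟩
  have hτv : ∀ k : Kp, (τ k : G) = (k.1 : G) * t * (k.1 : G)⁻¹ * t⁻¹ := fun _ => rfl
  set e₀ := (τ ⟨k₀, hk₀⟩ : G) with he₀
  have he₀E : e₀ ∈ E := (τ ⟨k₀, hk₀⟩).2
  have he₀1 : e₀ ≠ 1 := fun e => hk₀t (mul_inv_eq_iff_eq_mul.1 (mul_inv_eq_one.1 e))
  have hA : IsPGroup 2 (zpowers t) := hY.frame.two.to_le (zpowers_le.2 ht)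
  -- the centralizer of `t` is transitive on the members
  have hsurj : Function.Surjective τ := by
    rintro ⟨e, he⟩
    by_cases he1 : e = 1
    · exact ⟨1, Subtype.ext (by rw [hτv]; simp [he1])⟩
    have hd₀ : IsConj z e₀ ∧ e₀ • base M = base M := (show e₀ = 1 ∨ _ from he₀E).resolve_left he₀1
    have hd : IsConj z e ∧ e • base M = base M := (show e = 1 ∨ _ from he).resolve_left he1
    have hcm : ∀ d ∈ E, ∀ y ∈ zpowers t, Commute y d := fun d hdE y hy =>
      hY.centE y (hY.T_le (zpowers_le.2 ht hy)) d hdE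
    have hfx : ∀ y ∈ zpowers t, y • base M = base M ∧ y • a = a := fun y hy =>
      hY.frame.fix_T y (zpowers_le.2 ht hy)
    obtain ⟨u, hu, hue⟩ := hS.crit.exists_conj_commuting hA hY.frame.ne.symm (fun y hy => (hfx y hy).1)
      (fun y hy => (hfx y hy).2) hd₀.1 hd.1 (hcm e₀ he₀E) (hcm e he)
    have hup : u • base M = base M := hS.crit.smul_eq_of_conj hd.1 hue hd₀.2 hd.2
    let uM : M := ⟨u, h.mem_iff_fix.1 hup⟩
    refine ⟨⟨uM * k₀ * uM⁻¹, Normal.conj_mem inferInstance k₀ hk₀ uM⟩, Subtype.ext ?_⟩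
    have hut : Commute t u := hu t (mem_zpowers t)
    rw [hτv]
    show u * k₀ * u⁻¹ * t * (u * k₀ * u⁻¹)⁻¹ * t⁻¹ = e
    rw [← hue, he₀, hτv]
    calc u * k₀ * u⁻¹ * t * (u * k₀ * u⁻¹)⁻¹ * t⁻¹
        = u * k₀ * (u⁻¹ * t) * u * (k₀ : G)⁻¹ * (u⁻¹ * t⁻¹) := by group
      _ = u * k₀ * (t * u⁻¹) * u * (k₀ : G)⁻¹ * (t⁻¹ * u⁻¹) := by rw [hut.inv_right.eq, hut.inv_left.inv_right.eq]
      _ = _ := by group
  -- its Sylow group too
  let φ : Kp →* G := M.subtype.comp Kp.subtype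
  set St : Subgroup Kp := (centralizer ({t} : Set G)).comap φ with hSt
  have hrel : ∀ k₁ k₂ : Kp, τ k₁ = τ k₂ ↔ k₁⁻¹ * k₂ ∈ St := by
    intro k₁ k₂
    rw [hSt, mem_comap, mem_centralizer_singleton_iff, Subtype.ext_iff, hτv, hτv, mul_left_inj]
    show _ ↔ (k₁.1 : G)⁻¹ * (k₂.1 : G) * t = t * ((k₁.1 : G)⁻¹ * (k₂.1 : G))
    constructor
    · intro e
      calc (k₁.1 : G)⁻¹ * (k₂.1 : G) * t
          = (k₁.1 : G)⁻¹ * ((k₂.1 : G) * t * (k₂.1 : G)⁻¹) * (k₂.1 : G) := by group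
        _ = _ := by rw [← e]; group
    · intro e
      calc (k₁.1 : G) * t * (k₁.1 : G)⁻¹
          = (k₁.1 : G) * (t * ((k₁.1 : G)⁻¹ * (k₂.1 : G))) * (k₂.1 : G)⁻¹ := by group
        _ = _ := by rw [← e]; group
  have hidx : St.index = Nat.card E := by
    refine Nat.card_eq_of_bijective (fun q : Kp ⧸ St => τ q.out) ⟨fun q q' e => ?_, fun e => ?_⟩
    · rw [← Quotient.out_eq' q, ← Quotient.out_eq' q']
      exact QuotientGroup.eq.2 ((hrel _ _).1 e)
    · obtain ⟨k, rfl⟩ := hsurj e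
      exact ⟨QuotientGroup.mk k, (hrel _ _).2 (QuotientGroup.eq.1 (Quotient.out_eq' _))⟩
  obtain ⟨Q, hQ⟩ := h.exists_sylow_eq hY
  set R : Subgroup Kp := (Q : Subgroup M).subgroupOf Kp with hR
  have hodd : Odd R.index := Odd.of_dvd_nat
    (Nat.not_even_iff_odd.1 fun he => Q.not_dvd_index (even_iff_two_dvd.1 he))
    (CfsgLib.PGroup.relIndex_dvd_index_of_normal_right _ Kp)
  obtain ⟨β, hβ⟩ := IsPGroup.iff_card.1 (h.res.isPGroup_grp (base M))
  have hdvd : 2 ^ β ∣ St.relIndex R := by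
    have h1 : St.index ∣ (St ⊓ R).relIndex R * R.index := by
      rw [relIndex_mul_index inf_le_right]; exact index_dvd_of_le inf_le_left
    rw [inf_relIndex_right, hidx, hβ] at h1
    exact (Nat.Coprime.pow_left β (Nat.coprime_two_left.2 hodd)).dvd_of_dvd_mul_right h1
  have hinj : Function.Injective (fun q : R ⧸ St.subgroupOf R => τ q.out.1) := by
    intro q q' e
    rw [← Quotient.out_eq' q, ← Quotient.out_eq' q']
    exact QuotientGroup.eq.2 (mem_subgroupOf.2 ((hrel _ _).1 e))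
  have hbij := (Nat.bijective_iff_injective_and_card _).2 ⟨hinj, le_antisymm (Nat.card_le_card_of_injective _ hinj)
    (by rw [hβ]; exact Nat.le_of_dvd Nat.card_pos hdvd)⟩
  intro e he
  obtain ⟨q, hq⟩ := hbij.2 ⟨e, he⟩
  refine ⟨q.out.1.1, q.out.1.2, ?_, ?_⟩
  · have h1 : q.out.1.1 ∈ (Q : Subgroup M) := q.out.2
    rw [hQ] at h1
    exact h1
  · have h1 : (q.out.1.1 : G) * t * (q.out.1.1 : G)⁻¹ * t⁻¹ = e := congrArg Subtype.val hq
    rw [← h1, inv_mul_cancel_right]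

include hS hY in
/-- A conjugate moved like `x` by `S` modulo `T` is `x`. -/
theorem eq_of_moved_alike {x' : G} (hx' : Bad z x') (hx'p : x' • base M = base M) (hx'a : x' • a = a)
    (hwx : ∀ w ∈ T, Commute x w)
    (hkey : ∀ g ∈ S, ∃ w ∈ T, g * w * x' * (g * w)⁻¹ = g * x * g⁻¹ * x * x') : x' = x := by
  have hx := hY.frame.bad
  have hxp := hY.frame.fix_base
  have hxx := invol_mul_self hx.invol
  have hsub : ∀ b : G ⧸ M, x • b = b → x' • b = b := by
    intro b hb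
    by_cases hbp : b = base M
    · rw [hbp, hx'p]
    obtain ⟨v, hv, hvb⟩ := hY.reg.trans a b hY.frame.fix_pt hb hY.frame.ne hbp
    obtain ⟨w, hw, hk⟩ := hkey v (hY.reg_le hv)
    rw [← (RegTwo_commute hY.reg hv).eq, mul_inv_cancel_right, hxx, one_mul] at hk
    have e : x' * (v * w) = v * w * x' := (mul_inv_eq_iff_eq_mul.1 hk).symm
    rw [← hvb]
    calc x' • v • a = x' • (v * w) • a := by rw [mul_smul, (hY.frame.fix_T w hw).2]
      _ = (v * w) • x' • a := by rw [smul_smul, e, mul_smul]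
      _ = v • a := by rw [hx'a, mul_smul, (hY.frame.fix_T w hw).2]
  have hiff := fun b => h.fix_iff_of_subset hx hx' hsub b
  have htr : ∀ e ∈ h.res.grp (base M), ∀ b : G ⧸ M, (e * x) • b = b → (e * x') • b = b := by
    intro e he b hb
    obtain ⟨g, hg, hgx⟩ := hY.surj e he
    obtain ⟨w, hw, hk⟩ := hkey g hg
    rw [hgx, mul_assoc e x x, hxx, mul_one] at hk
    have hkx : g * w * x * (g * w)⁻¹ = e * x := by
      rw [← hgx, show g * w * x * (g * w)⁻¹ = g * (w * x * w⁻¹) * g⁻¹ by group, ← (hwx w hw).eq,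
        mul_inv_cancel_right]
    rw [← hkx, mul_smul, mul_smul, ← eq_inv_smul_iff] at hb
    rw [← hk, mul_smul, mul_smul, ← eq_inv_smul_iff]
    exact (hiff _).2 hb
  have hall : ∀ d : G ⧸ M, x' • d = x • d := by
    intro d
    by_cases hd : x • d = d
    · rw [hd, hsub d hd]
    obtain ⟨s, hs, hsd, hxs⟩ := h.res.crit.exists_commuting_swap_of_moved hx.invol hd
    obtain ⟨b, hb⟩ := h.res.crit.fix_exists hs
    have hxb : x • b = b := h.res.crit.smul_of_commute hs hxs hb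
    obtain ⟨l, hl, hlb⟩ := hS.exists_loc_smul hx.invol hxp hxb
    have hxl : Commute x l := commute_of_mem_locGroup hl
    have hx'l : Commute x' l := h.commute_locGroup_of_fix hx hx' hsub hl
    have he : l⁻¹ * s * l ∈ h.res.grp (base M) := Or.inr ⟨hs.trans (isConj_iff.2 ⟨l⁻¹, by group⟩), by
      rw [mul_smul, mul_smul, hlb, hb, ← hlb, inv_smul_smul]⟩
    set e := l⁻¹ * s * l with hedef
    have h1 : (e * x) • l⁻¹ • d = l⁻¹ • d := by
      rw [smul_smul, hedef, show l⁻¹ * s * l * x * l⁻¹ = l⁻¹ * s * (l * x * l⁻¹) by group, ← hxl.eq,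
        mul_inv_cancel_right, mul_assoc, ← hxs.eq, mul_smul, mul_smul, hsd, smul_smul x x, hxx, one_smul]
    have h2 := htr e he _ h1
    rw [mul_smul, ← eq_inv_smul_iff] at h1 h2
    have h3 := h2.trans h1.symm
    rw [smul_smul, smul_smul, hxl.inv_right.eq, hx'l.inv_right.eq, mul_smul, mul_smul] at h3
    exact smul_left_cancel _ h3
  exact inv_mul_eq_one.1 (h.faith (x'⁻¹ * x) fun d => by rw [mul_smul, ← hall, inv_smul_smul])

include hS hloc hY hbig hTp hsq in
/-- **The case of a pointwise `T` of order four at least is impossible.** -/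
theorem false_of_ptwise_pair (hy : ∃ y ∈ T, y ≠ 1 ∧ y ≠ x)
    (hnormT : ∀ g ∈ S, ∀ t ∈ T, g * t * g⁻¹ * t⁻¹ ∈ h.res.grp (base M))
    (hsqP : ∀ g ∈ S, (∃ v ∈ P, ∃ t ∈ T, g = v * t) → g * g ∈ h.res.grp (base M))
    (hcan : ∀ w ∈ T, w ≠ 1 → ∀ y, orderOf y = 2 → y ∈ ptwise M z w → y ∈ T)
    (hfus : ∀ m t : G, m • base M = base M → t ∈ T → m * t * m⁻¹ ∈ S →
      ∃ e ∈ h.res.grp (base M), ∃ t' ∈ T, m * t * m⁻¹ = e * t')
    (hc : ∃ (c : G) (r k : ℕ), r.Prime ∧ Odd r ∧ c ^ (r ^ k) = 1 ∧ c • base M = base M ∧ c • a = a ∧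
      (∀ t ∈ T, Commute c t) ∧ (∀ e ∈ h.res.grp (base M), e ≠ 1 → c * e * c⁻¹ ≠ e) ∧
      ∀ b : G ⧸ M, c • b = b → b = base M ∨ b = a) : False := by
  classical
  haveI : Fact (Nat.Prime 2) := ⟨Nat.prime_two⟩
  obtain ⟨c, r, kk, hr, hrodd, hcr, hcp, hca, hcT, hcE, hconly⟩ := hc
  set E := h.res.grp (base M) with hE
  have hpM : ∀ {g : G}, g • base M = base M → g ∈ M := fun hg => h.mem_iff_fix.1 hg
  have hMp : ∀ {g : G}, g ∈ M → g • base M = base M := fun hg => h.mem_iff_fix.2 hg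
  by_cases htop : ∀ m : G, m • base M = base M → m ∈ normalizer (block h T : Set G)
  · exact h.false_of_normalizer_top hS hloc hY hbig hTp hsq hnormT htop
  push Not at htop
  obtain ⟨m₀, hm₀p, hm₀⟩ := htop
  have hSM : S ≤ M := fun g hg => hpM (hY.smul g hg)
  have hTM : T ≤ M := hY.T_le.trans hSM
  have hEM : E ≤ M := hY.grp_le.trans hSM
  have hEB : E ≤ normalizer (block h T : Set G) := hY.grp_le.trans (h.S_le_normalizer hY hnormT)
  have hTE : ∀ t ∈ T, t ∈ E → t = 1 := by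
    intro t ht htE
    by_contra ht1
    exact (h.bad_T hY hsq ht ht1).not_conj ((show t = 1 ∨ _ from htE).resolve_left ht1).1
  -- `M / E`
  haveI : (E.subgroupOf M).Normal := ⟨fun e he m => h.res.grp_conj (hMp m.2) he⟩
  set π : M →* M ⧸ E.subgroupOf M := QuotientGroup.mk' _ with hπ
  have hsurj : Function.Surjective π := QuotientGroup.mk'_surjective _
  have hone : ∀ g : M, π g = 1 ↔ (g : G) ∈ E := fun g => QuotientGroup.eq_one_iff g
  set Hm : Subgroup M := (normalizer (block h T : Set G)).subgroupOf M with hHm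
  set H := Hm.map π with hH
  have hHiff : ∀ g : M, π g ∈ H ↔ (g : G) ∈ normalizer (block h T : Set G) := fun g => by
    rw [← mem_comap, hH, comap_map_eq_self (by
      rw [hπ, QuotientGroup.ker_mk']; exact fun e he => hEB he)]
    rfl
  obtain ⟨Q, hQ⟩ := h.exists_sylow_eq hY
  set Sb := Q.mapSurjective hsurj with hSb
  have hSiff : ∀ g : M, π g ∈ (Sb : Subgroup (M ⧸ E.subgroupOf M)) ↔ (g : G) ∈ S := fun g => by
    rw [hSb, Sylow.coe_mapSurjective, hQ]
    refine ⟨fun hg => ?_, fun hg => mem_map_of_mem π hg⟩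
    obtain ⟨s, hs, hsg⟩ := hg
    have h1 : (s : G)⁻¹ * (g : G) ∈ E := (hone (s⁻¹ * g)).1 (by rw [map_mul, map_inv, hsg, inv_mul_cancel])
    have h2 := S.mul_mem (show (s : G) ∈ S from hs) (hY.grp_le h1)
    rwa [mul_inv_cancel_left] at h2
  set Tb := (T.subgroupOf M).map π with hTb
  have hTb' : ∀ w ∈ Tb, ∃ t, ∃ ht : t ∈ T, π ⟨t, hTM ht⟩ = w := by
    rintro _ ⟨⟨t, htM⟩, ht, rfl⟩; exact ⟨t, ht, rfl⟩
  have hTb'' : ∀ t (ht : t ∈ T), π ⟨t, hTM ht⟩ ∈ Tb := fun t ht => mem_map_of_mem π (show t ∈ T from ht)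
  have hd : TIData H Tb Sb := by
    refine ⟨fun g hg => ?_, fun w hw => ?_, fun w hw => ?_, ?_, fun g hg w hw => ?_, fun g hg w hw => ?_,
      fun w hw hw1 g hg => ?_, fun e => ?_⟩
    · obtain ⟨g, rfl⟩ := hsurj g
      exact (hHiff g).2 (h.S_le_normalizer hY hnormT ((hSiff g).1 hg))
    · obtain ⟨t, ht, rfl⟩ := hTb' w hw
      exact (hSiff _).2 (hY.T_le ht)
    · obtain ⟨t, ht, rfl⟩ := hTb' w hw
      rw [← map_mul, hone]
      show t * t ∈ E
      rw [hsq t ht]; exact one_mem E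
    · obtain ⟨y, hy, hy1, hyx⟩ := hy
      have h3 : 3 ≤ Nat.card T := by
        rw [← SetLike.coe_sort_coe, Nat.card_coe_set_eq,
          ← Set.ncard_eq_three.2 ⟨1, x, y, (invol_ne_one hY.frame.bad.invol).symm, hy1.symm, hyx.symm, rfl⟩]
        refine Set.ncard_le_ncard ?_ (Set.toFinite _)
        rintro g (rfl | rfl | rfl) <;> [exact one_mem T; exact hY.frame.self; exact hy]
      have h4 : Nat.card T ≤ Nat.card Tb := Nat.card_le_card_of_injective
        (fun t => ⟨_, hTb'' t.1 t.2⟩) fun t t' e => by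
          have h1 := (hone (⟨t.1, hTM t.2⟩⁻¹ * ⟨t'.1, hTM t'.2⟩)).1 (by
            rw [map_mul, map_inv]; exact inv_mul_eq_one.2 (congrArg Subtype.val e))
          exact Subtype.ext (inv_mul_eq_one.1 (hTE _ (mul_mem (inv_mem t.2) t'.2) h1))
      obtain ⟨i, hi⟩ := IsPGroup.iff_card.1 hY.frame.two
      rcases i with _ | _ | i
      · omega
      · omega
      · have : 1 ≤ 2 ^ i := Nat.one_le_two_pow
        rw [pow_succ, pow_succ] at hi
        omega
    · obtain ⟨g, rfl⟩ := hsurj g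
      obtain ⟨t, ht, rfl⟩ := hTb' w hw
      have h1 : (g : G) * t * (g : G)⁻¹ ∈ block h T :=
        (mem_normalizer_iff.1 ((hHiff g).1 hg) t).1 ((h.mem_block hY).2 ⟨1, one_mem _, t, ht, (one_mul t).symm⟩)
      obtain ⟨e, he, t', ht', het⟩ := (h.mem_block hY).1 h1
      have e2 : g * ⟨t, hTM ht⟩ * g⁻¹ = (⟨e, hEM he⟩ : M) * ⟨t', hTM ht'⟩ := Subtype.ext het
      rw [← map_inv, ← map_mul, ← map_mul, e2, map_mul, (hone ⟨e, hEM he⟩).2 he, one_mul]
      exact hTb'' t' ht'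
    · obtain ⟨g, rfl⟩ := hsurj g
      obtain ⟨t, ht, rfl⟩ := hTb' w hw
      have h1 : π (g * ⟨t, hTM ht⟩ * g⁻¹ * (⟨t, hTM ht⟩ : M)⁻¹) = 1 :=
        (hone _).2 (hnormT g ((hSiff g).1 hg) t ht)
      rw [map_mul, map_mul, map_mul, map_inv, map_inv, mul_inv_eq_one, mul_inv_eq_iff_eq_mul] at h1
      exact h1
    · obtain ⟨g, rfl⟩ := hsurj g
      obtain ⟨t, ht, rfl⟩ := hTb' w hw
      have ht1 : t ≠ 1 := fun e => hw1 ((hone _).2 (show t ∈ E by rw [e]; exact one_mem E))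
      rw [← map_inv, ← map_mul, ← map_mul, hSiff] at hg
      exact (hHiff g).2 (h.mem_normalizer_block hS hloc hY hbig hTp hsq hnormT hcan hfus (hMp g.2) ht ht1 hg)
    · exact hm₀ ((hHiff ⟨m₀, hpM hm₀p⟩).1 (e ▸ mem_top _))
  -- the core
  set K := H.normalCore with hK
  haveI := normalCore_normal H
  set Kp := K.comap π with hKp
  haveI : Kp.Normal := Normal.comap inferInstance π
  have hKE : ∀ k ∈ Kp, ∀ t ∈ T, (k : G) * t * (k : G)⁻¹ * t⁻¹ ∈ E := by
    intro k hk t ht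
    refine (hone (k * ⟨t, hTM ht⟩ * k⁻¹ * (⟨t, hTM ht⟩ : M)⁻¹)).1 ?_
    rw [map_mul, map_mul, map_mul, map_inv, map_inv, (hd.core_commute (hTb'' t ht) hk).eq,
      mul_inv_cancel_right, mul_inv_cancel]
  have hKc : ∀ k ∈ Kp, ∀ m : M, ∀ t ∈ T,
      (k : G) * ((m : G) * t * (m : G)⁻¹) * (k : G)⁻¹ * ((m : G) * t * (m : G)⁻¹)⁻¹ ∈ E := by
    intro k hk m t ht
    have h1 := h.res.grp_conj (hMp m.2) (hKE _ ((‹Kp.Normal›).conj_mem k hk m⁻¹) t ht)
    convert h1 using 1
    simp only [coe_mul, coe_inv, inv_inv]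
    group
  have hih : ∀ (M' : Subgroup ((M ⧸ E.subgroupOf M) ⧸ K)) (z' : (M ⧸ E.subgroupOf M) ⧸ K),
      Crit M' z' → M' ≠ ⊤ → M'.normalCore = ⊥ → Concl M' z' := by
    refine hS.ih _ ?_
    refine lt_of_le_of_lt ((Nat.card_le_card_of_surjective _ (QuotientGroup.mk'_surjective K)).trans
      (Nat.card_le_card_of_surjective _ hsurj)) ?_
    exact lt_of_le_of_ne (card_le_card_group M) fun e => hS.ne_top (eq_top_of_card_eq M e)
  have hsqK : ∀ t ∈ Tb, t ≠ 1 → ∀ g ∈ (Sb : Subgroup (M ⧸ E.subgroupOf M)),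
      g ∈ normalClosure ({t} : Set (M ⧸ E.subgroupOf M)) → ∀ w ∈ Tb, g * g * w ∈ K → w ∈ K := by
    intro tb htb htb1 gb hgb hgn wb hwb hgw
    obtain ⟨t, ht, rfl⟩ := hTb' tb htb
    obtain ⟨w, hw, rfl⟩ := hTb' wb hwb
    obtain ⟨g, rfl⟩ := hsurj gb
    have hgS := (hSiff g).1 hgb
    have ht1 : t ≠ 1 := fun e => htb1 ((hone _).2 (show t ∈ E by rw [e]; exact one_mem E))
    set wM : M := ⟨w, hTM hw⟩ with hwM
    have hcK : g * g * wM ∈ Kp := by rw [hKp, mem_comap, map_mul, map_mul]; exact hgw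
    -- if some `g'` with square in `E` has the square of `g` modulo the core
    have hdone : ∀ g' : M, (g' : G) * (g' : G) ∈ E → π (g' * g') * (π (g * g))⁻¹ ∈ K → π wM ∈ K := by
      intro g' hg' hgg
      rw [(hone (g' * g')).2 hg', one_mul, inv_mem_iff] at hgg
      exact (K.mul_mem_cancel_left hgg).1 (by rw [map_mul]; exact hgw)
    rcases h.core_orbit hS hY Kp hKE ht with hcom | hmove
    · by_cases hw1 : w = 1
      · rw [show wM = 1 from Subtype.ext hw1, map_one]; exact one_mem K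
      refine hdone g (hsqP _ hgS ?_) (by rw [mul_inv_cancel]; exact one_mem K)
      -- `g` commutes with what the core holds
      have hle : normalClosure ({⟨t, hTM ht⟩} : Set M) ≤ centralizer (Kp : Set M) :=
        normalClosure_le_normal (Set.singleton_subset_iff.2 (mem_centralizer_iff.2 fun k hk =>
          Subtype.ext (hcom k hk).eq))
      have himg : π g ∈ (normalClosure ({⟨t, hTM ht⟩} : Set M)).map π := by
        rw [map_normalClosure _ π hsurj, Set.image_singleton]; exact hgn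
      obtain ⟨l, hl, hlg⟩ := himg
      have hle' : (l : G)⁻¹ * (g : G) ∈ E := (hone (l⁻¹ * g)).1 (by rw [map_mul, map_inv, hlg, inv_mul_cancel])
      have hcS : ((g * g * wM : M) : G) ∈ S := mul_mem (mul_mem hgS hgS) (hY.T_le hw)
      have h1 : Commute (l : G) ((g * g * wM : M) : G) :=
        (congrArg Subtype.val ((mem_centralizer_iff.1 (hle hl)) _ hcK)).symm
      have h2 : Commute ((l : G) * ((l : G)⁻¹ * (g : G))) ((g * g * wM : M) : G) :=
        h1.mul_left (hY.centE _ hcS _ hle').symm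
      rw [mul_inv_cancel_left] at h2
      have h3 : Commute (g : G) w := by
        have h4 : Commute (g : G) (((g : G) * (g : G))⁻¹ * ((g * g * wM : M) : G)) :=
          ((Commute.refl _).mul_right (Commute.refl _)).inv_right.mul_right h2
        rwa [show ((g : G) * (g : G))⁻¹ * ((g * g * wM : M) : G) = w from inv_mul_cancel_left _ _] at h4
      exact (h.mem_decomp hS hloc hY hbig hTp hsq hw hw1 hgS h3).1
    · obtain ⟨k, hk, hkS, hkt⟩ := hmove _ (hnormT _ (inv_mem hgS) t ht)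
      rw [inv_mul_cancel_right, inv_inv] at hkt
      have hgk : (g : G) * (k : G) ∈ S := mul_mem hgS hkS
      have hgkt : Commute ((g : G) * (k : G)) t := mul_inv_eq_iff_eq_mul.1 (by
        rw [show (g : G) * k * t * ((g : G) * k)⁻¹ = g * ((k : G) * t * (k : G)⁻¹) * (g : G)⁻¹ by group, hkt]
        group)
      refine hdone (g * k) (hsqP _ hgk (h.mem_decomp hS hloc hY hbig hTp hsq ht ht1 hgk hgkt).1) ?_
      rw [← map_inv, ← map_mul, show g * k * (g * k) * (g * g)⁻¹ = (g * k * g⁻¹) * ((g * g) * k * (g * g)⁻¹) by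
        group]
      exact mem_comap.1 (mul_mem ((‹Kp.Normal›).conj_mem k hk g) ((‹Kp.Normal›).conj_mem k hk (g * g)))
  have hrep : ∀ u : M, π u ∈ H → (∀ t (ht : t ∈ T), Commute (π u) (π ⟨t, hTM ht⟩)) →
      ∃ t, ∃ ht : t ∈ T, u * ⟨t, hTM ht⟩ ∈ Kp := by
    intro u hu hcu
    obtain ⟨wb, hwb, hw⟩ := hd.exists_core_rep hih hsqK hu fun wb hwb => by
      obtain ⟨t, ht, rfl⟩ := hTb' wb hwb; exact hcu t ht
    obtain ⟨t, ht, rfl⟩ := hTb' wb hwb
    exact ⟨t, ht, by rw [hKp, mem_comap, map_mul]; exact hw⟩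
  -- the torus element lies in the core
  set cM : M := ⟨c, hpM hcp⟩ with hcM
  have hcK : cM ∈ Kp := by
    have hcH : π cM ∈ H := (hHiff cM).2 (mem_normalizer_of_forward fun b hb => by
      obtain ⟨e, he, t, ht, rfl⟩ := (h.mem_block hY).1 hb
      refine (h.mem_block hY).2 ⟨_, h.res.grp_conj hcp he, t, ht, ?_⟩
      show c * (e * t) * c⁻¹ = c * e * c⁻¹ * t
      calc c * (e * t) * c⁻¹ = c * e * c⁻¹ * (c * t * c⁻¹) := by group
        _ = _ := by rw [(hcT t ht).eq, mul_inv_cancel_right])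
    obtain ⟨t, ht, hk⟩ := hrep cM hcH fun t ht =>
      (show Commute cM ⟨t, hTM ht⟩ from Subtype.ext (hcT t ht).eq).map π
    set ψ := (QuotientGroup.mk' K).comp π with hψ
    have hψone : ∀ g : M, ψ g = 1 ↔ g ∈ Kp := fun g => QuotientGroup.eq_one_iff (π g)
    have h1 : ψ cM = (ψ ⟨t, hTM ht⟩)⁻¹ := eq_inv_of_mul_eq_one_left (by rw [← map_mul]; exact (hψone _).2 hk)
    have h2 : ψ cM ^ 2 = 1 := by
      rw [h1, inv_pow, inv_eq_one, pow_two, ← map_mul,
        show (⟨t, hTM ht⟩ : M) * ⟨t, hTM ht⟩ = 1 from Subtype.ext (hsq t ht), map_one]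
    have h3 : ψ cM ^ (r ^ kk) = 1 := by
      rw [← map_pow, show cM ^ (r ^ kk) = 1 from Subtype.ext hcr, map_one]
    have h4 := pow_gcd_eq_one.2 ⟨h2, h3⟩
    rw [Nat.Coprime.gcd_eq_one (Nat.Coprime.pow_right kk (Nat.coprime_two_left.2 hrodd)), pow_one] at h4
    exact (hψone cM).1 h4
  -- a conjugate outside commuting with it
  obtain ⟨m, hm, hmH, hcm⟩ : ∃ m : G, m • base M = base M ∧ m ∉ normalizer (block h T : Set G) ∧
      Commute c (m * x * m⁻¹) := by
    set X := m₀ * x * m₀⁻¹ with hX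
    have he₁ : c * X * c⁻¹ * X⁻¹ ∈ E := hKc cM hcK ⟨m₀, hpM hm₀p⟩ x hY.frame.self
    have hinj : Function.Injective
        (fun e : E => (⟨c * e * c⁻¹ * (e : G)⁻¹, mul_mem (h.res.grp_conj hcp e.2) (inv_mem e.2)⟩ : E)) := by
      intro e e' hee
      have h1 : c * e * c⁻¹ * (e : G)⁻¹ = c * e' * c⁻¹ * (e' : G)⁻¹ := congrArg Subtype.val hee
      by_contra hne
      refine hcE ((e' : G)⁻¹ * e) (mul_mem (inv_mem e'.2) e.2)
        (fun h2 => hne (Subtype.ext (inv_mul_eq_one.1 h2).symm)) ?_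
      calc c * ((e' : G)⁻¹ * e) * c⁻¹
          = (e' : G)⁻¹ * (c * e' * c⁻¹ * (e' : G)⁻¹)⁻¹ * (c * e * c⁻¹ * (e : G)⁻¹) * e := by group
        _ = _ := by rw [h1]; group
    obtain ⟨⟨e, he⟩, hee⟩ := Finite.surjective_of_injective hinj ⟨_, he₁⟩
    have hee' : c * e * c⁻¹ * e⁻¹ = c * X * c⁻¹ * X⁻¹ := congrArg Subtype.val hee
    have hm₀i : m₀⁻¹ • base M = base M := inv_smul_eq_iff.2 hm₀p.symm
    obtain ⟨g, hg, hgx⟩ := hY.surj _ (h.res.grp_conj hm₀i he)
    refine ⟨m₀ * g, by rw [mul_smul, hY.smul g hg, hm₀p], fun hh => hm₀ ?_, ?_⟩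
    · exact ((normalizer (block h T : Set G)).mul_mem_cancel_right (h.S_le_normalizer hY hnormT hg)).1 hh
    · rw [show m₀ * g * x * (m₀ * g)⁻¹ = m₀ * (g * x * g⁻¹) * m₀⁻¹ by group, hgx,
        show m₀ * (m₀⁻¹ * e * m₀⁻¹⁻¹ * x) * m₀⁻¹ = e * X by rw [hX]; group]
      refine mul_inv_eq_iff_eq_mul.1 ?_
      have hce : c * e * c⁻¹ * (c * e * c⁻¹) = 1 := h.res.grp_sq (h.res.grp_conj hcp he)
      calc c * (e * X) * c⁻¹ = c * e * c⁻¹ * (c * X * c⁻¹ * X⁻¹) * X := by group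
        _ = c * e * c⁻¹ * (c * e * c⁻¹) * e⁻¹ * X := by rw [← hee']; simp only [mul_assoc]
        _ = e * X := by rw [hce, one_mul, inv_eq_of_mul_eq_one_right (h.res.grp_sq he)]
  set x' := m * x * m⁻¹ with hx'
  have hx := hY.frame.bad
  have hxp := hY.frame.fix_base
  have hx'b : Bad z x' := hx.conj m
  have hx'p : x' • base M = base M := by
    rw [hx', mul_smul, mul_smul, inv_smul_eq_iff.2 hm.symm, hxp, hm]
  -- it fixes `a`
  have hx'a : x' • a = a := by
    haveI : Fact r.Prime := ⟨hr⟩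
    let α := {b : G ⧸ M // x' • b = b ∧ b ≠ base M}
    haveI := Fintype.ofFinite α
    have hkeep : ∀ (g : G), Commute g x' → g • base M = base M → ∀ b, x' • b = b ∧ b ≠ base M →
        x' • g • b = g • b ∧ g • b ≠ base M := fun g hg hgp b hb =>
      ⟨smul_mem_fix hg.symm hb.1, fun e => hb.2 (smul_left_cancel g (e.trans hgp.symm))⟩
    let σ : Equiv.Perm α := ⟨fun b => ⟨c • b.1, hkeep c hcm hcp _ b.2⟩,
      fun b => ⟨c⁻¹ • b.1, hkeep c⁻¹ hcm.inv_left (inv_smul_eq_iff.2 hcp.symm) _ b.2⟩,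
      fun b => Subtype.ext (inv_smul_smul c b.1), fun b => Subtype.ext (smul_inv_smul c b.1)⟩
    have hσ : ∀ (i : ℕ) (b : α), ((σ ^ i) b).1 = c ^ i • b.1 := by
      intro i
      induction i with
      | zero => intro b; rw [pow_zero, pow_zero, one_smul]; rfl
      | succ i ih =>
        intro b
        rw [pow_succ, pow_succ, mul_smul, Equiv.Perm.mul_apply, ih]
        rfl
    obtain ⟨⟨b, hb, hbp⟩, hσb⟩ := Equiv.Perm.exists_fixed_point_of_prime (p := r) (n := kk) (σ := σ) (by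
      rw [← Nat.card_eq_fintype_card]
      obtain ⟨β, -, hβ⟩ := h.exists_deg_pow
      have e : fix M x' = Nat.card α + 1 := by
        rw [fix, ← Nat.card_congr (Equiv.optionSubtypeNe (⟨base M, hx'p⟩ : {b : G ⧸ M // x' • b = b})),
          Finite.card_option]
        congr 1
        exact Nat.card_congr ⟨fun b => ⟨b.1.1, b.1.2, fun e => b.2 (Subtype.ext e)⟩,
          fun b => ⟨⟨b.1, b.2.1⟩, fun e => b.2.2 (congrArg Subtype.val e)⟩, fun _ => rfl, fun _ => rfl⟩
      have e2 : fix M x' = fix M x := h.fix_eq hx'b hx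
      have e3 : ∃ i : ℕ, Nat.card α = 2 ^ i := by
        rcases hbig with e4 | e4 <;> [exists β * 2; exists β * 3] <;> rw [pow_mul, ← hβ] <;> omega
      obtain ⟨i, hi⟩ := e3
      intro hdv
      rw [hi] at hdv
      have h2 := (Nat.prime_dvd_prime_iff_eq hr Nat.prime_two).1 (hr.dvd_of_dvd_pow hdv)
      rw [h2] at hrodd
      exact absurd hrodd (by decide))
      (Equiv.ext fun b => Subtype.ext (by rw [hσ, hcr, one_smul]; rfl))
    rcases hconly b (congrArg Subtype.val hσb) with rfl | rfl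
    · exact absurd rfl hbp
    · exact hb
  -- the product has odd order modulo `E`
  set mM : M := ⟨m, hpM hm⟩ with hmM
  set xM : M := ⟨x, hpM hxp⟩ with hxM
  have hxT : π xM ∈ Tb := hTb'' x hY.frame.self
  have hx1 : π xM ≠ 1 := fun e => invol_ne_one hx.invol (hTE x hY.frame.self ((hone _).1 e))
  have hcr' := hd.crit hxT hx1
  have hodd : Odd (orderOf (π (xM * (mM * xM * mM⁻¹)))) := by
    rw [map_mul]
    refine hcr'.odd_mul (IsConj.refl _) (isConj_iff.2 ⟨π mM, by rw [map_mul, map_mul, map_inv]⟩)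
      (a := ((1 : M ⧸ E.subgroupOf M) : (M ⧸ E.subgroupOf M) ⧸ H))
      (b := ((π mM : M ⧸ E.subgroupOf M) : (M ⧸ E.subgroupOf M) ⧸ H)) ?_ ?_ ?_
    · rw [smul_coe_eq_iff, inv_one, one_mul, mul_one]; exact hd.le (hd.T_le hxT)
    · rw [smul_coe_eq_iff, ← map_inv, ← map_mul, ← map_mul,
        show mM⁻¹ * (mM * xM * mM⁻¹) * mM = xM by group]
      exact hd.le (hd.T_le hxT)
    · rw [Ne, QuotientGroup.eq, inv_one, one_mul, hHiff]
      exact hmH
  set n₀ := orderOf (π (xM * (mM * xM * mM⁻¹))) with hn₀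
  have hjE : (x * x') ^ n₀ ∈ E := by
    have h1 := (hone ((xM * (mM * xM * mM⁻¹)) ^ n₀)).1 (by rw [map_pow, hn₀, pow_orderOf_eq_one])
    simpa [hx', hxM, hmM] using h1
  have hkey : ∀ g ∈ S, ∃ w ∈ T, g * w * x' * (g * w)⁻¹ = g * x * g⁻¹ * x * x' := by
    intro g hg
    obtain ⟨w, hw, hk⟩ := hrep ⟨g, hSM hg⟩ (hd.le ((hSiff _).2 hg)) fun t ht =>
      hd.cent _ ((hSiff _).2 hg) _ (hTb'' t ht)
    refine ⟨w, hw, ?_⟩
    set k := g * w with hkdef
    set e := g * x * g⁻¹ * x with he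
    have heE : e ∈ E := hY.coset g hg
    have hkx : k * x * k⁻¹ = e * x := by
      rw [he, mul_assoc _ x x, invol_mul_self hx.invol, mul_one, hkdef,
        show g * w * x * (g * w)⁻¹ = g * (w * x * w⁻¹) * g⁻¹ by group, ← (hY.frame.cent w hw).eq,
        mul_inv_cancel_right]
    set e' := k * x' * k⁻¹ * x'⁻¹ with he'
    have he'E : e' ∈ E := hKc _ hk mM x hY.frame.self
    have hkx' : k * x' * k⁻¹ = e' * x' := by rw [he', inv_mul_cancel_right]
    suffices hee : e * e' = 1 by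
      rw [hkx', eq_inv_of_mul_eq_one_left hee, inv_eq_of_mul_eq_one_right (h.res.grp_sq he'E)]
    have hf : e * e' ∈ E := mul_mem heE he'E
    have hkj : k * (x * x') * k⁻¹ = e * e' * (x * x') := by
      calc k * (x * x') * k⁻¹ = k * x * k⁻¹ * (k * x' * k⁻¹) := by group
        _ = e * (x * e') * x' := by rw [hkx, hkx']; simp only [mul_assoc]
        _ = _ := by rw [(h.commute_grp hx hxp he'E).eq]; simp only [mul_assoc]
    have hcomm : Commute (e * e') (x * x') :=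
      (h.commute_grp hx hxp hf).symm.mul_right (h.commute_grp hx'b hx'p hf).symm
    have hp := conj_pow (i := n₀) (a := k) (b := x * x')
    rw [hkj, hcomm.mul_pow, (hY.centE k (mul_mem hg (hY.T_le hw)) _ hjE).eq, mul_inv_cancel_right] at hp
    have hq : (e * e') ^ n₀ = 1 := mul_eq_right.1 hp
    obtain ⟨i, hi⟩ := hodd
    rwa [hi, pow_succ, pow_mul, pow_two, h.res.grp_sq hf, one_pow, one_mul] at hq
  have hxx' : x' = x := h.eq_of_moved_alike hS hY hx'b hx'p hx'a hY.frame.cent hkey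
  exact hmH (h.mem_normalizer_block hS hloc hY hbig hTp hsq hnormT hcan hfus hm hY.frame.self
    (invol_ne_one hx.invol) (by rw [← hx', hxx']; exact hY.T_le hY.frame.self))

end EqRes

end CfsgLib.SECrit.Eq
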