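import Mathlib.Algebra.Order.BigOperators.Ring.Finset
import Mathlib.Algebra.Order.Chebyshev
import Mathlib.Data.Fintype.BigOperators
import Mathlib.SetTheory.Cardinal.Finite
import Mathlib.Tactic.Ring
import Mathlib.Tactic.Linarith

/-!
# Higman's inequality for generalized quadrangles

With `s + 1` points on a line and `t + 1` lines on a point, both `s, t > 1`: `t ≤ s ^ 2`; dually `s ≤ t ^ 2`.
-/

set_option autoImplicit false

namespace CfsgLib.SECrit

open Finset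

variable {Pt Ln : Type*} {I : Pt → Ln → Prop} {s t : ℕ}

/-- A generalized quadrangle of order `(s, t)`. -/
structure Quad (Pt Ln : Type*) (I : Pt → Ln → Prop) (s t : ℕ) : Prop where
  /-- the points of a line -/
  line_card : ∀ L, Nat.card {p // I p L} = s + 1
  /-- the lines of a point -/
  point_card : ∀ p, Nat.card {L // I p L} = t + 1
  /-- two points are on one line at most -/
  unique : ∀ p q L M, I p L → I q L → I p M → I q M → p = q ∨ L = M
  /-- a point off a line is collinear with one point of it -/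
  proj : ∀ p L, ¬ I p L → ∃! q, I q L ∧ ∃ M, I p M ∧ I q M

namespace Quad

variable (h : Quad Pt Ln I s t)
include h

/-- The dual quadrangle. -/
theorem dual : Quad Ln Pt (fun L p => I p L) t s := by
  refine ⟨h.point_card, h.line_card, fun L M p q h1 h2 h3 h4 => (h.unique p q L M h1 h3 h2 h4).symm, ?_⟩
  intro L p hpL
  obtain ⟨q, ⟨hqL, M, hpM, hqM⟩, hu⟩ := h.proj p L hpL
  refine ⟨M, ⟨hpM, q, hqL, hqM⟩, ?_⟩
  rintro M' ⟨hpM', q', hq'L, hq'M'⟩
  obtain rfl := hu q' ⟨hq'L, M', hpM', hq'M'⟩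
  rcases h.unique p q' M' M hpM' hq'M' hpM hqM with e | e
  · exact absurd (e ▸ hq'L) hpL
  · exact e

/-- **Higman's inequality.** -/
theorem le_sq [Finite Pt] [Finite Ln] [Nonempty Ln] (hs : 1 < s) (ht : 1 < t) : t ≤ s ^ 2 := by
  classical
  haveI := Fintype.ofFinite Pt
  haveI := Fintype.ofFinite Ln
  let pts : Ln → Finset Pt := fun L => univ.filter fun p => I p L
  let lns : Pt → Finset Ln := fun p => univ.filter fun L => I p L
  have hpts : ∀ L p, p ∈ pts L ↔ I p L := fun L p => by simp [pts]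
  have hlns : ∀ p L, L ∈ lns p ↔ I p L := fun p L => by simp [lns]
  have cpts : ∀ L, (pts L).card = s + 1 := fun L => by
    rw [← h.line_card L, Nat.card_eq_fintype_card, Fintype.card_subtype]
  have clns : ∀ p, (lns p).card = t + 1 := fun p => by
    rw [← h.point_card p, Nat.card_eq_fintype_card, Fintype.card_subtype]
  let adj : Pt → Pt → Prop := fun p q => p ≠ q ∧ ∃ L, I p L ∧ I q L
  let nb : Pt → Finset Pt := fun p => univ.filter fun q => adj p q
  have hnb : ∀ p q, q ∈ nb p ↔ p ≠ q ∧ ∃ L, I p L ∧ I q L := fun p q => by simp [nb, adj]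
  have hsymm : ∀ p q, q ∈ nb p → p ∈ nb q := fun p q hq => by
    rw [hnb] at hq ⊢
    obtain ⟨hne, L, h1, h2⟩ := hq
    exact ⟨hne.symm, L, h2, h1⟩
  have cnb : ∀ p, (nb p).card = (t + 1) * s := by
    intro p
    have e : nb p = (lns p).biUnion fun L => (pts L).erase p := by
      ext q
      simp only [hnb, mem_biUnion, mem_erase, hlns, hpts]
      exact ⟨fun ⟨hne, L, h1, h2⟩ => ⟨L, h1, hne.symm, h2⟩, fun ⟨L, h1, hne, h2⟩ => ⟨hne.symm, L, h1, h2⟩⟩
    rw [e, card_biUnion, sum_congr rfl (fun L hL => by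
      rw [card_erase_of_mem ((hpts L p).2 ((hlns p L).1 hL)), cpts, Nat.add_sub_cancel]), sum_const, smul_eq_mul,
      clns]
    intro L hL M hM hne
    show Disjoint ((pts L).erase p) ((pts M).erase p)
    rw [Finset.disjoint_left]
    intro q h1 h2
    rw [mem_erase, hpts] at h1 h2
    rcases h.unique p q L M ((hlns p L).1 hL) h1.2 ((hlns p M).1 hM) h2.2 with e | e
    · exact h1.1 e.symm
    · exact hne e
  have htri : ∀ {p q r : Pt} {L : Ln}, p ≠ q → I p L → I q L → r ∈ nb p → r ∈ nb q → I r L := by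
    intro p q r L hpq hp hq h1 h2
    by_contra hr
    obtain ⟨w, -, hu⟩ := h.proj r L hr
    rw [hnb] at h1 h2
    obtain ⟨-, M, hpM, hrM⟩ := h1
    obtain ⟨-, M', hqM', hrM'⟩ := h2
    exact hpq ((hu p ⟨hp, M, hrM, hpM⟩).trans (hu q ⟨hq, M', hrM', hqM'⟩).symm)
  -- the common neighbours of two non-collinear points
  have ccommon : ∀ x y : Pt, x ≠ y → y ∉ nb x → (nb x ∩ nb y).card = t + 1 := by
    intro x y hxy hnadj
    have hoff : ∀ L, I x L → ¬ I y L := fun L h1 h2 => hnadj ((hnb x y).2 ⟨hxy, L, h1, h2⟩)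
    choose φ hφ hφu using fun (L : Ln) (hL : L ∈ lns x) => (h.proj y L (hoff L ((hlns x L).1 hL)))
    rw [← clns x]
    refine (card_bij φ (fun L hL => ?_) (fun L hL M hM e => ?_) fun u hu => ?_).symm
    · obtain ⟨h1, M, hyM, hM⟩ := hφ L hL
      have hx : φ L hL ≠ x := fun e => hnadj ((hnb x y).2 ⟨hxy, M, e ▸ hM, hyM⟩)
      have hy : φ L hL ≠ y := fun e => hoff L ((hlns x L).1 hL) (e ▸ h1)
      rw [mem_inter, hnb, hnb]
      exact ⟨⟨hx.symm, L, (hlns x L).1 hL, h1⟩, hy.symm, M, hyM, hM⟩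
    · obtain ⟨h1, M₁, hy1, hM₁⟩ := hφ L hL
      obtain ⟨h2, -⟩ := hφ M hM
      rw [← e] at h2
      rcases h.unique x (φ L hL) L M ((hlns x L).1 hL) h1 ((hlns x M).1 hM) h2 with e' | e'
      · exact absurd ((hnb x y).2 ⟨hxy, M₁, e' ▸ hM₁, hy1⟩) hnadj
      · exact e'
    · rw [mem_inter, hnb, hnb] at hu
      obtain ⟨⟨-, L, hxL, huL⟩, -, M, hyM, huM⟩ := hu
      exact ⟨L, (hlns x L).2 hxL, (hφu L ((hlns x L).2 hxL) u ⟨huL, M, hyM, huM⟩).symm⟩
  -- the number of points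
  obtain ⟨L⟩ := ‹Nonempty Ln›
  have hv : Fintype.card Pt = (s + 1) + (s + 1) * (t * s) := by
    have e : (univ \ pts L) = (pts L).biUnion fun q => nb q \ pts L := by
      ext p
      simp only [mem_sdiff, mem_univ, true_and, mem_biUnion, hpts, hnb]
      refine ⟨fun hp => ?_, fun ⟨q, _, _, hp⟩ => hp⟩
      obtain ⟨q, ⟨hq, M, hpM, hqM⟩, -⟩ := h.proj p L hp
      exact ⟨q, hq, ⟨fun e => hp (e ▸ hq), M, hqM, hpM⟩, hp⟩
    have hc : ∀ q ∈ pts L, (nb q \ pts L).card = t * s := by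
      intro q hq
      have e2 : pts L ∩ nb q = (pts L).erase q := by
        ext p
        simp only [mem_inter, mem_erase, hpts, hnb]
        exact ⟨fun h' => ⟨h'.2.1.symm, h'.1⟩, fun h' => ⟨h'.2, h'.1.symm, L, (hpts L q).1 hq, h'.2⟩⟩
      rw [card_sdiff, e2, card_erase_of_mem hq, cnb, cpts, Nat.add_sub_cancel, Nat.succ_mul, Nat.add_sub_cancel]
    have hd : ∀ q ∈ pts L, ∀ q' ∈ pts L, q ≠ q' → Disjoint (nb q \ pts L) (nb q' \ pts L) := by
      intro q hq q' hq' hne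
      rw [Finset.disjoint_left]
      intro p h1 h2
      rw [mem_sdiff] at h1 h2
      exact h1.2 ((hpts L p).2 (htri hne ((hpts L q).1 hq) ((hpts L q').1 hq') h1.1 h2.1))
    have h1 := card_sdiff_add_card_eq_card (subset_univ (pts L))
    rw [e, card_biUnion hd, sum_congr rfl hc, sum_const, smul_eq_mul, cpts, card_univ] at h1
    omega
  -- two non-collinear points
  obtain ⟨p, hp⟩ := card_pos.1 (show 0 < (pts L).card by rw [cpts]; omega)
  rw [hpts] at hp
  obtain ⟨M, hM, hML⟩ := exists_mem_ne (show 1 < (lns p).card by rw [clns]; omega) L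
  rw [hlns] at hM
  obtain ⟨x, hx, hxp⟩ := exists_mem_ne (show 1 < (pts L).card by rw [cpts]; omega) p
  obtain ⟨y, hy, hyp⟩ := exists_mem_ne (show 1 < (pts M).card by rw [cpts]; omega) p
  rw [hpts] at hx hy
  have hxM : ¬ I x M := fun h' => (h.unique p x L M hp hx hM h').elim (fun e => hxp e.symm) (fun e => hML e.symm)
  have hxy : x ≠ y := fun e => hxM (e ▸ hy)
  have hnadj : y ∉ nb x := fun h' => hxM (htri hyp.symm hM hy ((hnb p x).2 ⟨hxp.symm, L, hp, hx⟩) (hsymm _ _ h'))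
  set N := nb x ∩ nb y with hN
  have hNc : N.card = t + 1 := ccommon x y hxy hnadj
  have hnon : ∀ (a b : Pt), a ≠ b → b ∉ nb a → ∀ u ∈ nb a ∩ nb b, ∀ u' ∈ nb a ∩ nb b, u ≠ u' → u' ∉ nb u := by
    intro a b hab hnab u hu u' hu' hne h'
    rw [mem_inter] at hu hu'
    obtain ⟨-, K, huK, hu'K⟩ := (hnb u u').1 h'
    refine hnab ((hnb a b).2 ⟨hab, K, ?_, ?_⟩)
    · exact htri hne huK hu'K (hsymm _ _ hu.1) (hsymm _ _ hu'.1)
    · exact htri hne huK hu'K (hsymm _ _ hu.2) (hsymm _ _ hu'.2)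
  set V := univ.filter (fun z => z ≠ x ∧ z ≠ y ∧ z ∉ nb x ∧ z ∉ nb y) with hV
  have hVc : V.card + (2 * ((t + 1) * s) - (t + 1)) + 2 = Fintype.card Pt := by
    have h1 : Vᶜ = insert x (insert y (nb x ∪ nb y)) := by
      ext z
      simp only [hV, mem_compl, mem_filter, mem_univ, true_and, mem_insert, mem_union]
      tauto
    have h2 := card_compl_add_card V
    have h3 := card_union_add_card_inter (nb x) (nb y)
    rw [cnb, cnb, ← hN, hNc] at h3
    rw [h1, card_insert_of_notMem, card_insert_of_notMem] at h2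
    · omega
    · rw [mem_union]
      exact fun h' => h'.elim hnadj fun h'' => ((hnb y y).1 h'').1 rfl
    · simp only [mem_insert, mem_union, not_or]
      exact ⟨hxy, fun h' => ((hnb x x).1 h').1 rfl, fun h' => hnadj (hsymm _ _ h')⟩
  have hone : ∀ u ∈ N, (V.filter fun z => z ∈ nb u).card = (t - 1) * s := by
    intro u hu
    rw [hN, mem_inter] at hu
    obtain ⟨hxu, L₁, hx1, hu1⟩ := (hnb x u).1 hu.1
    obtain ⟨hyu, L₂, hy2, hu2⟩ := (hnb y u).1 hu.2
    have hne : L₁ ≠ L₂ := fun e => hnadj ((hnb x y).2 ⟨hxy, L₁, hx1, e ▸ hy2⟩)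
    have e : (V.filter fun z => z ∈ nb u) = nb u \ ((pts L₁).erase u ∪ (pts L₂).erase u) := by
      ext z
      simp only [hV, mem_filter, mem_univ, true_and, mem_sdiff, mem_union, mem_erase, hpts, not_or, not_and]
      constructor
      · rintro ⟨⟨h1, h2, h3, h4⟩, h5⟩
        exact ⟨h5, fun _ hz => h3 ((hnb x z).2 ⟨Ne.symm h1, L₁, hx1, hz⟩),
          fun _ hz => h4 ((hnb y z).2 ⟨Ne.symm h2, L₂, hy2, hz⟩)⟩
      · rintro ⟨h5, h6, h7⟩
        have hzu : z ≠ u := fun e => ((hnb u z).1 h5).1 e.symm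
        exact ⟨⟨fun e => h6 hzu (e ▸ hx1), fun e => h7 hzu (e ▸ hy2), fun h3 => h6 hzu (htri hxu hx1 hu1 h3 h5),
          fun h4 => h7 hzu (htri hyu hy2 hu2 h4 h5)⟩, h5⟩
    have hsub : (pts L₁).erase u ∪ (pts L₂).erase u ⊆ nb u := by
      intro z hz
      rw [hnb]
      rw [mem_union, mem_erase, mem_erase, hpts, hpts] at hz
      rcases hz with ⟨h1, h2⟩ | ⟨h1, h2⟩
      · exact ⟨h1.symm, L₁, hu1, h2⟩
      · exact ⟨h1.symm, L₂, hu2, h2⟩
    have hdis : Disjoint ((pts L₁).erase u) ((pts L₂).erase u) := by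
      rw [Finset.disjoint_left]
      intro z h1 h2
      rw [mem_erase, hpts] at h1 h2
      exact (h.unique u z L₁ L₂ hu1 h1.2 hu2 h2.2).elim (fun e => h1.1 e.symm) hne
    rw [e, card_sdiff_of_subset hsub, card_union_of_disjoint hdis, card_erase_of_mem ((hpts L₁ u).2 hu1),
      card_erase_of_mem ((hpts L₂ u).2 hu2), cnb, cpts, cpts, Nat.add_sub_cancel,
      ← two_mul, ← Nat.sub_mul, show t + 1 - 2 = t - 1 by omega]
  have htwo : ∀ q ∈ N.offDiag, (V.filter fun z => z ∈ nb q.1 ∧ z ∈ nb q.2).card = t - 1 := by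
    rintro ⟨u, u'⟩ hq
    rw [mem_offDiag] at hq
    obtain ⟨hu, hu', hne⟩ := hq
    have hnu := hnon x y hxy hnadj u hu u' hu' hne
    rw [hN, mem_inter] at hu hu'
    have e : (V.filter fun z => z ∈ nb u ∧ z ∈ nb u') = ((nb u ∩ nb u').erase x).erase y := by
      ext z
      simp only [hV, mem_filter, mem_univ, true_and, mem_erase, mem_inter]
      constructor
      · rintro ⟨⟨h1, h2, -, -⟩, h5⟩; exact ⟨h2, h1, h5⟩
      · rintro ⟨h2, h1, h5⟩
        refine ⟨⟨h1, h2, ?_, ?_⟩, h5⟩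
        · exact hnon u u' hne hnu x (mem_inter.2 ⟨hsymm _ _ hu.1, hsymm _ _ hu'.1⟩) z (mem_inter.2 h5) (Ne.symm h1)
        · exact hnon u u' hne hnu y (mem_inter.2 ⟨hsymm _ _ hu.2, hsymm _ _ hu'.2⟩) z (mem_inter.2 h5) (Ne.symm h2)
    rw [e, card_erase_of_mem, card_erase_of_mem, ccommon u u' hne hnu]
    · omega
    · exact mem_inter.2 ⟨hsymm _ _ hu.1, hsymm _ _ hu'.1⟩
    · exact mem_erase.2 ⟨hxy.symm, mem_inter.2 ⟨hsymm _ _ hu.2, hsymm _ _ hu'.2⟩⟩
  -- counting
  let n : Pt → ℕ := fun z => (N.filter fun u => z ∈ nb u).card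
  have hsum : ∑ z ∈ V, n z = (t + 1) * ((t - 1) * s) := by
    show ∑ z ∈ V, (N.filter fun u => z ∈ nb u).card = _
    simp only [card_filter]
    rw [sum_comm, ← hNc, ← smul_eq_mul, ← sum_const]
    exact sum_congr rfl fun u hu => by rw [← card_filter]; exact hone u hu
  have hsq : ∑ z ∈ V, n z ^ 2 = (t + 1) * ((t - 1) * s) + N.offDiag.card * (t - 1) := by
    have e : ∀ z, n z ^ 2 = n z + (N.offDiag.filter fun q => z ∈ nb q.1 ∧ z ∈ nb q.2).card := by
      intro z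
      have e2 : (N.offDiag.filter fun q => z ∈ nb q.1 ∧ z ∈ nb q.2) = (N.filter fun u => z ∈ nb u).offDiag := by
        ext ⟨u, u'⟩
        simp only [mem_filter, mem_offDiag]
        tauto
      rw [e2, offDiag_card, pow_two]
      exact (Nat.add_sub_cancel' (Nat.le_mul_self _)).symm
    rw [sum_congr rfl fun z _ => e z, sum_add_distrib, hsum]
    congr 1
    simp only [card_filter]
    rw [sum_comm, ← smul_eq_mul, ← sum_const]
    exact sum_congr rfl fun q hq => by rw [← card_filter]; exact htwo q hq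
  have hcs : (∑ z ∈ V, n z) ^ 2 ≤ V.card * ∑ z ∈ V, n z ^ 2 := sq_sum_le_card_mul_sum_sq
  rw [hsum, hsq, offDiag_card, hNc] at hcs
  -- arithmetic
  obtain ⟨t', rfl⟩ : ∃ t', t = t' + 2 := ⟨t - 2, by omega⟩
  obtain ⟨s', rfl⟩ : ∃ s', s = s' + 2 := ⟨s - 2, by omega⟩
  rw [show t' + 2 - 1 = t' + 1 by omega] at hcs
  obtain ⟨c, hc⟩ : ∃ c, V.card = c := ⟨_, rfl⟩
  rw [hc] at hcs hVc
  have e1 : (t' + 2 + 1) * (t' + 2 + 1) - (t' + 2 + 1) = (t' + 2 + 1) * (t' + 2) :=
    Nat.sub_eq_of_eq_add (by ring)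
  have e2 : 2 * ((t' + 2 + 1) * (s' + 2)) - (t' + 2 + 1) = (t' + 2 + 1) * (2 * s' + 3) :=
    Nat.sub_eq_of_eq_add (by ring)
  rw [e1] at hcs
  rw [e2] at hVc
  have hcs' : (t' + 3) * (t' + 1) * (s' + 2) ^ 2 ≤ c * (s' + 2 + (t' + 2)) := by
    refine Nat.le_of_mul_le_mul_left ?_ (show 0 < (t' + 3) * (t' + 1) by positivity)
    calc _ = ((t' + 2 + 1) * ((t' + 1) * (s' + 2))) ^ 2 := by ring
      _ ≤ _ := hcs
      _ = _ := by ring
  by_contra hlt
  push Not at hlt
  have hvz : (c : ℤ) = (s' + 3) + (s' + 3) * ((t' + 2) * (s' + 2)) - (t' + 3) * (2 * s' + 3) - 2 := by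
    have := congrArg (fun k : ℕ => (k : ℤ)) (hVc.trans hv)
    push_cast at this
    linarith
  have hz : ((t' : ℤ) + 3) * (t' + 1) * (s' + 2) ^ 2 ≤ c * (s' + 2 + (t' + 2)) := by exact_mod_cast hcs'
  rw [hvz] at hz
  have hl : ((s' : ℤ) + 2) ^ 2 + 1 ≤ t' + 2 := by exact_mod_cast hlt
  have hpos : (0 : ℤ) < ((t' : ℤ) + 2) * (s' + 1) := by positivity
  nlinarith [mul_le_mul_of_nonneg_left hl hpos.le]

end Quad

end CfsgLib.SECrit
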