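import Cfsg.Agent.Lib.Invol.SECriterion.EqType.Big.Sylo
import Cfsg.Agent.Lib.Invol.SECriterion.EqType.Big.Quadrangle

/-!
# The strong embedding criterion, equal type, pointwise `T`: the block of a point

All members of `T` have the fixed set of `x`; `B = E T` is normalized by every element of `M` mapping a
member into the Sylow group.  If `M` normalizes `B`, fixed sets and points form a generalized quadrangle
against Higman's inequality.
-/

set_option autoImplicit false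
set_option linter.style.haveILetI false
set_option linter.unusedSectionVars false

namespace CfsgLib.SECrit.Eq

open CfsgLib.Invol Small Subgroup
open scoped Pointwise

universe u

variable {G : Type u} [Group G] [Finite G] {M : Subgroup G} {z : G}

namespace EqRes

variable (h : EqRes M z)
include h

/-- Bad involutions with the same fixed points have the same group. -/
theorem commute_locGroup_of_fix {x y : G} (hx : Bad z x) (hy : Bad z y)
    (hF : ∀ b : G ⧸ M, x • b = b → y • b = b) {l : G} (hl : l ∈ locGroup z x) : Commute y l := by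
  induction hl using closure_induction with
  | mem d hd =>
    obtain ⟨b, hb⟩ := h.res.crit.fix_exists hd.1
    exact h.commute_grp hy (hF b (h.res.crit.smul_of_commute hd.1 hd.2 hb)) (Or.inr ⟨hd.1, hb⟩)
  | one => exact Commute.one_right y
  | mul a b _ _ iha ihb => exact iha.mul_right ihb
  | inv a _ iha => exact iha.inv_right

/-- A set of fixed points inside another is equal to it. -/
theorem fix_iff_of_subset {x y : G} (hx : Bad z x) (hy : Bad z y)
    (hF : ∀ b : G ⧸ M, x • b = b → y • b = b) (b : G ⧸ M) : y • b = b ↔ x • b = b := by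
  have e : {b : G ⧸ M | x • b = b} = {b | y • b = b} := by
    refine Set.eq_of_subset_of_ncard_le (fun b hb => hF b hb) (le_of_eq ?_) (Set.toFinite _)
    rw [← Nat.card_coe_set_eq, ← Nat.card_coe_set_eq]
    exact h.fix_eq hy hx
  exact (Set.ext_iff.1 e b).symm

variable (hS : Setup M z) (hloc : ∀ x : G, IsBad M x → Local M z x) {x : G} {a : G ⧸ M} {T P S : Subgroup G}
  (hY : h.Sylo x a T P S) (hbig : fix M x = (deg M z + 1) ^ 2 + 1 ∨ fix M x = (deg M z + 1) ^ 3 + 1)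
  (hTp : T ≤ ptwise M z x) (hsq : ∀ t ∈ T, t * t = 1)

include hY hsq in
theorem bad_T {w : G} (hw : w ∈ T) (hw1 : w ≠ 1) : Bad z w :=
  ⟨invol_iff.2 ⟨hsq w hw, hw1⟩, fun hh => hY.frame.ne
    (h.res.crit.fix_unique hh (hY.frame.fix_T w hw).2 (hY.frame.fix_T w hw).1)⟩

include hY hTp hsq in
/-- Every member has the fixed points of `x`. -/
theorem fix_T_iff {w : G} (hw : w ∈ T) (hw1 : w ≠ 1) (b : G ⧸ M) : w • b = b ↔ x • b = b :=
  h.fix_iff_of_subset hY.frame.bad (h.bad_T hY hsq hw hw1) (mem_ptwise.1 (hTp hw)).2.2 b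

include hY hTp hsq in
theorem commute_T {t w : G} (ht : t ∈ T) (hw : w ∈ T) : Commute t w := by
  have h1 : t * w * (t * w) = 1 := hsq _ (mul_mem ht hw)
  calc t * w = (t * w)⁻¹ := eq_inv_of_mul_eq_one_left h1
    _ = w * t := by rw [mul_inv_rev, inv_eq_of_mul_eq_one_right (hsq t ht), inv_eq_of_mul_eq_one_right (hsq w hw)]

include hY hTp hsq in
theorem T_le_ptwise {w : G} (hw : w ∈ T) (hw1 : w ≠ 1) : T ≤ ptwise M z w := fun t ht =>
  mem_ptwise.2 ⟨h.commute_T hY hTp hsq hw ht, fun _ hl => by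
    by_cases ht1 : t = 1
    · exact ht1 ▸ Commute.one_right _
    exact (h.commute_locGroup_of_fix (h.bad_T hY hsq hw hw1) (h.bad_T hY hsq ht ht1)
      (fun b hb => (h.fix_T_iff hY hTp hsq ht ht1 b).2 ((h.fix_T_iff hY hTp hsq hw hw1 b).1 hb)) hl).symm,
    fun b hb => (mem_ptwise.1 (hTp ht)).2.2 b ((h.fix_T_iff hY hTp hsq hw hw1 b).1 hb)⟩

include hS hloc hY hbig hTp hsq in
/-- The centralizer of a member in `S` is that of `x`. -/
theorem mem_decomp {w g : G} (hw : w ∈ T) (hw1 : w ≠ 1) (hg : g ∈ S) (hgw : Commute g w) :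
    (∃ v ∈ P, ∃ t ∈ T, g = v * t) ∧ Commute g x ∧ ∀ t ∈ T, Commute g t := by
  classical
  obtain ⟨-, hUcf, hUdec, -, hUle⟩ := h.sup_props hS hloc hY.frame hY.reg
  have hUT : ∀ g ∈ P ⊔ T, ∀ t ∈ T, Commute g t := by
    intro g hg t ht
    obtain ⟨v, hv, t', ht', rfl⟩ := hUdec g hg
    exact ((mem_ptwise.1 (hTp ht)).2.1 v ((hY.reg.mem v).1 hv).1).mul_left (h.commute_T hY hTp hsq ht' ht)
  set D : Subgroup G := S ⊓ centralizer ({w} : Set G) with hD
  have hUD : P ⊔ T ≤ D := le_inf (sup_le hY.reg_le hY.T_le) fun g hg =>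
    mem_centralizer_singleton_iff.2 (hUT g hg w hw).eq
  have hDle : Nat.card D ≤ (fix M x - 1) * Nat.card T := by
    letI : MulAction D (G ⧸ M) := MulAction.compHom _ D.subtype
    rw [← (Nat.card_prod _ _).symm.trans (Nat.card_congr (MulAction.orbitProdStabilizerEquivGroup D a))]
    refine Nat.mul_le_mul ?_ ?_
    · have e1 : Nat.card (MulAction.orbit D a) ≤ Nat.card {b : G ⧸ M // x • b = b ∧ b ≠ base M} := by
        refine Nat.card_le_card_of_injective (fun b => ⟨b.1, ?_⟩) fun b b' e =>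
          Subtype.ext (Subtype.mk.inj e)
        obtain ⟨⟨g, hg⟩, hgb⟩ := b.2
        rw [← hgb]
        refine ⟨(h.fix_T_iff hY hTp hsq hw hw1 _).1 ?_,
          fun e => hY.frame.ne (smul_left_cancel g (e.trans (hY.smul g hg.1).symm))⟩
        show w • g • a = g • a
        rw [smul_smul, ← mem_centralizer_singleton_iff.1 hg.2, mul_smul, (hY.frame.fix_T w hw).2]
      refine e1.trans (le_of_eq ?_)
      rw [fix]
      have e := Nat.card_congr (Equiv.optionSubtypeNe (⟨base M, hY.frame.fix_base⟩ : {b : G ⧸ M // x • b = b}))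
      rw [Finite.card_option] at e
      have e2 : Nat.card {b : {b : G ⧸ M // x • b = b} // b ≠ ⟨base M, hY.frame.fix_base⟩} =
          Nat.card {b : G ⧸ M // x • b = b ∧ b ≠ base M} :=
        Nat.card_congr ⟨fun b => ⟨b.1.1, b.1.2, fun e => b.2 (Subtype.ext e)⟩,
          fun b => ⟨⟨b.1, b.2.1⟩, fun e => b.2.2 (congrArg Subtype.val e)⟩, fun _ => rfl, fun _ => rfl⟩
      omega
    · rw [← card_map_of_injective (K := MulAction.stabilizer D a) D.subtype_injective]
      refine hY.frame.max _ a ((((hY.two.to_le inf_le_left).to_subgroup _)).map D.subtype) hY.frame.ne ?_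
      rintro _ ⟨g, hg, rfl⟩
      exact ⟨hY.smul g g.2.1, MulAction.mem_stabilizer_iff.1 hg⟩
  have e : P ⊔ T = D := eq_of_le_of_card_ge hUD (hDle.trans hUle)
  have hgU : g ∈ P ⊔ T := e ▸ mem_inf.2 ⟨hg, mem_centralizer_singleton_iff.2 hgw.eq⟩
  exact ⟨hUdec g hgU, (hUcf g hgU).1.symm, hUT g hgU⟩

include hS hloc hY hbig hTp hsq in
/-- `S` is transitive on the coset of each member. -/
theorem exists_translate_T (hnormT : ∀ g ∈ S, ∀ t ∈ T, g * t * g⁻¹ * t⁻¹ ∈ h.res.grp (base M))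
    {w : G} (hw : w ∈ T) (hw1 : w ≠ 1) {e : G} (he : e ∈ h.res.grp (base M)) :
    ∃ g ∈ S, g * w * g⁻¹ = e * w := by
  classical
  choose τ hτS hτx using fun e : h.res.grp (base M) => hY.surj e e.2
  let φ : h.res.grp (base M) → h.res.grp (base M) := fun e => ⟨_, hnormT (τ e) (hτS e) w hw⟩
  have hφ : Function.Injective φ := by
    intro e₁ e₂ h12
    have h1 : τ e₁ * w * (τ e₁)⁻¹ = τ e₂ * w * (τ e₂)⁻¹ := mul_right_cancel (congrArg Subtype.val h12)
    have hc : Commute ((τ e₂)⁻¹ * τ e₁) w := by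
      refine mul_inv_eq_iff_eq_mul.1 ?_
      calc (τ e₂)⁻¹ * τ e₁ * w * ((τ e₂)⁻¹ * τ e₁)⁻¹ = (τ e₂)⁻¹ * (τ e₁ * w * (τ e₁)⁻¹) * τ e₂ := by group
        _ = w := by rw [h1]; group
    have h2 := (h.mem_decomp hS hloc hY hbig hTp hsq hw hw1 (mul_mem (inv_mem (hτS e₂)) (hτS e₁)) hc).2.1
    refine Subtype.ext (mul_right_cancel (b := x) ?_)
    rw [← hτx, ← hτx]
    calc τ e₁ * x * (τ e₁)⁻¹ = τ e₂ * ((τ e₂)⁻¹ * τ e₁ * x * ((τ e₂)⁻¹ * τ e₁)⁻¹) * (τ e₂)⁻¹ := by group
      _ = τ e₂ * x * (τ e₂)⁻¹ := by rw [h2.eq, mul_inv_cancel_right]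
  obtain ⟨e', he'⟩ := Finite.surjective_of_injective hφ ⟨e, he⟩
  refine ⟨τ e', hτS e', ?_⟩
  have e2 : τ e' * w * (τ e')⁻¹ * w⁻¹ = e := congrArg Subtype.val he'
  rw [← e2, inv_mul_cancel_right]

omit h in
/-- The block. -/
def block (h : EqRes M z) (T : Subgroup G) : Subgroup G := h.res.grp (base M) ⊔ T

include hY in
theorem mem_block {g : G} : g ∈ block h T ↔ ∃ e ∈ h.res.grp (base M), ∃ t ∈ T, g = e * t := by
  have hn : T ≤ normalizer (h.res.grp (base M) : Set G) := fun t ht => mem_normalizer_iff.2 fun g =>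
    ⟨fun hg => h.res.grp_conj (hY.frame.fix_T t ht).1 hg, fun hg => by
      have h1 := h.res.grp_conj (inv_smul_eq_iff.2 (hY.frame.fix_T t ht).1.symm) hg
      rwa [show t⁻¹ * (t * g * t⁻¹) * t⁻¹⁻¹ = g by group] at h1⟩
  rw [block, ← SetLike.mem_coe, coe_mul_of_right_le_normalizer_left _ _ hn]
  exact ⟨fun hg => by obtain ⟨e, he, t, ht, rfl⟩ := Set.mem_mul.1 hg; exact ⟨e, he, t, ht, rfl⟩,
    fun ⟨e, he, t, ht, e1⟩ => e1 ▸ Set.mul_mem_mul he ht⟩

include hY in
theorem block_le : block h T ≤ S := sup_le hY.grp_le hY.T_le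

omit h in
theorem mem_normalizer_of_forward {B : Subgroup G} {g : G} (hg : ∀ b ∈ B, g * b * g⁻¹ ∈ B) :
    g ∈ normalizer (B : Set G) := by
  refine mem_normalizer_iff.2 fun b => ⟨hg b, fun hb => ?_⟩
  obtain ⟨⟨b', hb'⟩, e⟩ := Finite.surjective_of_injective (f := fun b : B => (⟨_, hg b b.2⟩ : B))
    (fun a c e => Subtype.ext (mul_left_cancel (mul_right_cancel (congrArg Subtype.val e)))) ⟨_, hb⟩
  exact mul_left_cancel (mul_right_cancel (congrArg Subtype.val e : g * b' * g⁻¹ = g * b * g⁻¹)) ▸ hb'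

include hY in
/-- `S` normalizes the block. -/
theorem S_le_normalizer (hnormT : ∀ g ∈ S, ∀ t ∈ T, g * t * g⁻¹ * t⁻¹ ∈ h.res.grp (base M)) :
    S ≤ normalizer (block h T : Set G) := fun g hg => mem_normalizer_of_forward fun b hb => by
  obtain ⟨e, he, t, ht, rfl⟩ := (h.mem_block hY).1 hb
  refine (h.mem_block hY).2 ⟨g * e * g⁻¹ * (g * t * g⁻¹ * t⁻¹),
    mul_mem (h.res.grp_conj (hY.smul g hg) he) (hnormT g hg t ht), t, ht, ?_⟩
  group

include hS hloc hY hbig hTp hsq in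
/-- **Controlled fusion.**  An element of `M` mapping a member into `S` normalizes the block. -/
theorem mem_normalizer_block (hnormT : ∀ g ∈ S, ∀ t ∈ T, g * t * g⁻¹ * t⁻¹ ∈ h.res.grp (base M))
    (hcan : ∀ w ∈ T, w ≠ 1 → ∀ y, orderOf y = 2 → y ∈ ptwise M z w → y ∈ T)
    (hfus : ∀ m t : G, m • base M = base M → t ∈ T → m * t * m⁻¹ ∈ S →
      ∃ e ∈ h.res.grp (base M), ∃ t' ∈ T, m * t * m⁻¹ = e * t')
    {m w : G} (hm : m • base M = base M) (hw : w ∈ T) (hw1 : w ≠ 1) (hmw : m * w * m⁻¹ ∈ S) :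
    m ∈ normalizer (block h T : Set G) := by
  have hwbad := h.bad_T hY hsq hw hw1
  obtain ⟨e, he, t, ht, het⟩ := hfus m w hm hw hmw
  have ht1 : t ≠ 1 := by
    rintro rfl
    rw [mul_one] at het
    rcases (show e = 1 ∨ _ from he) with rfl | hez
    · exact hw1 (conj_eq_one_iff.1 het)
    · exact (hwbad.conj m).not_conj (het ▸ hez.1)
  obtain ⟨g, hg, hgt⟩ := h.exists_translate_T hS hloc hY hbig hTp hsq hnormT ht ht1 he
  set k := g⁻¹ * m with hk
  have hkp : k • base M = base M := by rw [hk, mul_smul, hm, inv_smul_eq_iff, hY.smul g hg]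
  have hkw : k * w * k⁻¹ = t := by
    calc k * w * k⁻¹ = g⁻¹ * (m * w * m⁻¹) * g := by rw [hk]; group
      _ = t := by rw [het, ← hgt]; group
  have hkT : ∀ u ∈ T, k * u * k⁻¹ ∈ T := by
    intro u hu
    by_cases hu1 : u = 1
    · rw [hu1, mul_one, mul_inv_cancel]; exact one_mem T
    refine hcan t ht ht1 _ (invol_conj (h.bad_T hY hsq hu hu1).invol k) ?_
    obtain ⟨h1, h2, h3⟩ := mem_ptwise.1 (h.T_le_ptwise hY hTp hsq hw hw1 hu)
    rw [← hkw]
    refine mem_ptwise.2 ⟨?_, ?_, ?_⟩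
    · show k * w * k⁻¹ * (k * u * k⁻¹) = k * u * k⁻¹ * (k * w * k⁻¹)
      calc k * w * k⁻¹ * (k * u * k⁻¹) = k * (w * u) * k⁻¹ := by group
        _ = k * (u * w) * k⁻¹ := by rw [h1.eq]
        _ = _ := by group
    · intro l hl
      have h4 : ∀ l ∈ locGroup z (k * w * k⁻¹), k⁻¹ * l * k ∈ locGroup z w := by
        intro l hl
        induction hl using closure_induction with
        | mem d hd =>
          refine mem_locGroup (hd.1.trans (isConj_iff.2 ⟨k⁻¹, by group⟩)) ?_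
          show w * (k⁻¹ * d * k) = k⁻¹ * d * k * w
          calc w * (k⁻¹ * d * k) = k⁻¹ * (k * w * k⁻¹ * d) * k := by group
            _ = k⁻¹ * (d * (k * w * k⁻¹)) * k := by rw [hd.2.eq]
            _ = _ := by group
        | one => simp
        | mul a b _ _ iha ihb =>
          rw [show k⁻¹ * (a * b) * k = k⁻¹ * a * k * (k⁻¹ * b * k) by group]; exact mul_mem iha ihb
        | inv a _ iha => rw [show k⁻¹ * a⁻¹ * k = (k⁻¹ * a * k)⁻¹ by group]; exact inv_mem iha
      have h5 := (h2 _ (h4 l hl)).eq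
      show l * (k * u * k⁻¹) = k * u * k⁻¹ * l
      calc l * (k * u * k⁻¹) = k * ((k⁻¹ * l * k) * u) * k⁻¹ := by group
        _ = k * (u * (k⁻¹ * l * k)) * k⁻¹ := by rw [h5]
        _ = _ := by group
    · intro b hb
      rw [mul_smul, mul_smul] at hb ⊢
      rw [h3 _ (smul_left_cancel k (hb.trans (smul_inv_smul k b).symm)), smul_inv_smul]
  have hkB : k ∈ normalizer (block h T : Set G) := mem_normalizer_of_forward fun b hb => by
    obtain ⟨e', he', u, hu, rfl⟩ := (h.mem_block hY).1 hb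
    exact (h.mem_block hY).2 ⟨_, h.res.grp_conj hkp he', _, hkT u hu, by group⟩
  rw [show m = g * k by rw [hk, mul_inv_cancel_left]]
  exact mul_mem (h.S_le_normalizer hY hnormT hg) hkB

include hS hloc hY hbig hTp hsq in
/-- **If `M` normalizes the block, the fixed sets form a quadrangle.** -/
theorem false_of_normalizer_top (hnormT : ∀ g ∈ S, ∀ t ∈ T, g * t * g⁻¹ * t⁻¹ ∈ h.res.grp (base M))
    (htop : ∀ m : G, m • base M = base M → m ∈ normalizer (block h T : Set G)) : False := by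
  classical
  set E := h.res.grp (base M) with hE
  have hx := hY.frame.bad
  have hxp := hY.frame.fix_base
  have hxx := invol_mul_self hx.invol
  let Fx : G → Set (G ⧸ M) := fun g => {b | g • b = b}
  have hsm : ∀ (k y : G) (b : G ⧸ M), b ∈ Fx (k * y * k⁻¹) ↔ k⁻¹ • b ∈ Fx y := fun k y b => by
    show (k * y * k⁻¹) • b = b ↔ y • k⁻¹ • b = k⁻¹ • b
    rw [mul_smul, mul_smul, eq_inv_smul_iff]
  have hconj : ∀ (l : G) (b : G ⧸ M), Commute x l → x • b = b → x • l • b = l • b := fun l b hl hb =>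
    smul_mem_fix hl hb
  -- the lines through the base point
  have hkey : ∀ g : G, base M ∈ Fx (g * x * g⁻¹) → ∃ e ∈ E, Fx (g * x * g⁻¹) = Fx (e * x) := by
    intro g hg
    rw [hsm] at hg
    obtain ⟨l, hl, hlb⟩ := hS.exists_loc_smul hx.invol hxp hg
    have hxl : Commute x l := commute_of_mem_locGroup hl
    set m := g * l with hm
    have hmp : m • base M = base M := by rw [hm, mul_smul, hlb, smul_inv_smul]
    have e1 : m * x * m⁻¹ = g * x * g⁻¹ := by
      rw [hm, show g * l * x * (g * l)⁻¹ = g * (l * x * l⁻¹) * g⁻¹ by group, ← hxl.eq, mul_inv_cancel_right]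
    have hxB : x ∈ block h T := (h.mem_block hY).2 ⟨1, one_mem _, x, hY.frame.self, (one_mul x).symm⟩
    have h2 : m * x * m⁻¹ ∈ block h T := (mem_normalizer_iff.1 (htop m hmp) x).1 hxB
    obtain ⟨e, he, t, ht, het⟩ := (h.mem_block hY).1 h2
    have ht1 : t ≠ 1 := by
      rintro rfl
      rw [mul_one] at het
      rcases (show e = 1 ∨ _ from he) with rfl | hez
      · exact invol_ne_one hx.invol (conj_eq_one_iff.1 het)
      · exact (hx.conj m).not_conj (het ▸ hez.1)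
    obtain ⟨k, hk, hkt⟩ := h.exists_translate_T hS hloc hY hbig hTp hsq hnormT ht ht1 he
    refine ⟨k * x * k⁻¹ * x, hY.coset k hk, ?_⟩
    rw [← e1, het, ← hkt, mul_assoc (k * x * k⁻¹) x x, hxx, mul_one]
    ext b
    rw [hsm, hsm]
    exact h.fix_T_iff hY hTp hsq ht ht1 _
  have hline : ∀ e ∈ E, ∃ g : G, Fx (e * x) = Fx (g * x * g⁻¹) ∧ base M ∈ Fx (e * x) := fun e he => by
    obtain ⟨g, -, hgx⟩ := hY.surj e he
    exact ⟨g, by rw [hgx], show (e * x) • base M = base M by rw [mul_smul, hxp, h.res.grp_smul he]⟩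
  have hmeet : ∀ e ∈ E, ∀ e' ∈ E, ∀ b, b ≠ base M → b ∈ Fx (e * x) → b ∈ Fx (e' * x) → e = e' := by
    intro e he e' he' b hb h1 h2
    have hc : Commute x e' := h.commute_grp hx hxp he'
    have h3 : (e * e') • b = b := by
      have h4 : (e * x * (e' * x)) • b = b := by rw [mul_smul, show (e' * x) • b = b from h2]; exact h1
      rwa [show e * x * (e' * x) = e * (x * e') * x by group, hc.eq, mul_assoc e, mul_assoc e' x, hxx, mul_one] at h4
    have h5 := h.eq_one_of_grp_fix (mul_mem he he') hb h3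
    rw [eq_inv_of_mul_eq_one_left h5, inv_eq_of_mul_eq_one_right (h.res.grp_sq he')]
  -- the quadrangle
  let Ln := {L : Set (G ⧸ M) // ∃ g : G, L = Fx (g * x * g⁻¹)}
  have hmv : ∀ (k g : G), {b | k⁻¹ • b ∈ Fx (g * x * g⁻¹)} = Fx (k * g * x * (k * g)⁻¹) := by
    intro k g
    ext b
    rw [show k * g * x * (k * g)⁻¹ = k * (g * x * g⁻¹) * k⁻¹ by group, hsm]
    rfl
  let mv : G → Ln → Ln := fun k L => ⟨{b | k⁻¹ • b ∈ L.1}, by
    obtain ⟨g, hg⟩ := L.2
    exact ⟨k * g, by rw [hg]; exact hmv k g⟩⟩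
  have hmv1 : ∀ k L, mv k (mv k⁻¹ L) = L := fun k L => Subtype.ext <| Set.ext fun b => by
    show k⁻¹⁻¹ • k⁻¹ • b ∈ L.1 ↔ b ∈ L.1
    rw [inv_inv, smul_inv_smul]
  have hmem : ∀ k L b, b ∈ (mv k L).1 ↔ k⁻¹ • b ∈ L.1 := fun _ _ _ => Iff.rfl
  let L₀ : Ln := ⟨Fx x, 1, by rw [one_mul, inv_one, mul_one]⟩
  -- two points on one line
  have hu0 : ∀ (L L' : Ln) (b : G ⧸ M), b ≠ base M → base M ∈ L.1 → base M ∈ L'.1 → b ∈ L.1 → b ∈ L'.1 →
      L = L' := by
    intro L L' b hb h1 h1' h2 h2'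
    obtain ⟨g, hg⟩ := L.2
    obtain ⟨g', hg'⟩ := L'.2
    obtain ⟨e, he, hee⟩ := hkey g (hg ▸ h1)
    obtain ⟨e', he', hee'⟩ := hkey g' (hg' ▸ h1')
    rw [hg, hee] at h2
    rw [hg', hee'] at h2'
    obtain rfl := hmeet e he e' he' b hb h2 h2'
    exact Subtype.ext (by rw [hg, hg', hee, hee'])
  have huniq : ∀ p q (L L' : Ln), p ∈ L.1 → q ∈ L.1 → p ∈ L'.1 → q ∈ L'.1 → p = q ∨ L = L' := by
    intro p q L L' h1 h2 h3 h4
    refine or_iff_not_imp_left.2 fun hpq => ?_
    obtain ⟨k, rfl⟩ := MulAction.exists_smul_eq G (base M) p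
    have h5 : mv k⁻¹ L = mv k⁻¹ L' := by
      refine hu0 _ _ (k⁻¹ • q) (fun e => hpq (by rw [← e, smul_inv_smul])) ?_ ?_ ?_ ?_ <;>
        rw [hmem, inv_inv] <;> first | assumption | (rw [smul_inv_smul]; assumption)
    rw [← hmv1 k L, h5, hmv1]
  have hpts : ∀ L : Ln, Nat.card {p : G ⧸ M // p ∈ L.1} = fix M x := by
    rintro ⟨_, g, rfl⟩
    exact h.fix_eq (hx.conj g) hx
  have hlns : ∀ p : G ⧸ M, Nat.card {L : Ln // p ∈ L.1} = deg M z + 1 := by
    intro p
    obtain ⟨k, rfl⟩ := MulAction.exists_smul_eq G (base M) p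
    rw [← h.res.card_grp (base M)]
    choose g hg hgb using hline
    have hmv2 : ∀ L, mv k⁻¹ (mv k L) = L := fun L => by
      have := hmv1 k⁻¹ L
      rwa [inv_inv] at this
    refine (Nat.card_eq_of_bijective (fun e : E => (⟨mv k ⟨Fx (e.1 * x), g e.1 e.2, hg e.1 e.2⟩, by
      rw [hmem, inv_smul_smul]; exact hgb e.1 e.2⟩ : {L : Ln // k • base M ∈ L.1})) ⟨?_, ?_⟩).symm
    · intro e e' he
      have h1 : mv k ⟨Fx (e.1 * x), g e.1 e.2, hg e.1 e.2⟩ = mv k ⟨Fx (e'.1 * x), g e'.1 e'.2, hg e'.1 e'.2⟩ :=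
        congrArg Subtype.val he
      have h2 := congrArg (mv k⁻¹) h1
      rw [hmv2, hmv2] at h2
      have h3 : Fx (e.1 * x) = Fx (e'.1 * x) := congrArg Subtype.val h2
      obtain ⟨c, hcp, hc⟩ := h.res.bad_two_fix (hx.conj (g e.1 e.2)) (hg e.1 e.2 ▸ hgb e.1 e.2)
      have hc' : c ∈ Fx (e.1 * x) := (hg e.1 e.2).symm ▸ hc
      exact Subtype.ext (hmeet e.1 e.2 e'.1 e'.2 c hcp hc' (h3 ▸ hc'))
    · rintro ⟨L, hL⟩
      obtain ⟨g', hg'⟩ := (mv k⁻¹ L).2
      obtain ⟨e, he, hee⟩ := hkey g' (hg' ▸ (show base M ∈ (mv k⁻¹ L).1 by rw [hmem, inv_inv]; exact hL))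
      exact ⟨⟨e, he⟩, Subtype.ext ((congrArg (mv k) (Subtype.ext (hee.symm.trans hg'.symm))).trans (hmv1 k L))⟩
  have hproj : ∀ p (L : Ln), p ∉ L.1 → ∃! q, q ∈ L.1 ∧ ∃ L' : Ln, p ∈ L'.1 ∧ q ∈ L'.1 := by
    rintro p ⟨_, g, rfl⟩ hp
    have hxd : x • g⁻¹ • p ≠ g⁻¹ • p := fun e => hp ((hsm g x p).2 e)
    set d := g⁻¹ • p with hd
    -- the line of `d` and its conjugate
    obtain ⟨s, hs, hsd, hxs⟩ := h.res.crit.exists_commuting_swap_of_moved hx.invol hxd
    obtain ⟨b, hb⟩ := h.res.crit.fix_exists hs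
    have hxb : x • b = b := h.res.crit.smul_of_commute hs hxs hb
    obtain ⟨l, hl, hlb⟩ := hS.exists_loc_smul hx.invol hxp hxb
    have hxl : Commute x l := commute_of_mem_locGroup hl
    have he : l⁻¹ * s * l ∈ E := Or.inr ⟨hs.trans (isConj_iff.2 ⟨l⁻¹, by group⟩), by
      rw [mul_smul, mul_smul, hlb, hb, ← hlb, inv_smul_smul]⟩
    obtain ⟨k, -, hk⟩ := hY.surj _ he
    have hline' : Fx (x * s) = Fx (l * k * x * (l * k)⁻¹) := by
      rw [show l * k * x * (l * k)⁻¹ = l * (k * x * k⁻¹) * l⁻¹ by group, hk,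
        show l * (l⁻¹ * s * l * x) * l⁻¹ = s * (l * x * l⁻¹) by group, ← hxl.eq, mul_inv_cancel_right, hxs.eq]
    have hdL : d ∈ Fx (x * s) := by
      show (x * s) • d = d
      rw [mul_smul, hsd, smul_smul, hxx, one_smul]
    have hbL : b ∈ Fx (x * s) := by
      show (x * s) • b = b
      rw [mul_smul, hb, hxb]
    refine ⟨g • b, ⟨(hsm g x _).2 (by rw [inv_smul_smul]; exact hxb),
      mv g ⟨Fx (x * s), l * k, hline'⟩, (hmem g _ p).2 hdL, (hmem g _ _).2 (by rw [inv_smul_smul]; exact hbL)⟩, ?_⟩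
    rintro q ⟨hq, L', hpL', hqL'⟩
    set b' := g⁻¹ • q with hb'
    have hxb' : x • b' = b' := (hsm g x q).1 hq
    set L'' := mv g⁻¹ L' with hL''
    have hdL'' : d ∈ L''.1 := by rw [hL'', hmem, inv_inv, hd, smul_inv_smul]; exact hpL'
    have hbL'' : b' ∈ L''.1 := by rw [hL'', hmem, inv_inv, hb', smul_inv_smul]; exact hqL'
    -- `x` keeps that line
    obtain ⟨l', hl', hlb'⟩ := hS.exists_loc_smul hx.invol hxp hxb'
    have hxl' : Commute x l' := commute_of_mem_locGroup hl'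
    obtain ⟨g', hg'⟩ := (mv l'⁻¹ L'').2
    obtain ⟨e, he', hee⟩ := hkey g' (hg' ▸ (show base M ∈ (mv l'⁻¹ L'').1 by rw [hmem, inv_inv, hlb']; exact hbL''))
    have hkeep : ∀ c ∈ L''.1, x • c ∈ L''.1 := by
      intro c hc
      have h1 : l'⁻¹ • c ∈ Fx (e * x) := by
        rw [← hee, ← hg', hmem, inv_inv, smul_inv_smul]; exact hc
      have h2 : l'⁻¹ • x • c ∈ Fx (e * x) := by
        show (e * x) • l'⁻¹ • x • c = l'⁻¹ • x • c
        rw [smul_smul l'⁻¹ x, ← hxl'.inv_right.eq, mul_smul x, smul_smul (e * x) x,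
          (show Commute (e * x) x from ((h.commute_grp hx hxp he').symm.mul_left (Commute.refl x))).eq, mul_smul x]
        exact congrArg (x • ·) h1
      rw [← hee, ← hg', hmem, inv_inv, smul_inv_smul] at h2
      exact h2
    have hx2 : x • d ∈ Fx (x * s) := by
      show (x * s) • x • d = x • d
      rw [smul_smul, (show Commute (x * s) x from (Commute.refl x).mul_left hxs.symm).eq, mul_smul]
      exact congrArg (x • ·) hdL
    rcases huniq d (x • d) ⟨_, l * k, hline'⟩ L'' hdL hx2 hdL'' (hkeep d hdL'') with e1 | e1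
    · exact absurd e1.symm hxd
    have hbb : b' = b := by
      by_contra hne
      have hb2 : b' ∈ Fx (x * s) := by
        have := hbL''
        rwa [← e1] at this
      rcases huniq b' b L₀ ⟨_, l * k, hline'⟩ hxb' hxb hb2 hbL with e2 | e2
      · exact hne e2
      · exact hxd (by
          have h3 : d ∈ L₀.1 := by rw [e2]; exact hdL
          exact h3)
    rw [← hbb, hb', smul_inv_smul]
  obtain ⟨β, -, hβ⟩ := h.exists_deg_pow
  have hq : Quad (G ⧸ M) Ln (fun p L => p ∈ L.1) (fix M x - 1) (deg M z) := by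
    refine ⟨fun L => ?_, hlns, huniq, hproj⟩
    rw [hpts]
    rcases hbig with e | e <;> rw [e] <;> omega
  haveI : Finite Ln := inferInstance
  have hd2 := h.two_le
  haveI : Nonempty (G ⧸ M) := ⟨base M⟩
  have h1 : (deg M z + 1) ^ 2 ≤ fix M x - 1 := by
    rcases hbig with e | e <;> rw [e, Nat.add_sub_cancel]
    exact Nat.pow_le_pow_right (by omega) (by norm_num)
  have h3 : deg M z ^ 2 < (deg M z + 1) ^ 2 := Nat.pow_lt_pow_left (by omega) two_ne_zero
  have h2 := hq.dual.le_sq (by omega) (by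
    have : 3 ^ 2 ≤ (deg M z + 1) ^ 2 := Nat.pow_le_pow_left (by omega) 2
    omega)
  omega

end EqRes

end CfsgLib.SECrit.Eq
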