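import Cfsg.Agent.Lib.Invol.SECriterion.EqType.Big.Translate

/-!
# The strong embedding criterion, equal type: the pointwise part in the Sylow group

The pointwise part `W` of the two-group of a pair is moved inside `E W` by `S`, so it is elementary.
With it the product `P W` is invariant, all squares in it lie in `E`, and the two-group of the pair has
exponent two.
-/

set_option autoImplicit false
set_option linter.style.haveILetI false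
set_option linter.unusedSectionVars false
set_option linter.ambiguousOpen false

namespace CfsgLib.SECrit.Eq.EqRes

open CfsgLib.Invol Small Subgroup

universe u

variable {G : Type u} [Group G] [Finite G] {M : Subgroup G} {z : G}
variable (h : EqRes M z) (hS : Setup M z) (hloc : ∀ x, IsBad M x → Local M z x) {x : G} {a : G ⧸ M}
  {T P S : Subgroup G} (hY : h.Sylo x a T P S)
include h hS hloc hY

theorem mem_regPtwise {g : G} :
    g ∈ P ⊔ (T ⊓ ptwise M z x) ↔ ∃ v ∈ P, ∃ w ∈ T ⊓ ptwise M z x, g = v * w := by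
  refine ⟨fun hg => ?_, ?_⟩
  · have hc : ∀ v ∈ P, ∀ w ∈ T ⊓ ptwise M z x, Commute w v := fun v hv w hw =>
      ptwise_loc hw.2 ((hY.reg.mem v).1 hv).1
    let X : Subgroup G :=
      { carrier := {g | ∃ v ∈ P, ∃ w ∈ T ⊓ ptwise M z x, g = v * w}
        one_mem' := ⟨1, one_mem _, 1, one_mem _, (one_mul 1).symm⟩
        mul_mem' := by
          rintro _ _ ⟨v, hv, w, hw, rfl⟩ ⟨v', hv', w', hw', rfl⟩
          exact ⟨v * v', mul_mem hv hv', w * w', mul_mem hw hw', (hc v' hv' w hw).mul_mul_mul_comm v w'⟩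
        inv_mem' := by
          rintro _ ⟨v, hv, w, hw, rfl⟩
          exact ⟨v⁻¹, inv_mem hv, w⁻¹, inv_mem hw, by rw [mul_inv_rev, (hc v⁻¹ (inv_mem hv) w⁻¹ (inv_mem hw)).eq]⟩ }
    have hle : P ⊔ (T ⊓ ptwise M z x) ≤ X :=
      sup_le (fun v hv => ⟨v, hv, 1, one_mem _, (mul_one v).symm⟩) fun w hw => ⟨1, one_mem _, w, hw, (one_mul w).symm⟩
    exact hle hg
  · rintro ⟨v, hv, w, hw, rfl⟩
    exact mul_mem (mem_sup_left hv) (mem_sup_right hw)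

theorem regPtwise_le {g : G} (hg : g ∈ P ⊔ (T ⊓ ptwise M z x)) : g ∈ S ∧ Commute x g := by
  obtain ⟨v, hv, w, hw, rfl⟩ := (h.mem_regPtwise hS hloc hY).1 hg
  exact ⟨mul_mem (hY.reg_le hv) (hY.T_le hw.1),
    (commute_of_mem_locGroup ((hY.reg.mem v).1 hv).1).mul_right (hY.frame.cent w hw.1)⟩

theorem reg_inf_ptwise {v : G} (hv : v ∈ P) (hvW : v ∈ ptwise M z x) : v ∈ locKer M z x :=
  hY.reg.free v hv a hY.frame.fix_pt hY.frame.ne (ptwise_fix hvW hY.frame.fix_pt)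

theorem regKer_le {k : G} (hk : k ∈ P) (hkK : k ∈ locKer M z x) : k ∈ T ⊓ ptwise M z x :=
  have hW := ptwise_of_locKer (hloc x (h.isBad hY.frame.bad)) hkK
  ⟨h.mem_T_of_ptwise hS hloc hY (hY.reg_le hk) hW, hW⟩

theorem exists_outside {g : G} (hg : g ∈ S) (hxg : Commute x g) (hgn : g ∉ P ⊔ (T ⊓ ptwise M z x)) :
    ∃ v ∈ P, ∃ t ∈ T, t ∉ ptwise M z x ∧ g = v * t := by
  obtain ⟨v, hv, t, ht, rfl⟩ := hY.decomp g hg hxg
  exact ⟨v, hv, t, ht, fun htW => hgn (mul_mem (mem_sup_left hv) (mem_sup_right ⟨ht, htW⟩)), rfl⟩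

theorem mul_notMem {v t : G} (hv : v ∈ P) (ht : t ∈ T) (htW : t ∉ ptwise M z x) :
    v * t ∉ P ⊔ (T ⊓ ptwise M z x) := by
  intro hh
  obtain ⟨v', hv', w, hw, he⟩ := (h.mem_regPtwise hS hloc hY).1 hh
  have h1 : v⁻¹ * v' = t * w⁻¹ := by
    rw [eq_mul_inv_iff_mul_eq, mul_assoc, ← he, inv_mul_cancel_left]
  have h2 : v⁻¹ * v' ∈ locKer M z x := hY.reg.free _ (mul_mem (inv_mem hv) hv') a hY.frame.fix_pt hY.frame.ne
    (by rw [h1]; exact ((hY.frame.fix_T _ (mul_mem ht (inv_mem hw.1))).2))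
  refine htW ?_
  rw [show t = v⁻¹ * v' * w by rw [h1, inv_mul_cancel_right]]
  exact mul_mem (h.regKer_le hS hloc hY (mul_mem (inv_mem hv) hv') h2).2 hw.2

theorem mul_outside {g g' : G} (hg : g ∈ S) (hxg : Commute x g) (hg' : g' ∈ S) (hxg' : Commute x g')
    (hgn : g ∉ P ⊔ (T ⊓ ptwise M z x)) (hgn' : g' ∉ P ⊔ (T ⊓ ptwise M z x)) :
    g * g' ∈ P ⊔ (T ⊓ ptwise M z x) := by
  obtain ⟨v, hv, t, ht, htW, rfl⟩ := h.exists_outside hS hloc hY hg hxg hgn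
  obtain ⟨v', hv', t', ht', htW', rfl⟩ := h.exists_outside hS hloc hY hg' hxg' hgn'
  have hF := hY.frame
  rw [show v * t * (v' * t') = v * (t * v' * t⁻¹) * (t * t') by group]
  exact mul_mem (mem_sup_left (mul_mem hv (regTwo_conj hY.reg (hF.cent t ht) (hF.fix_T t ht).1 hv')))
    (mem_sup_right ⟨mul_mem ht ht', h.mul_mem_ptwise hS hloc hF hY.reg (h.sylo_TE hS hloc hY) ht ht' htW htW'⟩)

/-- A translate of `P W` holds half of the regular two-group. -/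
theorem half_translate {g : G} (hg : g ∈ S) :
    ∀ u ∈ P, ∀ u' ∈ P, u ∉ (P ⊔ (T ⊓ ptwise M z x)).map (MulAut.conj g).toMonoidHom →
      u' ∉ (P ⊔ (T ⊓ ptwise M z x)).map (MulAut.conj g).toMonoidHom →
      u * u' ∈ (P ⊔ (T ⊓ ptwise M z x)).map (MulAut.conj g).toMonoidHom := by
  intro u hu u' hu' hn hn'
  have key : ∀ u ∈ P, u ∉ (P ⊔ (T ⊓ ptwise M z x)).map (MulAut.conj g).toMonoidHom →
      g⁻¹ * u * g⁻¹⁻¹ ∈ S ∧ Commute x (g⁻¹ * u * g⁻¹⁻¹) ∧ g⁻¹ * u * g⁻¹⁻¹ ∉ P ⊔ (T ⊓ ptwise M z x) :=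
    fun u hu hn => ⟨mul_mem (mul_mem (inv_mem hg) (hY.reg_le hu)) (inv_mem (inv_mem hg)),
      h.conj_comm_x hS hloc hY (inv_mem hg) (hY.reg_le hu) (commute_of_mem_locGroup ((hY.reg.mem u).1 hu).1),
      fun hh => hn ⟨_, hh, by simp [mul_assoc]⟩⟩
  obtain ⟨h1, h2, h3⟩ := key u hu hn
  obtain ⟨h1', h2', h3'⟩ := key u' hu' hn'
  exact ⟨_, h.mul_outside hS hloc hY h1 h2 h1' h2' h3 h3', by simp [mul_assoc]⟩

/-- Outside `P W` half of the regular two-group is not centralized modulo the members and the kernel. -/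
theorem exists_moved_outside {g : G} (hg : g ∈ S) (hxg : Commute x g) (hgn : g ∉ P ⊔ (T ⊓ ptwise M z x))
    (X : Subgroup G) (hX : ∀ u ∈ P, ∀ u' ∈ P, u ∉ X → u' ∉ X → u * u' ∈ X) :
    ∃ u ∈ P, u ∈ X ∧ ¬ ∃ e ∈ h.res.grp (base M), e * (g * u * g⁻¹ * u⁻¹) ∈ locKer M z x := by
  obtain ⟨v, hv, t, ht, htW, rfl⟩ := h.exists_outside hS hloc hY hg hxg hgn
  have hF := hY.frame
  have hP := hY.reg
  have hTE := h.sylo_TE hS hloc hY
  obtain ⟨u, hu, huX, hne⟩ := h.exists_moved hS hloc hF hP hTE ht htW X hX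
  refine ⟨u, hu, huX, fun ⟨e, he, hek⟩ => hne ?_⟩
  haveI := h.normal_regKer hS hloc hF hP hTE
  obtain ⟨hfix, -⟩ := h.fix_count hS hloc hF hP hTE ht (h.mul_mem_ptwise hS hloc hF hP hTE ht ht htW htW) htW
  obtain ⟨hQ, -⟩ := h.sqForm_pair hS hloc hF hP hTE hfix
  set π := QuotientGroup.mk' ((locKer M z x).subgroupOf P) with hπ
  set c : P := ⟨t * u * t⁻¹ * u⁻¹, mul_mem (regTwo_conj hP (hF.cent t ht) (hF.fix_T t ht).1 hu) (inv_mem hu)⟩
  have hd : v * t * u * (v * t)⁻¹ * u⁻¹ ∈ P :=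
    mul_mem (regTwo_conj hP hxg (hY.smul _ hg) hu) (inv_mem hu)
  have h1 : π ⟨_, hd⟩ ∈ ((h.res.grp (base M)).subgroupOf P).map π :=
    (h.mem_line_image hS hloc hF hP hTE _).2 ⟨e, he, hek⟩
  have h2 : π ⟨_, hd⟩ = π ⟨v, hv⟩ * π c * (π ⟨v, hv⟩)⁻¹ * (hQ.br (π ⟨v, hv⟩) (π ⟨u, hu⟩)) := by
    show _ = _ * (π ⟨v, hv⟩ * π ⟨u, hu⟩ * (π ⟨v, hv⟩)⁻¹ * (π ⟨u, hu⟩)⁻¹)
    rw [← map_inv, ← map_inv, ← map_mul, ← map_mul, ← map_mul, ← map_mul, ← map_mul, ← map_mul]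
    refine congrArg π (Subtype.ext ?_)
    show v * t * u * (v * t)⁻¹ * u⁻¹ = v * (t * u * t⁻¹ * u⁻¹) * v⁻¹ * (v * u * v⁻¹ * u⁻¹)
    group
  refine (h.mem_line_image hS hloc hF hP hTE c).1 ?_
  have h3 := mul_mem h1 (inv_mem (hQ.br (π ⟨v, hv⟩) (π ⟨u, hu⟩)).2)
  rw [h2, mul_inv_cancel_right] at h3
  rw [show π c = (π ⟨v, hv⟩)⁻¹ * (π ⟨v, hv⟩ * π c * (π ⟨v, hv⟩)⁻¹) * π ⟨v, hv⟩ by group, hQ.comm_E h3,
    inv_mul_cancel_right]
  exact h3

/-- **`S` moves the pointwise part inside `E W`.** -/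
theorem conj_ptwise_mem {g w : G} (hg : g ∈ S) (hw : w ∈ T ⊓ ptwise M z x) :
    ∃ e ∈ h.res.grp (base M), ∃ w' ∈ T ⊓ ptwise M z x, g * w * g⁻¹ = e * w' := by
  have hF := hY.frame
  have hP := hY.reg
  have hTE := h.sylo_TE hS hloc hY
  set X := (P ⊔ (T ⊓ ptwise M z x)).map (MulAut.conj g).toMonoidHom
  have hcX : ∀ u ∈ X, Commute (g * w * g⁻¹) u := by
    rintro _ ⟨p, hp, rfl⟩
    obtain ⟨v, hv, w₀, hw₀, rfl⟩ := (h.mem_regPtwise hS hloc hY).1 hp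
    exact ((ptwise_loc hw.2 ((hP.mem v).1 hv).1).mul_right
      (h.ptwise_abelian hS hloc hY hw.1 hw.2 hw₀.1 hw₀.2)).map (MulAut.conj g).toMonoidHom
  have hS1 : g * w * g⁻¹ ∈ S := mul_mem (mul_mem hg (hY.T_le hw.1)) (inv_mem hg)
  have hx1 := h.conj_comm_x hS hloc hY hg (hY.T_le hw.1) (ptwise_comm hw.2)
  by_cases hin : g * w * g⁻¹ ∈ P ⊔ (T ⊓ ptwise M z x)
  · obtain ⟨v, hv, w', hw', he⟩ := (h.mem_regPtwise hS hloc hY).1 hin
    have hvX : ∀ u ∈ P, u ∈ X → Commute v u := fun u hu huX => by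
      have h1 := (hcX u huX)
      rw [he] at h1
      exact (commute_mul_right_iff (ptwise_loc hw'.2 ((hP.mem u).1 hu).1)).1 h1
    obtain ⟨e, he', hek⟩ : ∃ e ∈ h.res.grp (base M), e * v ∈ locKer M z x := by
      by_cases hT : ∀ t ∈ T, t ∈ ptwise M z x
      · have hall : ∀ u ∈ P, u ∈ X := fun u hu => by
          have hS' : g⁻¹ * u * g⁻¹⁻¹ ∈ S := mul_mem (mul_mem (inv_mem hg) (hY.reg_le hu)) (inv_mem (inv_mem hg))
          obtain ⟨v', hv', t', ht', he'⟩ := hY.decomp _ hS'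
            (h.conj_comm_x hS hloc hY (inv_mem hg) (hY.reg_le hu) (commute_of_mem_locGroup ((hP.mem u).1 hu).1))
          exact ⟨g⁻¹ * u * g⁻¹⁻¹, he' ▸ mul_mem (mem_sup_left hv') (mem_sup_right ⟨ht', hT t' ht'⟩),
            by simp [mul_assoc]⟩
        obtain ⟨e, he', hek⟩ := hP.center v hv fun u hu => by
          rw [(hvX u hu (hall u hu)).eq, mul_inv_cancel_right, mul_inv_cancel]
          exact one_mem _
        exact ⟨e, by rwa [← h.lineGrp_eq hF.bad hF.fix_base], hek⟩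
      · push Not at hT
        obtain ⟨t, ht, htW⟩ := hT
        exact h.mem_line_of_half hS hloc hF hP hTE
          (h.fix_count hS hloc hF hP hTE ht (h.mul_mem_ptwise hS hloc hF hP hTE ht ht htW htW) htW).1 hv X
          (h.half_translate hS hloc hY hg) hvX
    refine ⟨e, he', e * v * w', mul_mem (h.regKer_le hS hloc hY (mul_mem
      (hP.line_le (by rwa [h.lineGrp_eq hF.bad hF.fix_base])) hv) hek) hw', ?_⟩
    rw [he, ← mul_assoc e (e * v), ← mul_assoc e e, h.res.grp_sq he', one_mul]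
  · exfalso
    obtain ⟨u, hu, huX, hne⟩ := h.exists_moved_outside hS hloc hY hS1 hx1 hin X (h.half_translate hS hloc hY hg)
    exact hne ⟨1, one_mem _, by rw [(hcX u huX).eq, mul_inv_cancel_right, mul_inv_cancel, mul_one]; exact one_mem _⟩

theorem exists_translate_ne :
    ∃ e ∈ h.res.grp (base M), e ≠ 1 ∧ ∃ g ∈ S, g * x * g⁻¹ = e * x := by
  haveI : Nontrivial (h.res.grp (base M)) := Finite.one_lt_card_iff_nontrivial.1 (by
    rw [h.res.card_grp]; have := h.two_le; omega)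
  obtain ⟨⟨e, he⟩, he1⟩ := exists_ne (1 : h.res.grp (base M))
  exact ⟨e, he, fun e1 => he1 (Subtype.ext e1), hY.surj e he⟩

/-- The square of a translate. -/
theorem sq_translate {g w w' e : G} (he : e ∈ h.res.grp (base M)) (hw' : w' ∈ T) (hge : g * w * g⁻¹ = e * w') :
    g * (w * w) * g⁻¹ = w' * w' := by
  rw [show g * (w * w) * g⁻¹ = g * w * g⁻¹ * (g * w * g⁻¹) by group, hge,
    (h.sylo_TE hS hloc hY w' hw' e he).mul_mul_mul_comm, h.res.grp_sq he, one_mul]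

/-- **The pointwise part is elementary.** -/
theorem ptwise_sq {w : G} (hw : w ∈ T ⊓ ptwise M z x) : w * w = 1 := by
  obtain ⟨e, he, he1, g, hg, hge⟩ := h.exists_translate_ne hS hloc hY
  obtain ⟨e', he', w', hw', hgw⟩ := h.conj_ptwise_mem hS hloc hY hg hw
  refine h.eq_one_of_translate hS hloc hY he he1 hge (hY.smul g hg) (mul_mem hw.1 hw.1) (mul_mem hw.2 hw.2) ?_
  rw [h.sq_translate hS hloc hY he' hw'.1 hgw]
  exact mul_mem hw'.2 hw'.2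

/-- **`P W` is invariant.** -/
theorem conj_mem_regPtwise {g p : G} (hg : g ∈ S) (hp : p ∈ P ⊔ (T ⊓ ptwise M z x)) :
    g * p * g⁻¹ ∈ P ⊔ (T ⊓ ptwise M z x) := by
  have hF := hY.frame
  have hP := hY.reg
  have hTE := h.sylo_TE hS hloc hY
  obtain ⟨hpS, hxp⟩ := h.regPtwise_le hS hloc hY hp
  have hS1 : g * p * g⁻¹ ∈ S := mul_mem (mul_mem hg hpS) (inv_mem hg)
  have hx1 := h.conj_comm_x hS hloc hY hg hpS hxp
  by_contra hn
  obtain ⟨v', hv', t, ht, htW, -⟩ := h.exists_outside hS hloc hY hS1 hx1 hn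
  obtain ⟨hfix, -⟩ := h.fix_count hS hloc hF hP hTE ht (h.mul_mem_ptwise hS hloc hF hP hTE ht ht htW htW) htW
  haveI := h.normal_regKer hS hloc hF hP hTE
  obtain ⟨hQ, -⟩ := h.sqForm_pair hS hloc hF hP hTE hfix
  obtain ⟨u, hu, huX, hne⟩ := h.exists_moved_outside hS hloc hY hS1 hx1 hn _ (h.half_translate hS hloc hY hg)
  obtain ⟨u₀, hu₀, hgu⟩ := huX
  obtain ⟨v, hv, w, hw, rfl⟩ := (h.mem_regPtwise hS hloc hY).1 hp
  obtain ⟨v₀, hv₀, w₀, hw₀, rfl⟩ := (h.mem_regPtwise hS hloc hY).1 hu₀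
  have hgu' : g * (v₀ * w₀) * g⁻¹ = u := hgu
  -- the commutator of two elements of `P W`
  have hbr : QuotientGroup.mk' ((locKer M z x).subgroupOf P) (⟨v, hv⟩ * ⟨v₀, hv₀⟩ * (⟨v, hv⟩ : P)⁻¹ * (⟨v₀, hv₀⟩ : P)⁻¹) ∈
      ((h.res.grp (base M)).subgroupOf P).map (QuotientGroup.mk' ((locKer M z x).subgroupOf P)) := by
    rw [map_mul, map_mul, map_mul, map_inv, map_inv]
    exact hQ.br_mem _ _
  obtain ⟨e, he, hek⟩ := (h.mem_line_image hS hloc hF hP hTE _).1 hbr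
  change e * (v * v₀ * v⁻¹ * v₀⁻¹) ∈ locKer M z x at hek
  have hcP : v * v₀ * v⁻¹ * v₀⁻¹ ∈ P := mul_mem (mul_mem (mul_mem hv hv₀) (inv_mem hv)) (inv_mem hv₀)
  have heP : e ∈ P := hP.line_le (by rwa [h.lineGrp_eq hF.bad hF.fix_base])
  obtain ⟨e', he', w', hw', hgk⟩ := h.conj_ptwise_mem hS hloc hY hg (h.regKer_le hS hloc hY (mul_mem heP hcP) hek)
  have hcomm : v * w * (v₀ * w₀) * (v * w)⁻¹ * (v₀ * w₀)⁻¹ = v * v₀ * v⁻¹ * v₀⁻¹ := by
    have h1 : Commute w v₀ := ptwise_loc hw.2 ((hP.mem v₀).1 hv₀).1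
    have h2 : Commute w w₀ := h.ptwise_abelian hS hloc hY hw.1 hw.2 hw₀.1 hw₀.2
    have h3 : Commute w₀ v := ptwise_loc hw₀.2 ((hP.mem v).1 hv).1
    calc v * w * (v₀ * w₀) * (v * w)⁻¹ * (v₀ * w₀)⁻¹
        = v * (w * (v₀ * w₀)) * w⁻¹ * v⁻¹ * w₀⁻¹ * v₀⁻¹ := by group
      _ = v * v₀ * (w₀ * v⁻¹) * w₀⁻¹ * v₀⁻¹ := by rw [(h1.mul_right h2).eq]; group
      _ = _ := by rw [h3.inv_right.eq]; group
  have hgE : g * e * g⁻¹ = e := by rw [(hY.centE g hg e he).eq, mul_inv_cancel_right]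
  have hdP : g * (v * w) * g⁻¹ * u * (g * (v * w) * g⁻¹)⁻¹ * u⁻¹ ∈ P :=
    mul_mem (regTwo_conj hP hx1 (hY.smul _ hS1) hu) (inv_mem hu)
  have hd : g * (v * w) * g⁻¹ * u * (g * (v * w) * g⁻¹)⁻¹ * u⁻¹ = e * e' * w' := by
    rw [← hgu', show g * (v * w) * g⁻¹ * (g * (v₀ * w₀) * g⁻¹) * (g * (v * w) * g⁻¹)⁻¹ * (g * (v₀ * w₀) * g⁻¹)⁻¹ =
        g * (v * w * (v₀ * w₀) * (v * w)⁻¹ * (v₀ * w₀)⁻¹) * g⁻¹ by group, hcomm,
      show v * v₀ * v⁻¹ * v₀⁻¹ = e * (e * (v * v₀ * v⁻¹ * v₀⁻¹)) by rw [← mul_assoc, h.res.grp_sq he, one_mul],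
      show g * (e * (e * (v * v₀ * v⁻¹ * v₀⁻¹))) * g⁻¹ = g * e * g⁻¹ * (g * (e * (v * v₀ * v⁻¹ * v₀⁻¹)) * g⁻¹) by group,
      hgE, hgk, mul_assoc]
  refine hne ⟨e * e', mul_mem he he', ?_⟩
  rw [hd, ← mul_assoc, h.res.grp_sq (mul_mem he he'), one_mul]
  refine h.reg_inf_ptwise hS hloc hY ?_ hw'.2
  have he'P : e' ∈ P := hP.line_le (by rwa [h.lineGrp_eq hF.bad hF.fix_base])
  have h5 := mul_mem (inv_mem (mul_mem heP he'P)) hdP
  rwa [hd, inv_mul_cancel_left] at h5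

/-- **The two-group of the pair has exponent two.** -/
theorem sq_T {t : G} (ht : t ∈ T) : t * t = 1 := by
  by_cases htW : t ∈ ptwise M z x
  · exact h.ptwise_sq hS hloc hY ⟨ht, htW⟩
  have hF := hY.frame
  have hP := hY.reg
  have hTE := h.sylo_TE hS hloc hY
  have ht2 : t * t ∈ T ⊓ ptwise M z x := ⟨mul_mem ht ht, h.mul_mem_ptwise hS hloc hF hP hTE ht ht htW htW⟩
  obtain ⟨f, hf, hf1, g, hg, hgf⟩ := h.exists_translate_ne hS hloc hY
  have hS1 : g * t * g⁻¹ ∈ S := mul_mem (mul_mem hg (hY.T_le ht)) (inv_mem hg)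
  have hx1 := h.conj_comm_x hS hloc hY hg (hY.T_le ht) (hF.cent t ht)
  have hn : g * t * g⁻¹ ∉ P ⊔ (T ⊓ ptwise M z x) := fun hh => by
    refine h.mul_notMem hS hloc hY (one_mem P) ht htW ?_
    have h1 := h.conj_mem_regPtwise hS hloc hY (inv_mem hg) hh
    rwa [show g⁻¹ * (g * t * g⁻¹) * g⁻¹⁻¹ = t by group, ← one_mul t] at h1
  obtain ⟨v, hv, t', ht', htW', he⟩ := h.exists_outside hS hloc hY hS1 hx1 hn
  obtain ⟨e, hee, w', hw', hgu⟩ := h.conj_ptwise_mem hS hloc hY hg ht2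
  have hv' : t' * v * t'⁻¹ ∈ P := regTwo_conj hP (hF.cent t' ht') (hF.fix_T t' ht').1 hv
  have heP : e ∈ P := hP.line_le (by rwa [h.lineGrp_eq hF.bad hF.fix_base])
  have hkey : e * (v * (t' * v * t'⁻¹)) = w' * (t' * t')⁻¹ := by
    have h1 : v * (t' * v * t'⁻¹) * (t' * t') = e * w' := by
      rw [← hgu, show g * (t * t) * g⁻¹ = g * t * g⁻¹ * (g * t * g⁻¹) by group, he]; group
    calc e * (v * (t' * v * t'⁻¹)) = e * (v * (t' * v * t'⁻¹) * (t' * t')) * (t' * t')⁻¹ := by group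
      _ = w' * (t' * t')⁻¹ := by rw [h1, ← mul_assoc e e, h.res.grp_sq hee, one_mul]
  have hK : e * (v * (t' * v * t'⁻¹)) ∈ locKer M z x := by
    refine h.reg_inf_ptwise hS hloc hY (mul_mem heP (mul_mem hv hv')) ?_
    rw [hkey]
    exact mul_mem hw'.2 (inv_mem (h.mul_mem_ptwise hS hloc hF hP hTE ht' ht' htW' htW'))
  rw [h.twist_eq_one hS hloc hF hP hTE ht' htW' hv hee hK, one_mul] at hgu
  exact h.eq_one_of_translate hS hloc hY hf hf1 hgf (hY.smul g hg) ht2.1 ht2.2 (hgu ▸ hw'.2)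

/-- Every element of `E W` outside `E` lies in a translate of the pointwise part. -/
theorem exists_translate_eq {k : G} (hk : k ∈ T ⊓ ptwise M z x) (hk1 : k ≠ 1) {e : G}
    (he : e ∈ h.res.grp (base M)) :
    ∃ f ∈ h.res.grp (base M), ∃ g ∈ S, g * x * g⁻¹ = f * x ∧
      ∃ w ∈ T ⊓ ptwise M z x, g * w * g⁻¹ = e * k := by
  classical
  have hF := hY.frame
  have hfib : ∀ f : h.res.grp (base M), ∃ g ∈ S, g * x * g⁻¹ = (f : G) * x ∧
      ∃ e' : h.res.grp (base M), ∃ w ∈ T ⊓ ptwise M z x, g * w * g⁻¹ = (e' : G) * k := by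
    intro f
    obtain ⟨g, hg, hgf⟩ := hY.surj _ f.2
    refine ⟨g, hg, hgf, ?_⟩
    have hψ : ∀ w : (T ⊓ ptwise M z x : Subgroup G), ∃ w' : (T ⊓ ptwise M z x : Subgroup G),
        ∃ e' : h.res.grp (base M), g * (w : G) * g⁻¹ = (e' : G) * (w' : G) := fun w => by
      obtain ⟨e', he', w', hw', hh⟩ := h.conj_ptwise_mem hS hloc hY hg w.2
      exact ⟨⟨w', hw'⟩, ⟨e', he'⟩, hh⟩
    choose ψ e' hψ' using hψ
    have hinj : Function.Injective ψ := by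
      intro w₁ w₂ heq
      have h1 : g * ((w₁ : G) * (w₂ : G)⁻¹) * g⁻¹ ∈ h.res.grp (base M) := by
        rw [show g * ((w₁ : G) * (w₂ : G)⁻¹) * g⁻¹ = g * w₁ * g⁻¹ * (g * w₂ * g⁻¹)⁻¹ by group, hψ' w₁, hψ' w₂,
          heq, mul_inv_rev, mul_assoc, mul_inv_cancel_left]
        exact mul_mem (e' w₁).2 (inv_mem (e' w₂).2)
      have h2 : (g * ((w₁ : G) * (w₂ : G)⁻¹) * g⁻¹) • (g • a) = g • a := by
        rw [mul_smul, mul_smul, inv_smul_smul,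
          ptwise_fix (mul_mem w₁.2.2 (inv_mem w₂.2.2)) hF.fix_pt]
      have h3 := h.eq_one_of_grp_fix h1
        (fun e1 => hF.ne (smul_left_cancel g (e1.trans (hY.smul g hg).symm))) h2
      exact Subtype.ext (mul_inv_eq_one.1 (conj_eq_one_iff.1 h3))
    obtain ⟨w, hw⟩ := Finite.surjective_of_injective hinj ⟨k, hk⟩
    exact ⟨e' w, w, w.2, by rw [hψ' w, hw]⟩
  choose g hg hgf e' w hw hgw using hfib
  have hinj : Function.Injective e' := by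
    intro f₁ f₂ heq
    by_contra hne
    set g' := (g f₂)⁻¹ * g f₁ with hg'
    have hg'S : g' ∈ S := mul_mem (inv_mem (hg f₂)) (hg f₁)
    obtain ⟨d, hd, hgd⟩ := h.exists_translation_coset hS hloc hY hg'S
    have hd1 : d ≠ 1 := fun e1 => hne (Subtype.ext (mul_right_cancel (b := x) (by
      rw [← hgf f₁, ← hgf f₂]
      calc g f₁ * x * (g f₁)⁻¹ = g f₂ * (g' * x * g'⁻¹) * (g f₂)⁻¹ := by rw [hg']; group
        _ = g f₂ * x * (g f₂)⁻¹ := by rw [hgd, e1, one_mul])))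
    have h1 : g' * w f₁ * g'⁻¹ = w f₂ := by
      calc g' * w f₁ * g'⁻¹ = (g f₂)⁻¹ * (g f₁ * w f₁ * (g f₁)⁻¹) * g f₂ := by rw [hg']; group
        _ = (g f₂)⁻¹ * (g f₂ * w f₂ * (g f₂)⁻¹) * g f₂ := by rw [hgw, heq, hgw]
        _ = w f₂ := by group
    have h2 := h.eq_one_of_translate hS hloc hY hd hd1 hgd (hY.smul g' hg'S) (hw f₁).1 (hw f₁).2
      (h1.symm ▸ (hw f₂).2)
    have h3 : (e' f₁ : G) * k = 1 := by rw [← hgw, h2]; group
    refine hk1 ?_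
    have hkE : k ∈ h.res.grp (base M) := by rw [eq_inv_of_mul_eq_one_right h3]; exact inv_mem (e' f₁).2
    exact h.eq_one_of_grp_fix hkE hF.ne (ptwise_fix hk.2 hF.fix_pt)
  obtain ⟨f, hf⟩ := Finite.surjective_of_injective hinj ⟨e, he⟩
  exact ⟨f, f.2, g f, hg f, hgf f, w f, hw f, by rw [hgw f, hf]⟩

/-- **The squares in `P W` lie in `E`.** -/
theorem sq_mem {g : G} (hgv : ∃ v ∈ P, ∃ w ∈ T ⊓ ptwise M z x, g = v * w) :
    g * g ∈ h.res.grp (base M) := by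
  obtain ⟨v, hv, w, hw, rfl⟩ := hgv
  have hF := hY.frame
  have hP := hY.reg
  rw [(ptwise_loc hw.2 ((hP.mem v).1 hv).1).mul_mul_mul_comm, h.ptwise_sq hS hloc hY hw, mul_one]
  obtain ⟨e, he, hek⟩ := hP.sq v hv
  rw [h.lineGrp_eq hF.bad hF.fix_base] at he
  by_contra hn
  have hee := h.res.grp_sq he
  have hvv : v * v = e * (e * (v * v)) := by rw [← mul_assoc, hee, one_mul]
  set k := e * (v * v) with hkdef
  have hk : k ∈ T ⊓ ptwise M z x :=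
    h.regKer_le hS hloc hY (mul_mem (hP.line_le (by rwa [h.lineGrp_eq hF.bad hF.fix_base])) (mul_mem hv hv)) hek
  have hk1 : k ≠ 1 := fun e1 => hn (by rw [hvv, e1, mul_one]; exact he)
  obtain ⟨f, hf, g₀, hg₀, -, w₀, hw₀, hgw⟩ := h.exists_translate_eq hS hloc hY hk hk1 he
  have hp := h.conj_mem_regPtwise hS hloc hY (inv_mem hg₀) (mem_sup_left hv : v ∈ P ⊔ (T ⊓ ptwise M z x))
  obtain ⟨v', hv', w', hw', hu⟩ := (h.mem_regPtwise hS hloc hY).1 hp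
  have hsq' : v' * v' = w₀ := by
    have h1 : g₀⁻¹ * v * g₀⁻¹⁻¹ * (g₀⁻¹ * v * g₀⁻¹⁻¹) = w₀ := by
      rw [show g₀⁻¹ * v * g₀⁻¹⁻¹ * (g₀⁻¹ * v * g₀⁻¹⁻¹) = g₀⁻¹ * (v * v) * g₀ by group, hvv, ← hgw]; group
    rwa [hu, (ptwise_loc hw'.2 ((hP.mem v').1 hv').1).mul_mul_mul_comm, h.ptwise_sq hS hloc hY hw', mul_one] at h1
  obtain ⟨e₁, he₁, he₁k⟩ := hP.invol v' hv'
    (h.reg_inf_ptwise hS hloc hY (mul_mem hv' hv') (hsq' ▸ hw₀.2))
  rw [h.lineGrp_eq hF.bad hF.fix_base] at he₁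
  have hw₃ := mul_mem (h.regKer_le hS hloc hY
    (mul_mem (hP.line_le (by rwa [h.lineGrp_eq hF.bad hF.fix_base])) hv') he₁k) hw'
  obtain ⟨e₂, he₂, w₄, hw₄, h4⟩ := h.conj_ptwise_mem hS hloc hY hg₀ hw₃
  have hv1 : v = e₁ * e₂ * w₄ := by
    calc v = g₀ * (g₀⁻¹ * v * g₀⁻¹⁻¹) * g₀⁻¹ := by group
      _ = g₀ * (e₁ * (e₁ * v' * w')) * g₀⁻¹ := by
          rw [hu, ← mul_assoc e₁, ← mul_assoc e₁, h.res.grp_sq he₁, one_mul]
      _ = e₁ * (g₀ * (e₁ * v' * w') * g₀⁻¹) := by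
          rw [← mul_assoc g₀ e₁, (hY.centE g₀ hg₀ e₁ he₁).eq]; group
      _ = e₁ * e₂ * w₄ := by rw [h4, mul_assoc]
  have h5 : v * v = 1 := by
    rw [hv1, (h.sylo_TE hS hloc hY w₄ hw₄.1 _ (mul_mem he₁ he₂)).mul_mul_mul_comm,
      h.res.grp_sq (mul_mem he₁ he₂), h.ptwise_sq hS hloc hY hw₄, mul_one]
  exact hn (by rw [h5]; exact one_mem _)

end CfsgLib.SECrit.Eq.EqRes
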