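import Cfsg.Agent.Lib.Invol.SECriterion.EqType.OneClass

/-!
# The strong embedding criterion: the blocks of an orbit

As in one central class, `B` is an equivariant alternating form on `V` with values in `E`, but members
of the orbit `Ω` may be orthogonal: orthogonality is then an equivalence whose classes differ by scalars
from `η C`.  If the invariants of `C` in the span of `Ω` are scalar multiples of `x`, the form vanishes
between `x` and `Ω`.
-/

set_option autoImplicit false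
set_option linter.style.haveILetI false

namespace CfsgLib.SECrit

open MonoidAlgebra

/-- The pairing lemma for a map `vx` into a module, invariants acting symmetrically. -/
theorem pairing_const_module_of_flip {A : Type*} [CommGroup A] [Finite A] {C : Type*} [Group C] [Finite C]
    {V E : Type*} [AddCommGroup V] [Module (ZMod 2) V] [AddCommGroup E] [Module (ZMod 2) E]
    (hA : Odd (Nat.card A)) (hC : Odd (Nat.card C)) (θ : C →* MulAut A) (vx : A → V)
    (Ra : A → (V →ₗ[ZMod 2] V)) (hRa : ∀ a b, Ra a (vx b) = vx (a * b))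
    (Rc : C → (V →ₗ[ZMod 2] V)) (hRc : ∀ c b, Rc c (vx b) = vx (θ c b))
    (β : V →ₗ[ZMod 2] E) (hsymm : ∀ a, β (vx a⁻¹) = β (vx a))
    (hflip : ∀ v ∈ Submodule.span (ZMod 2) (Set.range vx), (∀ c, Rc c v = v) →
      ∀ b, β (Ra b⁻¹ v) = β (Ra b v))
    (a : A) : β (vx a) = β (vx 1) := by
  let Mv : MonoidAlgebra (ZMod 2) A →ₗ[ZMod 2] V :=
    Finsupp.linearCombination (ZMod 2) vx ∘ₗ (coeffLinearEquiv (ZMod 2)).toLinearMap
  have hMof : ∀ b, Mv (of (ZMod 2) A b) = vx b := fun b => by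
    simp [Mv, coeffLinearEquiv, Finsupp.linearCombination_single]
  have hmul : ∀ b r, Mv (of (ZMod 2) A b * r) = Ra b (Mv r) := by
    intro b r
    induction r using MonoidAlgebra.induction_on with
    | of c => rw [← map_mul, hMof, hMof, hRa]
    | add u v hu hv => rw [mul_add, map_add, map_add, map_add, hu, hv]
    | smul k u hu => rw [mul_smul_comm, map_smul, map_smul, map_smul, hu]
  have hMθ : ∀ c r, Mv (domCongr (ZMod 2) (ZMod 2) (θ c) r) = Rc c (Mv r) := by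
    intro c r
    induction r using MonoidAlgebra.induction_on with
    | of b =>
      rw [show domCongr (ZMod 2) (ZMod 2) (θ c) (of (ZMod 2) A b) = of (ZMod 2) A (θ c b) from
        domCongr_single (R := ZMod 2) (θ c) b 1, hMof, hMof, hRc]
    | add u v hu hv => simp only [map_add, hu, hv]
    | smul k u hu => simp only [map_smul, hu]
  have hspan : ∀ r, Mv r ∈ Submodule.span (ZMod 2) (Set.range vx) := by
    intro r
    induction r using MonoidAlgebra.induction_on with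
    | of b => rw [hMof]; exact Submodule.subset_span ⟨b, rfl⟩
    | add u v hu hv => rw [map_add]; exact add_mem hu hv
    | smul k u hu => rw [map_smul]; exact Submodule.smul_mem _ k hu
  have h := pairing_const_of_flip hA hC θ (β ∘ₗ Mv)
    (fun b => by simp only [LinearMap.comp_apply, hMof]; exact hsymm b)
    (fun u hu b => by
      show β (Mv _) = β (Mv _)
      rw [hmul, hmul]
      exact hflip _ (hspan u) (fun c => by rw [← hMθ, hu]) b) a
  simpa only [LinearMap.comp_apply, hMof, ← map_one (of (ZMod 2) A)] using h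

/-- **The blocks of an orbit.** -/
theorem blocks_fixed_of_alternating {N V E : Type*} [Group N] [Finite N] [AddCommGroup V] [Module (ZMod 2) V]
    [AddCommGroup E] [Module (ZMod 2) E] [Finite E]
    (hN : Odd (Nat.card N)) (hsol : Group.IsSolvable N) (ρ : N →* (V ≃ₗ[ZMod 2] V)) (η : N →* (E ≃ₗ[ZMod 2] E))
    (B : V →ₗ[ZMod 2] V →ₗ[ZMod 2] E) (hB : ∀ n u v, η n (B u v) = B (ρ n u) (ρ n v)) (halt : ∀ v, B v v = 0)
    (Ω : Set V) [Finite Ω] (hΩ : ∀ n, ∀ v ∈ Ω, ρ n v ∈ Ω) (htrans : ∀ v ∈ Ω, ∀ w ∈ Ω, ∃ n, ρ n v = w)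
    {x : V} (hx : x ∈ Ω) (C : Subgroup N) (hCx : ∀ c ∈ C, ρ c x = x)
    (hCE : ∀ e f : E, e ≠ 0 → f ≠ 0 → ∃ c ∈ C, η c e = f) (hmove : ∃ c ∈ C, η c ≠ 1)
    (hCcomm : ∀ c ∈ C, ∀ d ∈ C, η c * η d = η d * η c)
    (hnorm : ∀ n, ∀ c ∈ C, ∃ d ∈ C, η n * η c * (η n)⁻¹ = η d)
    (hblock : ∀ v ∈ Ω, ∀ w ∈ Ω, B v w = 0 → ∃ c ∈ C, ∀ u : V, B u w = η c (B u v))
    (hsep : ∀ v ∈ Ω, ∀ w ∈ Ω, (∀ u, B u v = B u w) → v = w)
    (hfix : ∀ v ∈ Submodule.span (ZMod 2) Ω, (∀ c ∈ C, ρ c v = v) → ∃ ν : E → E, ∀ u, B u v = ν (B u x)) :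
    ∀ v ∈ Ω, B x v = 0 := by
  classical
  by_contra hcon
  push Not at hcon
  obtain ⟨w₀, hw₀, he0⟩ := hcon
  have hsymmB : ∀ u v, B u v = B v u := by
    intro u v
    have h := halt (u + v)
    simp only [map_add, LinearMap.add_apply, halt, zero_add, add_zero] at h
    have h2 : B u v + B v u = 0 := by rw [add_comm]; exact h
    rw [eq_neg_of_add_eq_zero_left h2]
    exact ZModModule.neg_eq_self _
  have hρ : ∀ m n v, ρ (m * n) v = ρ m (ρ n v) := fun m n v => by rw [map_mul]; rfl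
  have hρinv : ∀ n v, ρ n (ρ n⁻¹ v) = v := fun n v => by rw [← hρ, mul_inv_cancel, map_one]; rfl
  have hρinv' : ∀ n v, ρ n⁻¹ (ρ n v) = v := fun n v => by rw [← hρ, inv_mul_cancel, map_one]; rfl
  -- `η C` is semiregular
  have hsemi : ∀ c ∈ C, ∀ e : E, e ≠ 0 → η c e = e → η c = 1 := by
    intro c hc e he hce
    refine LinearEquiv.ext fun f => ?_
    rcases eq_or_ne f 0 with rfl | hf
    · rw [map_zero]; rfl
    obtain ⟨d, hd, rfl⟩ := hCE e f he hf
    show (η c * η d) e = η d e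
    rw [hCcomm c hc d hd]
    show η d (η c e) = η d e
    rw [hce]
  have hsq : ∀ c ∈ C, η c * η c = 1 → η c = 1 := by
    intro c _ h
    obtain ⟨m, hm⟩ := hN.of_dvd_nat (orderOf_dvd_natCard c)
    have h1 : η (c ^ (2 * m + 1)) = 1 := by rw [← hm, pow_orderOf_eq_one, map_one]
    rwa [map_pow, pow_succ, pow_mul, pow_two, h, one_pow, one_mul] at h1
  -- orthogonality is an equivalence on `Ω`
  have htr : ∀ v ∈ Ω, ∀ w ∈ Ω, ∀ z ∈ Ω, B v w = 0 → B w z = 0 → B v z = 0 := by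
    intro v hv w hw z hz h1 h2
    obtain ⟨c, -, hc⟩ := hblock w hw z hz h2
    rw [hc v, h1, map_zero]
  have hzero : ∀ n u v, B (ρ n u) (ρ n v) = 0 ↔ B u v = 0 := fun n u v => by
    rw [← hB, LinearEquiv.map_eq_zero_iff]
  have hthird : ∀ v ∈ Ω, ∀ w ∈ Ω, B v w ≠ 0 → ∃ z ∈ Ω, B v z ≠ 0 ∧ B w z ≠ 0 := by
    intro v hv w hw hvw
    by_contra h
    push Not at h
    have h' : ∀ z ∈ Ω, B v z = 0 ∨ B w z = 0 := fun z hz => or_iff_not_imp_left.2 (h z hz)
    obtain ⟨n, hn⟩ := htrans v hv w hw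
    have hnw : B v (ρ n w) = 0 := by
      refine (h' _ (hΩ n w hw)).resolve_right fun h0 => hvw ?_
      have h1 : B (ρ n v) (ρ n w) = 0 := by rw [hn]; exact h0
      exact (hzero n v w).1 h1
    have key : ∀ k : ℕ, B v (ρ (n ^ (2 * k)) v) = 0 := by
      intro k
      induction k with
      | zero => rw [Nat.mul_zero, pow_zero, map_one]; exact halt v
      | succ k ih =>
        rw [show 2 * (k + 1) = 2 + 2 * k by omega, pow_add, hρ]
        refine htr v hv _ (hΩ _ v hv) _ (hΩ _ _ (hΩ _ v hv)) ?_ ((hzero (n ^ 2) _ _).2 ih)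
        rw [pow_two, hρ, hn]
        exact hnw
    obtain ⟨m, hm⟩ := hN.of_dvd_nat (orderOf_dvd_natCard n)
    have h1 := key (m + 1)
    rw [show 2 * (m + 1) = orderOf n + 1 by omega, pow_succ, pow_orderOf_eq_one, one_mul, hn] at h1
    exact hvw h1
  -- the kernel on `E`
  set N0 : Subgroup N := η.ker with hN0
  have hA0 : ∀ a ∈ N0, ∀ u v, B (ρ a u) (ρ a v) = B u v := fun a ha u v => by
    rw [← hB, MonoidHom.mem_ker.1 ha]; rfl
  have hinblock : ∀ a ∈ N0, (∀ v ∈ Ω, B v (ρ a v) = 0) → ∀ v ∈ Ω, ρ a v = v := by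
    intro a ha hin
    choose! ν hνC hν using fun v (hv : v ∈ Ω) => hblock v hv (ρ a v) (hΩ a v hv) (hin v hv)
    have hprod : ∀ v ∈ Ω, ∀ w ∈ Ω, B v w ≠ 0 → η (ν w) * η (ν v) = 1 := by
      intro v hv w hw hvw
      rw [← map_mul]
      refine hsemi _ (mul_mem (hνC w hw) (hνC v hv)) _ hvw ?_
      rw [map_mul]
      show η (ν w) (η (ν v) (B v w)) = B v w
      calc η (ν w) (η (ν v) (B v w)) = η (ν w) (η (ν v) (B w v)) := by rw [hsymmB v w]
        _ = η (ν w) (B w (ρ a v)) := by rw [hν v hv w]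
        _ = η (ν w) (B (ρ a v) w) := by rw [hsymmB w]
        _ = B (ρ a v) (ρ a w) := (hν w hw _).symm
        _ = B v w := hA0 a ha v w
    intro v hv
    obtain ⟨w, hw, hvw⟩ : ∃ w ∈ Ω, B v w ≠ 0 := by
      obtain ⟨n, hn⟩ := htrans x hx v hv
      exact ⟨ρ n w₀, hΩ n w₀ hw₀, fun h => he0 ((hzero n x w₀).1 (by rw [hn]; exact h))⟩
    obtain ⟨z, hz, hvz, hwz⟩ := hthird v hv w hw hvw
    have h1 : η (ν v) = 1 := by
      refine hsq _ (hνC v hv) ?_
      have e1 := hprod v hv w hw hvw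
      have e2 := hprod v hv z hz hvz
      have e3 := hprod w hw z hz hwz
      have e4 : η (ν z) = η (ν w) := mul_right_cancel (e2.trans e1.symm)
      rw [e4] at e3
      have e5 : η (ν w) = η (ν v) := mul_left_cancel (e3.trans e1.symm)
      rwa [e5] at e1
    exact (hsep v hv _ (hΩ a v hv) fun u => by rw [hν v hv u, h1]; rfl).symm
  -- the permutations of `Ω`
  letI act : MulAction N Ω :=
    { smul := fun n v => ⟨ρ n v.1, hΩ n v.1 v.2⟩
      one_smul := fun v => Subtype.ext (show ρ 1 v.1 = v.1 by rw [map_one]; rfl)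
      mul_smul := fun a b v => Subtype.ext (show ρ (a * b) v.1 = ρ a (ρ b v.1) by rw [map_mul]; rfl) }
  let π : N →* Equiv.Perm Ω := MulAction.toPermHom N Ω
  have hπv : ∀ n (v : Ω), ((π n) v).1 = ρ n v.1 := fun _ _ => rfl
  have hπone : ∀ n, π n = 1 → ∀ v ∈ Ω, ρ n v = v := fun n hn v hv => by
    rw [← hπv n ⟨v, hv⟩, hn]; rfl
  have hN0π : ¬ N0 ≤ π.ker := by
    intro hle
    obtain ⟨c, hc, hc1⟩ := hmove
    refine hc1 (hsemi c hc _ he0 ?_)
    obtain ⟨n, hn⟩ := htrans x hx w₀ hw₀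
    obtain ⟨d, hd, hdn⟩ := hnorm n⁻¹ c hc
    have hmem : d⁻¹ * (n⁻¹ * c * n) ∈ N0 := by
      rw [hN0, MonoidHom.mem_ker, map_mul, map_mul, map_mul, map_inv η d, ← hdn, map_inv, inv_inv]
      exact inv_mul_cancel _
    have h1 := hπone _ (hle hmem) x hx
    rw [hρ] at h1
    have h2 : ρ (n⁻¹ * c * n) x = x := by
      have := congrArg (ρ d) h1
      rwa [hρinv, hCx d hd] at this
    have h3 : ρ c w₀ = w₀ := by
      rw [← hn]
      calc ρ c (ρ n x) = ρ n (ρ (n⁻¹ * c * n) x) := by rw [← hρ, ← hρ]; congr 2; group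
        _ = ρ n x := by rw [h2]
    rw [hB, hCx c hc, h3]
  obtain ⟨A, p, hAN0, hAn, hp, ⟨a1, ha1, ha1'⟩, hexp, hcomm⟩ :=
    exists_normal_prime_image_le hsol π (MonoidHom.normal_ker η) hN0π
  have hηA : ∀ a ∈ A, η a = 1 := fun a ha => MonoidHom.mem_ker.1 (hAN0 ha)
  -- some element of `A` moves `x` out of its block
  obtain ⟨a0, ha0, ha0x⟩ : ∃ a ∈ A, B x (ρ a x) ≠ 0 := by
    by_contra h
    push Not at h
    refine ha1' (Equiv.ext fun v => Subtype.ext ?_)
    show ρ a1 v.1 = v.1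
    refine hinblock a1 (hAN0 ha1) (fun v hv => ?_) v.1 v.2
    obtain ⟨n, hn⟩ := htrans x hx v hv
    have h1 := h _ (hAn.conj_mem a1 ha1 n⁻¹)
    rw [inv_inv] at h1
    have h2 := (hzero n x (ρ (n⁻¹ * a1 * n) x)).2 h1
    rwa [hn, ← hρ, show n * (n⁻¹ * a1 * n) = a1 * n by group, hρ, hn] at h2
  -- the pairing lemma on the image of `A`
  let Ab : Subgroup (Equiv.Perm Ω) := A.map π
  have hAbcomm : ∀ a b : Ab, a * b = b * a := by
    rintro ⟨_, a, ha, rfl⟩ ⟨_, b, hb, rfl⟩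
    exact Subtype.ext (hcomm a ha b hb)
  let x' : Ω := ⟨x, hx⟩
  letI : CommGroup Ab := { (inferInstance : Group Ab) with mul_comm := hAbcomm }
  have hconj : ∀ (c : C) (a : Ab), π c * a.1 * (π c)⁻¹ ∈ Ab := by
    rintro c ⟨_, a, ha, rfl⟩
    exact ⟨_, hAn.conj_mem a ha c, by rw [map_mul, map_mul, map_inv]⟩
  let θe : C → MulAut Ab := fun c =>
    { toFun := fun a => ⟨π c * a.1 * (π c)⁻¹, hconj c a⟩
      invFun := fun a => ⟨π (c⁻¹ : C) * a.1 * (π (c⁻¹ : C))⁻¹, hconj c⁻¹ a⟩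
      left_inv := fun a => Subtype.ext (by simp [mul_assoc, map_inv])
      right_inv := fun a => Subtype.ext (by simp [mul_assoc, map_inv])
      map_mul' := fun a b => Subtype.ext (by simp [mul_assoc]) }
  let θ : C →* MulAut Ab := MonoidHom.mk' θe fun c d =>
    MulEquiv.ext fun a => Subtype.ext (by simp [θe, mul_assoc])
  let vx : Ab → V := fun a => ((a : Equiv.Perm Ω) x').1
  let Ra : Ab → (V →ₗ[ZMod 2] V) := fun a => (ρ a.2.choose).toLinearMap
  have hRa : ∀ a b, Ra a (vx b) = vx (a * b) := fun a b => by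
    show ρ a.2.choose (vx b) = ((a : Equiv.Perm Ω) ((b : Equiv.Perm Ω) x')).1
    rw [← hπv, a.2.choose_spec.2]
  have hspan : Submodule.span (ZMod 2) (Set.range vx) ≤ Submodule.span (ZMod 2) Ω :=
    Submodule.span_mono (Set.range_subset_iff.2 fun a => ((a : Equiv.Perm Ω) x').2)
  have hsymm : ∀ a : Ab, B x (vx a⁻¹) = B x (vx a) := by
    rintro ⟨_, a, ha, rfl⟩
    show B x (((π a)⁻¹ x').1) = B x (ρ a x)
    rw [← map_inv, hπv, ← hA0 a (hAN0 ha) x (ρ a⁻¹ x), hρinv]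
    exact hsymmB _ _
  have hRB : ∀ (b : Ab) (v : V) (ν : E → E), (∀ u, B u v = ν (B u x)) → B x (Ra b v) = ν (B x (vx b)) := by
    intro b v ν hν
    have h1 := b.2.choose_spec
    show B x (ρ b.2.choose v) = _
    have h2 : vx b = ρ b.2.choose x := by
      show ((b : Equiv.Perm Ω) x').1 = _
      rw [← hπv b.2.choose x', h1.2]
    have key : ∀ u, B x (ρ b.2.choose u) = B (ρ b.2.choose⁻¹ x) u := fun u =>
      calc B x (ρ b.2.choose u) = B (ρ b.2.choose (ρ b.2.choose⁻¹ x)) (ρ b.2.choose u) := by rw [hρinv]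
        _ = _ := hA0 _ (hAN0 h1.1) _ _
    rw [h2, key, key, hν]
  have hfin := pairing_const_module_of_flip (hN.of_dvd_nat ((A.card_map_dvd π).trans A.card_subgroup_dvd_card))
    (hN.of_dvd_nat C.card_subgroup_dvd_card) θ vx Ra hRa (fun c => (ρ (c : N)).toLinearMap)
    (fun c a => by
      show ρ c (vx a) = ((π c) (a.1 ((π c)⁻¹ x'))).1
      rw [show (π c)⁻¹ x' = x' from by rw [← map_inv]; exact Subtype.ext (hCx _ (C.inv_mem c.2))]
      rfl)
    (B x) hsymm
    (fun v hv hc b => by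
      obtain ⟨ν, hν⟩ := hfix v (hspan hv) fun c hc' => hc ⟨c, hc'⟩
      rw [hRB b⁻¹ v ν hν, hRB b v ν hν, hsymm b])
    ⟨π a0, a0, ha0, rfl⟩
  exact ha0x (hfin.trans (halt x))

end CfsgLib.SECrit
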