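import Cfsg.Agent.Lib.Char.TransLinear.Main
import Cfsg.Agent.Lib.Invol.SECriterion.EqType.Pencil.Singer
import Cfsg.Agent.S0205

/-!
# The strong embedding criterion: a Singer group of an odd order group is normal

The group is semilinear (Huppert); the linear part of the Singer group is large, so a field automorphism
coming from the Singer group is trivial.
-/

set_option autoImplicit false
set_option linter.style.haveILetI false

namespace CfsgLib.SECrit.Pencil

open CfsgLib.Char

theorem fix_bound {β k : ℕ} (hβ : 2 ≤ β) (hk2 : k * k ≤ 2 ^ β) : β * (k - 1) < 2 ^ β - 1 := by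
  have hpow : ∀ n, 2 ≤ n → n * n + 2 ≤ 2 ^ n + 2 * n := by
    intro n hn
    induction n, hn using Nat.le_induction with
    | base => decide
    | succ n hn ih => rw [pow_succ]; nlinarith [Nat.lt_two_pow_self (n := n)]
  have h1 := hpow β hβ
  have h2 : 1 ≤ 2 ^ β := Nat.one_le_two_pow
  rcases Nat.lt_or_ge k β with hlt | hge
  · have h3 : β * (k - 1) ≤ β * (β - 2) := Nat.mul_le_mul_left β (by omega)
    have h4 : β * (β - 2) + 2 * β = β * β := by
      rw [mul_comm 2 β, ← mul_add]; congr 1; omega
    omega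
  · have h3 : β * (k - 1) ≤ k * (k - 1) := Nat.mul_le_mul_right _ hge
    have h4 : k * (k - 1) + k = k * k := by
      conv_lhs => rw [← Nat.mul_succ]
      congr 1; omega
    omega

/-- A field automorphism is trivial on a subfield at most as large as the root. -/
theorem card_fix_sq_le {F : Type*} [Field F] [Finite F] (σ : F ≃+* F) (hσ : σ ≠ RingEquiv.refl F) :
    Nat.card {a : F // σ a = a} * Nat.card {a : F // σ a = a} ≤ Nat.card F := by
  classical
  obtain ⟨w, hw⟩ : ∃ w, σ w ≠ w := by
    by_contra hh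
    push Not at hh
    exact hσ (RingEquiv.ext hh)
  rw [← Nat.card_prod]
  refine Nat.card_le_card_of_injective (fun p : {a : F // σ a = a} × {a : F // σ a = a} => p.1.1 + p.2.1 * w) ?_
  rintro ⟨⟨a, ha⟩, ⟨b, hb⟩⟩ ⟨⟨a', ha'⟩, ⟨b', hb'⟩⟩ e
  have e1 : a + b * w = a' + b' * w := e
  have e2 : a + b * σ w = a' + b' * σ w := by
    have := congrArg σ e1
    rwa [map_add, map_add, map_mul, map_mul, ha, hb, ha', hb'] at this
  have hbb : b = b' := by
    by_contra hne
    refine hw (mul_left_cancel₀ (sub_ne_zero.2 hne) ?_)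
    linear_combination e2 - e1
  subst hbb
  have haa : a = a' := add_right_cancel e1
  subst haa
  rfl

variable {R E : Type*} [Group R] [Group E] [MulDistribMulAction R E] [Finite R] [Finite E] {C : Subgroup R}

/-- **A Singer group in a group of odd order is normal.** -/
theorem Singer.normal_of_odd (h : Singer R E C) (hodd : Odd (Nat.card R)) {β : ℕ}
    (hβ : Nat.card E = 2 ^ β) : ∀ g c : R, c ∈ C → g * c * g⁻¹ ∈ C := by
  classical
  intro g c hc
  by_cases hβ2 : β < 2
  · have hc1 : c = 1 := by
      by_cases hex : ∃ e : E, e ≠ 1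
      · obtain ⟨e, he⟩ := hex
        refine h.eq_one_of_fix hc he ?_
        by_contra hne
        have h3 : Nat.card ({1, e, c • e} : Set E) ≤ Nat.card E := Nat.card_le_card_of_injective _ Subtype.val_injective
        rw [Nat.card_coe_set_eq, Set.ncard_eq_three.2 ⟨1, e, c • e, he.symm,
          (h.smul_ne_one he).symm, fun x => hne x.symm, rfl⟩, hβ] at h3
        have : 2 ^ β ≤ 2 ^ 1 := Nat.pow_le_pow_right two_pos (by omega)
        omega
      · push Not at hex
        exact h.faith c fun e => by rw [hex e, smul_one]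
    rw [hc1, mul_one, mul_inv_cancel]
    exact one_mem C
  letI : CommGroup E := { ‹Group E› with mul_comm := h.mul_comm' }
  letI : Module (ZMod 2) (Additive E) := AddCommGroup.zmodModule fun v => by
    rw [two_nsmul]; exact congrArg Additive.ofMul (h.sq v.toMul)
  haveI : Fact (Nat.Prime 2) := ⟨Nat.prime_two⟩
  haveI : Nontrivial E := Finite.one_lt_card_iff_nontrivial.1
    (hβ ▸ Nat.one_lt_two_pow (by omega))
  haveI : Nontrivial (Additive E) := inferInstance
  haveI : Finite (Additive E) := inferInstanceAs (Finite E)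
  haveI : Group.IsSolvable R := Cfsg.Agent.S0205.result hodd
  let A : R → (Additive E ≃+ Additive E) := fun g =>
    MulEquiv.toAdditive (MulDistribMulAction.toMulEquiv E g)
  let ρ : R →* (Additive E ≃ₗ[ZMod 2] Additive E) :=
    { toFun := fun g => (A g).toLinearEquiv fun c x => ZMod.map_smul (A g).toAddMonoidHom c x
      map_one' := LinearEquiv.ext fun v => congrArg Additive.ofMul (one_smul R v.toMul)
      map_mul' := fun g k => LinearEquiv.ext fun v => congrArg Additive.ofMul (mul_smul g k v.toMul) }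
  have hρv : ∀ (g : R) (e : E), ρ g (Additive.ofMul e) = Additive.ofMul (g • e) := fun g e => rfl
  have hρ : Function.Injective ρ := by
    rw [injective_iff_map_eq_one]
    exact fun g hg => h.faith g fun e => congrArg Additive.toMul (LinearEquiv.congr_fun hg (Additive.ofMul e))
  have htr : ∀ v w : Additive E, v ≠ 0 → w ≠ 0 → ∃ g : R, ρ g v = w := fun v w hv hw => by
    obtain ⟨c, -, hcv⟩ := h.trans v.toMul w.toMul (fun e => hv (congrArg Additive.ofMul e))
      (fun e => hw (congrArg Additive.ofMul e))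
    exact ⟨c, congrArg Additive.ofMul hcv⟩
  obtain ⟨F, iF, iFF, e, he⟩ : IsSemilinearRep ρ := by
    rcases transLinear_cases ρ hρ htr with ⟨A, hAn, hA, hCA⟩ | ⟨A, N, -, -, -, -, -, -, -, hA2, -⟩
    · exact @isSemilinearRep_of_self_centralizing 2 _ _ _ _ _ _ R _ _ ρ hρ htr A hAn hA hCA
    · exact absurd (even_iff_two_dvd.2 (hA2.trans (Subgroup.card_subgroup_dvd_card A)))
        (Nat.not_even_iff_odd.2 hodd)
  choose a σ hσ using he
  have hcardF : Fintype.card F = 2 ^ β := by
    rw [← hβ, ← Nat.card_eq_fintype_card, ← Nat.card_congr e.toEquiv]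
    exact Nat.card_congr Additive.toMul
  haveI : CharP F 2 := by
    obtain ⟨p, hp⟩ := CharP.exists F
    obtain ⟨n, hpp, hn⟩ := FiniteField.card F p
    have h2 : p ∣ 2 ^ β := by rw [← hcardF, hn]; exact dvd_pow_self p n.ne_zero
    rwa [(Nat.prime_dvd_prime_iff_eq hpp Nat.prime_two).1 (hpp.dvd_of_dvd_pow h2)] at hp
  have ha : ∀ g, a g ≠ 0 := fun g e0 => by
    obtain ⟨v, hv⟩ := exists_ne (0 : Additive E)
    have h1 := hσ g v
    rw [e0, zero_mul, ← map_zero e] at h1
    exact hv ((ρ g).map_eq_zero_iff.1 (e.injective h1))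
  have key : ∀ (g : R) (x : F), e (ρ g (e.symm x)) = a g * σ g x := fun g x => by
    rw [hσ, AddEquiv.apply_symm_apply]
  have hmul : ∀ g k : R, a (g * k) = a g * σ g (a k) ∧ ∀ x, σ (g * k) x = σ g (σ k x) := by
    intro g k
    have h1 : ∀ x, a (g * k) * σ (g * k) x = a g * (σ g (a k) * σ g (σ k x)) := fun x => by
      rw [← key (g * k) x, map_mul, LinearEquiv.mul_apply, ← map_mul (σ g), ← key k x, hσ]
    have h2 : a (g * k) = a g * σ g (a k) := by simpa using h1 1
    refine ⟨h2, fun x => mul_left_cancel₀ (ha (g * k)) ?_⟩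
    rw [h1 x, h2, mul_assoc]
  let φ : R →* (F ≃+* F) :=
    { toFun := σ
      map_one' := RingEquiv.ext fun x => by
        obtain ⟨-, h1⟩ := hmul 1 1
        have h2 := h1 x
        rw [one_mul] at h2
        exact ((σ 1).injective h2).symm
      map_mul' := fun g k => RingEquiv.ext fun x => (hmul g k).2 x }
  have hφ : ∀ g, φ g = σ g := fun g => rfl
  have hker : ∀ g ∈ φ.ker, ∀ x, σ g x = x := fun g hg x => RingEquiv.congr_fun (MonoidHom.mem_ker.1 hg) x
  have hainj : ∀ g k : R, g ∈ φ.ker → k ∈ φ.ker → a g = a k → g = k := fun g k hg hk hak =>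
    hρ (LinearEquiv.ext fun v => e.injective (by rw [hσ, hσ, hker g hg, hker k hk, hak]))
  -- the linear part of `C` is large
  have hbound : Nat.card C ≤ β * Nat.card (C ⊓ φ.ker : Subgroup R) := by
    letI : Algebra (ZMod 2) F := ZMod.algebra F 2
    have hr : Nat.card (φ.comp C.subtype).range ≤ β := by
      refine (Nat.card_le_card_of_injective
        (fun s : (φ.comp C.subtype).range => (AlgEquiv.ofRingEquiv (R := ZMod 2) (f := s.1)
          (fun x => RingHom.congr_fun (RingHom.ext_zmod ((s.1 : F ≃+* F).toRingHom.comp (algebraMap (ZMod 2) F))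
            (algebraMap (ZMod 2) F)) x) : F ≃ₐ[ZMod 2] F))
        fun s t hst => Subtype.ext (RingEquiv.ext fun x => AlgEquiv.congr_fun hst x)).trans (le_of_eq ?_)
      haveI : Finite F := Finite.of_fintype F
      rw [card_algEquiv_of_isField (q := 2) (R := F) (Field.toIsField F)]
      have h1 : Nat.card F = 2 ^ Module.finrank (ZMod 2) F := by
        rw [Module.natCard_eq_pow_finrank (K := ZMod 2), Nat.card_zmod]
      rw [Nat.card_eq_fintype_card, hcardF] at h1
      exact (Nat.pow_right_injective le_rfl h1).symm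
    have h1 := (φ.comp C.subtype).ker.index_mul_card
    rw [Subgroup.index_ker] at h1
    rw [← h1]
    refine Nat.mul_le_mul hr (le_of_eq (Nat.card_congr ?_))
    exact ⟨fun k => ⟨k.1.1, k.1.2, k.2⟩, fun k => ⟨⟨k.1, k.2.1⟩, k.2.2⟩, fun k => rfl, fun k => rfl⟩
  have hCcard : Nat.card C = 2 ^ β - 1 := by
    obtain ⟨e₀, he₀⟩ := exists_ne (1 : E)
    rw [h.card_eq he₀, ← hβ]
    haveI := Fintype.ofFinite E
    rw [Nat.card_eq_fintype_card, Nat.card_eq_fintype_card, Fintype.card_subtype_compl, Fintype.card_subtype_eq]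
  -- `C` is linear
  have hlin : C ≤ φ.ker := by
    intro c hc
    refine MonoidHom.mem_ker.2 (by_contra fun hne => ?_)
    have hle : Nat.card (C ⊓ φ.ker : Subgroup R) ≤ Nat.card {x : F // σ c x = x} - 1 := by
      have h0 : Nat.card {x : {x : F // σ c x = x} // x ≠ ⟨0, map_zero _⟩} = Nat.card {x : F // σ c x = x} - 1 := by
        haveI := Fintype.ofFinite {x : F // σ c x = x}
        rw [Nat.card_eq_fintype_card, Nat.card_eq_fintype_card, Fintype.card_subtype_compl, Fintype.card_subtype_eq]
      rw [← h0]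
      refine Nat.card_le_card_of_injective
        (fun k : (C ⊓ φ.ker : Subgroup R) => ⟨⟨a k.1, ?_⟩, fun e0 => ha k.1 (congrArg Subtype.val e0)⟩)
        fun k l hkl => Subtype.ext (hainj _ _ k.2.2 l.2.2 (congrArg (fun r => r.1.1) hkl))
      have e1 : a (c * k.1) = a (k.1 * c) := by rw [h.comm c hc k.1 k.2.1]
      rw [(hmul c k.1).1, (hmul k.1 c).1, hker k.1 k.2.2, mul_comm (a k.1)] at e1
      exact mul_left_cancel₀ (ha c) e1
    have hsq := card_fix_sq_le (σ c) fun e0 => hne (RingEquiv.ext fun x => RingEquiv.congr_fun e0 x)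
    rw [Nat.card_eq_fintype_card (α := F), hcardF] at hsq
    have h1 := fix_bound (by omega : 2 ≤ β) hsq
    have h2 := Nat.mul_le_mul_left β hle
    omega
  -- all linear elements lie in `C`
  have hmem : ∀ k ∈ φ.ker, k ∈ C := by
    intro k hk
    obtain ⟨v, hv⟩ := exists_ne (0 : Additive E)
    obtain ⟨c', hc', hcv⟩ := h.trans v.toMul (k • v.toMul) (fun e0 => hv (congrArg Additive.ofMul e0))
      (h.smul_ne_one fun e0 => hv (congrArg Additive.ofMul e0))
    have h1 : e (ρ c' v) = e (ρ k v) := congrArg (fun x => e (Additive.ofMul x)) hcv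
    rw [hσ, hσ, hker c' (hlin hc'), hker k hk] at h1
    rw [← hainj c' k (hlin hc') hk (mul_right_cancel₀ (fun e0 => hv (e.injective (e0.trans (map_zero e).symm))) h1)]
    exact hc'
  exact hmem _ ((MonoidHom.normal_ker φ).conj_mem c (hlin hc) g)

end CfsgLib.SECrit.Pencil
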