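import Cfsg.Agent.Lib.Invol.SECriterion.EqType.Big.Basic
import Cfsg.Agent.Lib.Invol.SECriterion.EqType.Big.EndBlock
import Cfsg.Agent.Lib.Invol.SECriterion.EqType.Big.Kernel
import Cfsg.Agent.Lib.Invol.SECriterion.EqType.Big.OrbitBlock
import Cfsg.Agent.Lib.Invol.SECriterion.EqType.Big.SingerNormal
import Cfsg.Agent.Lib.Invol.SECriterion.Shape.Coset.Action
import Cfsg.Agent.S0205

/-!
# The strong embedding criterion, equal type, pointwise `T`: fusion of the members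

An involution of `S` outside `E T` forces `S / E` to be elementary abelian.  The normalizer of `S` then acts
on `S / E` through a group of odd order, and the blocks lemma keeps the coset of `x` inside `E T`.
-/

set_option autoImplicit false
set_option linter.style.haveILetI false
set_option linter.unusedSectionVars false

namespace CfsgLib.SECrit.Eq

open CfsgLib.Invol Small Subgroup

universe u

variable {G : Type u} [Group G] [Finite G] {M : Subgroup G} {z : G}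

/-- Conjugation on a subgroup it keeps. -/
noncomputable def conjSub (U : Subgroup G) (n : G) (hU : ∀ v ∈ U, n * v * n⁻¹ ∈ U) : U ≃* U :=
  MulEquiv.ofBijective
    (MonoidHom.mk' (fun v : U => (⟨n * v * n⁻¹, hU v v.2⟩ : U)) fun v w => Subtype.ext (by
      show n * ((v : G) * w) * n⁻¹ = n * v * n⁻¹ * (n * w * n⁻¹)
      group))
    (Finite.injective_iff_bijective.1 fun v w e =>
      Subtype.ext (mul_left_cancel (mul_right_cancel (congrArg Subtype.val e))))

theorem conjSub_apply (U : Subgroup G) (n : G) (hU : ∀ v ∈ U, n * v * n⁻¹ ∈ U) (v : U) :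
    (conjSub U n hU v : G) = n * v * n⁻¹ := rfl

/-- Conjugation on a quotient of a subgroup it keeps. -/
theorem exists_conjQuot {U : Subgroup G} (B : Subgroup U) [B.Normal] (n : G)
    (hU : ∀ v ∈ U, n * v * n⁻¹ ∈ U) (hB : ∀ v ∈ B, conjSub U n hU v ∈ B) :
    ∃ σ : U ⧸ B ≃* U ⧸ B, ∀ v : U, σ v = conjSub U n hU v := by
  let f : U ⧸ B →* U ⧸ B := QuotientGroup.map B B (conjSub U n hU).toMonoidHom hB
  refine ⟨MulEquiv.ofBijective f (Finite.surjective_iff_bijective.1 fun q => ?_), fun v => rfl⟩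
  obtain ⟨w, rfl⟩ := QuotientGroup.mk_surjective q
  exact ⟨((conjSub U n hU).symm w : U), congrArg QuotientGroup.mk ((conjSub U n hU).apply_symm_apply w)⟩

namespace EqRes

theorem commute_mul_right_iff_left {n m a : G} (hm : Commute a m) : Commute a (n * m) ↔ Commute a n :=
  ⟨fun h => by simpa using h.mul_right hm.inv_right, fun h => h.mul_right hm⟩

variable (h : EqRes M z)
include h

variable (hS : Setup M z) (hloc : ∀ x : G, IsBad M x → Local M z x) {x : G} {a : G ⧸ M} {T P S : Subgroup G}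
  (hY : h.Sylo x a T P S) (hbig : fix M x = (deg M z + 1) ^ 2 + 1 ∨ fix M x = (deg M z + 1) ^ 3 + 1)
  (hTp : T ≤ ptwise M z x) (hsq : ∀ t ∈ T, t * t = 1)

include hY in
/-- Commutators of elements with squares among the members are members. -/
theorem comm_mem_grp_of_sq {K : Subgroup G} (hKS : K ≤ S) (hK : ∀ u ∈ K, u * u ∈ h.res.grp (base M)) {u v : G}
    (hu : u ∈ K) (hv : v ∈ K) : u * v * u⁻¹ * v⁻¹ ∈ h.res.grp (base M) := by
  have h1 : v⁻¹ * (u * u)⁻¹ * v = (u * u)⁻¹ := by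
    rw [mul_assoc, ← (hY.centE v (hKS hv) _ (inv_mem (hK u hu))).eq, inv_mul_cancel_left]
  rw [show u * v * u⁻¹ * v⁻¹ = u * v * (u * v) * (v⁻¹ * (u * u)⁻¹ * v) * (v * v)⁻¹ by group, h1]
  exact mul_mem (mul_mem (hK _ (mul_mem hu hv)) (inv_mem (hK u hu))) (inv_mem (hK v hv))

include hS hloc hY hbig hTp hsq in
theorem commute_sup {g t : G} (hg : g ∈ P ⊔ T) (ht : t ∈ T) : Commute g t :=
  (h.mem_decomp hS hloc hY hbig hTp hsq hY.frame.self (invol_ne_one hY.frame.bad.invol) (hY.sup_le hg)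
    (hY.sup_comm' hg).symm).2.2 t ht

include hS hloc hY hbig hTp hsq in
/-- The involutions of `P T` lie in the block. -/
theorem mem_block_of_invol {g : G} (hg : g ∈ P ⊔ T) (hgg : g * g = 1) : g ∈ block h T := by
  obtain ⟨v, hv, t, ht, rfl⟩ := hY.decomp g (hY.sup_le hg) (hY.sup_comm' hg)
  have hc := h.commute_sup hS hloc hY hbig hTp hsq (mem_sup_left hv : v ∈ P ⊔ T) ht
  have hvv : v * v = 1 := by
    rwa [hc.symm.mul_mul_mul_comm, hsq t ht, mul_one] at hgg
  obtain ⟨e, he, hek⟩ := hY.reg.invol v hv (by rw [hvv]; exact one_mem _)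
  rw [h.lineGrp_eq hY.frame.bad hY.frame.fix_base] at he
  have h2 : e * v ∈ T := (h.regKer_le hS hloc hY (mul_mem
    (hY.reg.line_le (by rwa [h.lineGrp_eq hY.frame.bad hY.frame.fix_base])) hv) hek).1
  exact (h.mem_block hY).2 ⟨e, he, e * v * t, mul_mem h2 ht, by
    rw [← mul_assoc, ← mul_assoc, h.res.grp_sq he, one_mul]⟩

include hS hloc hY hbig hTp hsq in
theorem mem_sup_of_commute {g w : G} (hg : g ∈ S) (hw : w ∈ T) (hw1 : w ≠ 1) (hgw : Commute g w) :
    g ∈ P ⊔ T :=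
  hY.mem_sup_iff.2 ⟨hg, (h.mem_decomp hS hloc hY hbig hTp hsq hw hw1 hg hgw).2.1.symm⟩

include hY in
theorem mem_sup_of_translate_eq {u u' : G} (hu : u ∈ S) (hu' : u' ∈ S)
    (e : u * x * u⁻¹ * x = u' * x * u'⁻¹ * x) : u⁻¹ * u' ∈ P ⊔ T := by
  refine hY.mem_sup_iff.2 ⟨mul_mem (inv_mem hu) hu', Commute.symm (mul_inv_eq_iff_eq_mul.1 ?_)⟩
  have e1 := mul_right_cancel e
  calc u⁻¹ * u' * x * (u⁻¹ * u')⁻¹ = u⁻¹ * (u' * x * u'⁻¹) * u := by group
    _ = x := by rw [← e1]; group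

include hS hloc hY hbig hTp hsq in
theorem translate_congr {u u' t : G} (hu : u ∈ S) (hu' : u' ∈ S) (ht : t ∈ T)
    (e : u * x * u⁻¹ * x = u' * x * u'⁻¹ * x) : u * t * u⁻¹ = u' * t * u'⁻¹ := by
  have h1 := h.commute_sup hS hloc hY hbig hTp hsq (h.mem_sup_of_translate_eq hY hu hu' e) ht
  calc u * t * u⁻¹ = u * (u⁻¹ * u' * t * (u⁻¹ * u')⁻¹) * u⁻¹ := by rw [h1.eq, mul_inv_cancel_right]
    _ = u' * t * u'⁻¹ := by group

include hY in
theorem c_normalizes {c : G} (hc : h.Tor x T S c) : c ∈ normalizer (S : Set G) :=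
  mem_normalizer_of_forward fun b hb => hc.norm b hb

theorem conj_of_normalizer {S : Subgroup G} {n u : G} (hn : n ∈ normalizer (S : Set G)) (hu : u ∈ S) :
    n * u * n⁻¹ ∈ S :=
  (mem_normalizer_iff.1 hn u).1 hu

include hY hTp in
theorem centW_pow {c t : G} (hc : h.Tor x T S c) (ht : t ∈ T) :
    ∀ i : ℕ, c ^ i * t * (c ^ i)⁻¹ * t⁻¹ ∈ h.res.grp (base M) := by
  intro i
  induction i with
  | zero => simp
  | succ i ih =>
    rw [show c ^ (i + 1) * t * (c ^ (i + 1))⁻¹ * t⁻¹ =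
      c * (c ^ i * t * (c ^ i)⁻¹ * t⁻¹) * c⁻¹ * (c * t * c⁻¹ * t⁻¹) by rw [pow_succ']; group]
    exact mul_mem (h.res.grp_conj hc.smul ih) (hc.centW t ht (hTp ht))

include hS hloc hY hbig hTp hsq in
/-- **An involution of `S` outside the block makes `S / E` elementary.** -/
theorem sq_mem_of_outside {c : G} (hc : h.Tor x T S c)
    (hnormT : ∀ g ∈ S, ∀ t ∈ T, g * t * g⁻¹ * t ∈ h.res.grp (base M))
    (hsqP : ∀ g ∈ S, Commute x g → g * g ∈ h.res.grp (base M))
    {g : G} (hg : g ∈ S) (hgg : g * g = 1) (hgn : g ∉ block h T) :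
    ∀ u ∈ S, u * u ∈ h.res.grp (base M) := by
  classical
  set E := h.res.grp (base M) with hE
  have hgi : g⁻¹ = g := inv_eq_of_mul_eq_one_right hgg
  have hgU : g ∉ P ⊔ T := fun hh => hgn (h.mem_block_of_invol hS hloc hY hbig hTp hsq hh hgg)
  have hUsq : ∀ u ∈ P ⊔ T, u * u ∈ E := fun u hu => hsqP u (hY.sup_le hu) (hY.sup_comm' hu)
  have hEU : E ≤ P ⊔ T := fun e he =>
    mem_sup_left (hY.reg.line_le (by rwa [h.lineGrp_eq hY.frame.bad hY.frame.fix_base]))
  have hBc : ∀ u ∈ P ⊔ T, ∀ b ∈ block h T, Commute u b := by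
    intro u hu b hb
    obtain ⟨e, he, t, ht, rfl⟩ := (h.mem_block hY).1 hb
    exact (hY.centE u (hY.sup_le hu) e he).mul_right (h.commute_sup hS hloc hY hbig hTp hsq hu ht)
  have hBsq : ∀ b ∈ block h T, b * b = 1 := by
    intro b hb
    obtain ⟨e, he, t, ht, rfl⟩ := (h.mem_block hY).1 hb
    rw [(hY.centE t (hY.T_le ht) e he).mul_mul_mul_comm, h.res.grp_sq he, hsq t ht, one_mul]
  have hSB : S ≤ normalizer (block h T : Set G) := h.S_le_normalizer hY fun u hu t ht => by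
    rw [inv_eq_of_mul_eq_one_right (hsq t ht)]; exact hnormT u hu t ht
  have hcS := h.c_normalizes hY hc
  have hcB : c ∈ normalizer (block h T : Set G) := mem_normalizer_of_forward fun b hb => by
    obtain ⟨e, he, t, ht, rfl⟩ := (h.mem_block hY).1 hb
    exact (h.mem_block hY).2 ⟨c * e * c⁻¹ * (c * t * c⁻¹ * t⁻¹),
      mul_mem (h.res.grp_conj hc.smul he) (hc.centW t ht (hTp ht)), t, ht, by group⟩
  have hnU : ∀ n : G, n ∈ normalizer (S : Set G) → Commute x n → ∀ v ∈ P ⊔ T, n * v * n⁻¹ ∈ P ⊔ T :=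
    fun n hn hxn v hv => hY.mem_sup_iff.2 ⟨conj_of_normalizer h hn (hY.sup_le hv),
      (hxn.mul_right (hY.sup_comm' hv)).mul_right hxn.inv_right⟩
  have hSU : ∀ u ∈ S, ∀ v ∈ P ⊔ T, u * v * u⁻¹ ∈ P ⊔ T := fun u hu v hv =>
    hY.mem_sup_iff.2 ⟨mul_mem (mul_mem hu (hY.sup_le hv)) (inv_mem hu),
      hY.conj_comm hu (hY.sup_le hv) (hY.sup_comm' hv)⟩
  have hxc : ∀ i : ℕ, Commute x (c ^ i) := fun i => hc.comm.symm.pow_right i
  -- the action on `P T` modulo the block is trivial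
  have htriv : ∀ u ∈ S, ∀ v ∈ P ⊔ T, u * v * u⁻¹ * v⁻¹ ∈ block h T := by
    by_cases hex : ∃ u ∈ S, u * x * u⁻¹ * x ≠ 1 ∧ ∀ v ∈ P ⊔ T, u * v * u⁻¹ * v⁻¹ ∈ block h T
    · obtain ⟨u₀, hu₀, hu₀x, hu₀t⟩ := hex
      intro u hu v hv
      by_cases hux : u * x * u⁻¹ * x = 1
      · exact mem_sup_left (h.comm_mem_grp_of_sq hY hY.sup_le hUsq
          (hY.mem_sup_iff.2 ⟨hu, hY.commute_iff.1 hux⟩) hv)
      obtain ⟨i, hi⟩ := hc.trans _ (hY.coset u₀ hu₀) _ (hY.coset u hu) hu₀x hux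
      set k := c ^ i with hk
      have hkx : k⁻¹ * x * k = x := by rw [mul_assoc, (hxc i).eq, inv_mul_cancel_left]
      set γ := k * u₀ * k⁻¹ with hγ
      have hγS : γ ∈ S := conj_of_normalizer h (pow_mem hcS i) hu₀
      have hγx : γ * x * γ⁻¹ * x = u * x * u⁻¹ * x := by
        calc γ * x * γ⁻¹ * x = k * u₀ * (k⁻¹ * x * k) * u₀⁻¹ * k⁻¹ * x := by rw [hγ]; group
          _ = k * (u₀ * x * u₀⁻¹) * (k⁻¹ * x) := by rw [hkx]; group
          _ = _ := by rw [← hi, ← (show Commute x k from hxc i).inv_right.eq]; group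
      have hπ := h.mem_sup_of_translate_eq hY hγS hu hγx
      set π := γ⁻¹ * u
      set v' := π * v * π⁻¹
      have hv' : v' ∈ P ⊔ T := mul_mem (mul_mem hπ hv) (inv_mem hπ)
      have h2 := hu₀t _ (hnU k⁻¹ (inv_mem (pow_mem hcS i)) (hxc i).inv_right v' hv')
      have h3 : γ * v' * γ⁻¹ * v'⁻¹ ∈ block h T := by
        have h4 := (mem_normalizer_iff.1 (pow_mem hcB i) _).1 h2
        rwa [show k * (u₀ * (k⁻¹ * v' * k⁻¹⁻¹) * u₀⁻¹ * (k⁻¹ * v' * k⁻¹⁻¹)⁻¹) * k⁻¹ = γ * v' * γ⁻¹ * v'⁻¹ by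
          rw [hγ]; group] at h4
      have h5 : π * v * π⁻¹ * v⁻¹ ∈ block h T := mem_sup_left (h.comm_mem_grp_of_sq hY hY.sup_le hUsq hπ hv)
      rw [show u * v * u⁻¹ * v⁻¹ = γ * v' * γ⁻¹ * v'⁻¹ * (π * v * π⁻¹ * v⁻¹) by simp only [π, v']; group]
      exact mul_mem h3 h5
    exfalso
    push Not at hex
    set U : Subgroup G := P ⊔ T with hUdef
    set B : Subgroup U := (block h T).subgroupOf U with hBdef
    haveI : B.Normal := ⟨fun b hb v => by
      rw [show v * b * v⁻¹ = b from Subtype.ext (by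
        show (v : G) * b * (v : G)⁻¹ = b
        rw [(hBc v v.2 b hb).eq, mul_inv_cancel_right])]
      exact hb⟩
    have hwd : ∀ v w : U, (v : U ⧸ B) = w → (v : G) * v = w * w := by
      intro v w e
      have h1 : ((v⁻¹ * w : U) : G) ∈ block h T := mem_subgroupOf.1 (QuotientGroup.eq.1 e)
      simp only [Subgroup.coe_mul, InvMemClass.coe_inv] at h1
      calc (v : G) * v = v * v * ((v : G)⁻¹ * w * ((v : G)⁻¹ * w)) := by rw [hBsq _ h1, mul_one]
        _ = v * ((v : G)⁻¹ * w) * (v * ((v : G)⁻¹ * w)) := by rw [(hBc v v.2 _ h1).symm.mul_mul_mul_comm]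
        _ = w * w := by rw [mul_inv_cancel_left]
    let f : U ⧸ B → E := fun q => ⟨(q.out : G) * q.out, hUsq _ q.out.2⟩
    have hf : ∀ v : U, (f v : G) = (v : G) * v := fun v => hwd _ _ (QuotientGroup.out_eq' _)
    have hEc : ∀ p q : E, p * q = q * p := fun p q => Subtype.ext (h.res.grp_commute p.2 q.2).eq
    have hE2 : ∀ p : E, p * p = 1 := fun p => Subtype.ext (h.res.grp_sq p.2)
    have hV : ∀ q : U ⧸ B, q * q = 1 := fun q => by
      induction q using QuotientGroup.induction_on with | _ v => ?_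
      exact (QuotientGroup.eq_one_iff _).2 (mem_subgroupOf.2 (mem_sup_left (hUsq v v.2)))
    have hzero : ∀ q, f q = 1 → q = 1 := fun q => by
      induction q using QuotientGroup.induction_on with | _ v => ?_
      intro e
      refine (QuotientGroup.eq_one_iff _).2 (mem_subgroupOf.2 ?_)
      exact h.mem_block_of_invol hS hloc hY hbig hTp hsq v.2 ((hf v).symm.trans (congrArg Subtype.val e))
    let cm : U → U → E := fun v w =>
      ⟨(w : G)⁻¹ * v⁻¹ * w * v, by simpa using h.comm_mem_grp_of_sq hY hY.sup_le hUsq (inv_mem w.2) (inv_mem v.2)⟩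
    have hdef : ∀ v w : U, Shape.defect f (v : U ⧸ B) w = cm v w := by
      intro v w
      refine Subtype.ext ?_
      show (f ((v * w : U) : U ⧸ B) : G) * (f (v : U ⧸ B) : G) * (f (w : U ⧸ B) : G) = _
      rw [hf, hf, hf]
      show (v : G) * w * ((v : G) * w) * (v * v) * (w * w) = (w : G)⁻¹ * (v : G)⁻¹ * w * v
      have e1 : ((v : G) * w * ((v : G) * w))⁻¹ = (v : G) * w * ((v : G) * w) :=
        h.grp_inv (hUsq _ (mul_mem v.2 w.2))
      have e2 : Commute (v : G) ((w : G) * w) := hY.centE v (hY.sup_le v.2) _ (hUsq _ w.2)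
      calc (v : G) * w * ((v : G) * w) * (v * v) * (w * w)
          = ((v : G) * w * ((v : G) * w))⁻¹ * (v * v) * (w * w) := by rw [e1]
        _ = (w : G)⁻¹ * (v : G)⁻¹ * (w : G)⁻¹ * ((v : G) * (w * w)) := by group
        _ = (w : G)⁻¹ * (v : G)⁻¹ * (w : G)⁻¹ * ((w : G) * w * v) := by rw [e2.eq]
        _ = (w : G)⁻¹ * (v : G)⁻¹ * w * v := by group
    have hB3 : ∀ p q r, Shape.defect f (p * q) r = Shape.defect f p r * Shape.defect f q r := fun p q r => by
      induction p using QuotientGroup.induction_on with | _ v => ?_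
      induction q using QuotientGroup.induction_on with | _ v' => ?_
      induction r using QuotientGroup.induction_on with | _ w => ?_
      rw [← QuotientGroup.mk_mul, hdef, hdef, hdef]
      refine Subtype.ext ?_
      show (w : G)⁻¹ * ((v : G) * v')⁻¹ * w * (v * v') = (w : G)⁻¹ * (v : G)⁻¹ * w * v * (((w : G)⁻¹ * (v' : G)⁻¹ * w * v'))
      have h1 : Commute (v' : G) ((w : G)⁻¹ * (v : G)⁻¹ * w * v) := hY.centE _ (hY.sup_le v'.2) _ (cm v w).2
      calc (w : G)⁻¹ * ((v : G) * v')⁻¹ * w * (v * v')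
          = (w : G)⁻¹ * (v' : G)⁻¹ * w * ((w : G)⁻¹ * (v : G)⁻¹ * w * v * v') := by group
        _ = (w : G)⁻¹ * (v' : G)⁻¹ * w * v' * ((w : G)⁻¹ * (v : G)⁻¹ * w * v) := by rw [← h1.eq]; group
        _ = _ := (h.res.grp_commute (cm v' w).2 (cm v w).2).eq
    have hq4 : 4 ≤ Nat.card E := by
      obtain ⟨β, hβ2, hβ⟩ := h.exists_deg_pow
      rw [hE, h.res.card_grp, hβ]
      exact le_trans (by norm_num) (Nat.pow_le_pow_right two_pos hβ2)
    have hle : Nat.card (U ⧸ B) ≤ Nat.card E ^ 2 := by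
      have hcardB : Nat.card E * Nat.card T ≤ Nat.card B := by
        rw [← Nat.card_prod]
        refine Nat.card_le_card_of_injective (fun r : E × T => (⟨⟨r.1 * r.2, mul_mem (hEU r.1.2) (mem_sup_right r.2.2)⟩,
          mem_subgroupOf.2 (mul_mem (mem_sup_left r.1.2) (mem_sup_right r.2.2))⟩ : B)) fun r r' e => ?_
        have e1 : (r.1 : G) * r.2 = r'.1 * r'.2 := congrArg (fun b : B => ((b : U) : G)) e
        have e2 : (r'.1 : G)⁻¹ * r.1 = r'.2 * (r.2 : G)⁻¹ := by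
          rw [eq_mul_inv_iff_mul_eq, mul_assoc, e1, inv_mul_cancel_left]
        have e3 : (r'.1 : G)⁻¹ * r.1 = 1 := h.eq_one_of_grp_fix (mul_mem (inv_mem r'.1.2) r.1.2) hY.frame.ne
          (by rw [e2]; exact (hY.frame.fix_T _ (mul_mem r'.2.2 (inv_mem r.2.2))).2)
        have e4 : r.1 = r'.1 := Subtype.ext (inv_mul_eq_one.1 e3).symm
        exact Prod.ext e4 (Subtype.ext (mul_left_cancel (a := (r.1 : G)) (by rw [e1, e4])))
      have h1 := B.index_mul_card
      have h2 : Nat.card U ≤ (fix M x - 1) * Nat.card T :=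
        hY.card_le_cent hY.frame.bad hY.frame.fix_base hY.sup_le fun v hv => hY.sup_comm' hv
      have h3 : fix M x - 1 ≤ Nat.card E ^ 3 := by
        rw [hE, h.res.card_grp]
        rcases hbig with e | e <;> rw [e, Nat.add_sub_cancel]
        exact Nat.pow_le_pow_right (Nat.succ_pos _) (by norm_num)
      rw [← index_eq_card]
      refine Nat.le_of_mul_le_mul_right (c := Nat.card E * Nat.card T) ?_ (Nat.mul_pos Nat.card_pos Nat.card_pos)
      calc B.index * (Nat.card E * Nat.card T) ≤ B.index * Nat.card B := Nat.mul_le_mul_left _ hcardB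
        _ ≤ (fix M x - 1) * Nat.card T := h1.trans_le h2
        _ ≤ Nat.card E ^ 3 * Nat.card T := Nat.mul_le_mul_right _ h3
        _ = _ := by ring
    -- the automorphisms
    have hauto : ∀ n : G, (∀ v ∈ U, n * v * n⁻¹ ∈ U) → n ∈ normalizer (block h T : Set G) →
        ∃ σ : U ⧸ B ≃* U ⧸ B, ∀ (v : U) (hv : n * v * n⁻¹ ∈ U), σ v = ((⟨n * v * n⁻¹, hv⟩ : U) : U ⧸ B) := by
      intro n hn hnB
      obtain ⟨σ, hσ⟩ := exists_conjQuot B n hn fun v hv => mem_subgroupOf.2 ((mem_normalizer_iff.1 hnB v).1 hv)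
      exact ⟨σ, fun v hv => hσ v⟩
    choose σ hσ using fun u : S => hauto u (hSU u u.2) (hSB u.2)
    let ρ : S →* MulAut (U ⧸ B) := MonoidHom.mk' σ fun u u' => MulEquiv.ext fun q => by
      induction q using QuotientGroup.induction_on with | _ v => ?_
      show σ (u * u') v = σ u (σ u' v)
      rw [hσ (u * u') v (hSU _ (u * u').2 v v.2), hσ u' v (hSU _ u'.2 v v.2),
        hσ u _ (hSU _ u.2 _ (hSU _ u'.2 v v.2))]
      refine congrArg _ (Subtype.ext ?_)
      show ((u : G) * u') * v * ((u : G) * u')⁻¹ = u * (u' * v * (u' : G)⁻¹) * (u : G)⁻¹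
      group
    have hρ1 : ∀ u : S, (u : G) * x * (u : G)⁻¹ * x ≠ 1 → ρ u ≠ 1 := by
      intro u hux e
      obtain ⟨v, hv, hvn⟩ := hex u u.2 hux
      refine hvn ?_
      have h1 : σ u (⟨v, hv⟩ : U) = ((⟨v, hv⟩ : U) : U ⧸ B) := DFunLike.congr_fun e _
      rw [hσ u _ (hSU _ u.2 v hv)] at h1
      have h3 : ((u : G) * v * (u : G)⁻¹)⁻¹ * v ∈ block h T := mem_subgroupOf.1 (QuotientGroup.eq.1 h1)
      have h4 := (mem_normalizer_iff.1 (hSB (hY.sup_le hv)) _).1 (inv_mem h3)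
      rwa [show v * (((u : G) * v * (u : G)⁻¹)⁻¹ * v)⁻¹ * v⁻¹ = u * v * (u : G)⁻¹ * v⁻¹ by group] at h4
    obtain ⟨e₁, he₁, he₁1, g₁, hg₁, hg₁e⟩ := h.exists_translate_ne hS hloc hY
    obtain ⟨e₂, he₂, he₂1, he₂e⟩ := h.exists_other e₁
    obtain ⟨g₂, hg₂, hg₂e⟩ := hY.surj e₂ he₂
    have t1 : g₁ * x * g₁⁻¹ * x = e₁ := by rw [hg₁e, mul_assoc, invol_mul_self hY.frame.bad.invol, mul_one]
    have t2 : g₂ * x * g₂⁻¹ * x = e₂ := by rw [hg₂e, mul_assoc, invol_mul_self hY.frame.bad.invol, mul_one]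
    refine Shape.no_two_in_image (ρ := ρ) (f := f) hV hE2 hq4 hle hzero hB3 hY.two ?_ ?_
      (g₁ := ⟨g₁, hg₁⟩) (g₂ := ⟨g₂, hg₂⟩) (hρ1 _ (t1 ▸ he₁1)) (hρ1 _ (t2 ▸ he₂1)) (hρ1 _ ?_)
    · intro u q
      induction q using QuotientGroup.induction_on with | _ v => ?_
      show f (σ u v) = f v
      rw [hσ u v (hSU _ u.2 v v.2)]
      refine Subtype.ext ?_
      rw [hf, hf]
      show (u : G) * v * (u : G)⁻¹ * ((u : G) * v * (u : G)⁻¹) = _
      rw [show (u : G) * v * (u : G)⁻¹ * ((u : G) * v * (u : G)⁻¹) = u * ((v : G) * v) * (u : G)⁻¹ by group,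
        (hY.centE u u.2 _ (hUsq _ v.2)).eq, mul_inv_cancel_right]
    · intro p q hp hq
      obtain ⟨i, hi⟩ := hc.trans p p.2 q q.2 (fun e => hp (Subtype.ext e)) fun e => hq (Subtype.ext e)
      set k := c ^ i with hk
      have hkU := hnU k (pow_mem hcS i) (hxc i)
      obtain ⟨τ, hτ⟩ := hauto k hkU (pow_mem hcB i)
      have hkp : k • base M = base M := by
        show k ∈ MulAction.stabilizer G (base M); exact pow_mem hc.smul i
      let τE : E ≃* E := conjSub E k fun e he => h.res.grp_conj hkp he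
      refine ⟨τ, τE, fun q => ?_, Subtype.ext hi, ?_, ?_⟩
      · induction q using QuotientGroup.induction_on with | _ v => ?_
        rw [hτ v (hkU v v.2)]
        refine Subtype.ext ?_
        rw [hf, conjSub_apply, hf]
        show k * v * k⁻¹ * (k * v * k⁻¹) = _
        group
      all_goals intro u
      · refine ⟨⟨k⁻¹ * u * k⁻¹⁻¹, conj_of_normalizer h (inv_mem (pow_mem hcS i)) u.2⟩, fun q => ?_⟩
        induction q using QuotientGroup.induction_on with | _ v => ?_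
        show σ u (τ v) = τ (σ _ v)
        rw [hτ v (hkU v v.2), hσ u _ (hSU _ u.2 _ (hkU v v.2)), hσ _ v (hSU _ (Subtype.prop _) v v.2),
          hτ _ (hkU _ (Subtype.prop _))]
        refine congrArg _ (Subtype.ext ?_)
        show (u : G) * (k * v * k⁻¹) * (u : G)⁻¹ = k * (k⁻¹ * u * k⁻¹⁻¹ * v * (k⁻¹ * u * k⁻¹⁻¹)⁻¹) * k⁻¹
        group
      · refine ⟨⟨k * u * k⁻¹, conj_of_normalizer h (pow_mem hcS i) u.2⟩, fun q => ?_⟩
        induction q using QuotientGroup.induction_on with | _ v => ?_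
        show σ _ (τ v) = τ (σ u v)
        rw [hτ v (hkU v v.2), hσ _ _ (hSU _ (Subtype.prop _) _ (hkU v v.2)), hσ u v (hSU _ u.2 v v.2),
          hτ _ (hkU _ (Subtype.prop _))]
        refine congrArg _ (Subtype.ext ?_)
        show k * u * k⁻¹ * (k * v * k⁻¹) * (k * u * k⁻¹)⁻¹ = k * ((u : G) * v * (u : G)⁻¹) * k⁻¹
        group
    · show g₁ * g₂ * x * (g₁ * g₂)⁻¹ * x ≠ 1
      rw [hY.translate_mul hg₁ hg₂, t1, t2]
      exact fun e => he₂e (by rw [eq_inv_of_mul_eq_one_left e, h.grp_inv he₂])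
  -- so `g` centralizes `P T` modulo `E`
  have hgE : ∀ v ∈ P ⊔ T, g * v * g * v⁻¹ ∈ E := by
    intro v hv
    have h1 := htriv g hg v hv
    rw [hgi] at h1
    obtain ⟨e, he, t, ht, het⟩ := (h.mem_block hY).1 h1
    have hb := hBsq _ h1
    have h2 : Commute g (g * v * g * v⁻¹) := by
      have e1 : (g * v * g * v⁻¹)⁻¹ = g * v * g * v⁻¹ := inv_eq_of_mul_eq_one_right hb
      show g * (g * v * g * v⁻¹) = g * v * g * v⁻¹ * g
      conv_rhs => rw [← e1]
      rw [show (g * v * g * v⁻¹)⁻¹ * g = v * g⁻¹ * v⁻¹ by group, hgi,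
        show g * (g * v * g * v⁻¹) = g * g * (v * g * v⁻¹) by group, hgg, one_mul]
    have h3 : Commute g t := by
      have h4 := (hY.centE g hg e he).inv_right.mul_right (het ▸ h2)
      rwa [inv_mul_cancel_left] at h4
    have ht1 : t = 1 := by
      by_contra ht1
      exact hgU (h.mem_sup_of_commute hS hloc hY hbig hTp hsq hg ht ht1 h3)
    rw [het, ht1, mul_one]
    exact he
  intro u hu
  by_cases hux : u * x * u⁻¹ * x = 1
  · exact hUsq u (hY.mem_sup_iff.2 ⟨hu, hY.commute_iff.1 hux⟩)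
  have hgx : g * x * g⁻¹ * x ≠ 1 := fun e => hgU (hY.mem_sup_iff.2 ⟨hg, hY.commute_iff.1 e⟩)
  obtain ⟨i, hi⟩ := hc.trans _ (hY.coset g hg) _ (hY.coset u hu) hgx hux
  set k := c ^ i with hk
  have hkp : k • base M = base M := by
    show k ∈ MulAction.stabilizer G (base M); exact pow_mem hc.smul i
  have hkx : k⁻¹ * x * k = x := by rw [mul_assoc, (hxc i).eq, inv_mul_cancel_left]
  set γ := k * g * k⁻¹ with hγ
  have hγS : γ ∈ S := conj_of_normalizer h (pow_mem hcS i) hg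
  have hγx : γ * x * γ⁻¹ * x = u * x * u⁻¹ * x := by
    calc γ * x * γ⁻¹ * x = k * g * (k⁻¹ * x * k) * g⁻¹ * k⁻¹ * x := by rw [hγ]; group
      _ = k * (g * x * g⁻¹) * (k⁻¹ * x) := by rw [hkx]; group
      _ = _ := by rw [← hi, ← (show Commute x k from hxc i).inv_right.eq]; group
  have hπ := h.mem_sup_of_translate_eq hY hγS hu hγx
  set π := γ⁻¹ * u with hπdef
  have h1 : γ * π * γ * π⁻¹ ∈ E := by
    have h2 := h.res.grp_conj hkp (hgE _ (hnU k⁻¹ (inv_mem (pow_mem hcS i)) (hxc i).inv_right π hπ))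
    rwa [show k * (g * (k⁻¹ * π * k⁻¹⁻¹) * g * (k⁻¹ * π * k⁻¹⁻¹)⁻¹) * k⁻¹ = γ * π * γ * π⁻¹ by
      rw [hγ]; group] at h2
  rw [show u * u = γ * π * γ * π⁻¹ * (π * π) by rw [hπdef]; group]
  exact mul_mem h1 (hUsq π hπ)

include hS hloc hY hbig hTp hsq in
/-- The translation of `u` determines the commutator of `u` with a member of `T`. -/
theorem exists_translate_fun {t : G} (ht : t ∈ T) :
    ∃ ν : G → G, ∀ u ∈ S, u * t * u⁻¹ * t⁻¹ = ν (u * x * u⁻¹ * x) := by
  classical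
  choose τ hτS hτx using hY.surj
  refine ⟨fun e => if he : e ∈ h.res.grp (base M) then τ e he * t * (τ e he)⁻¹ * t⁻¹ else 1, fun u hu => ?_⟩
  simp only [dif_pos (hY.coset u hu)]
  rw [h.translate_congr hS hloc hY hbig hTp hsq hu (hτS _ _) ht ?_]
  rw [hτx _ (hY.coset u hu), mul_assoc _ x x, invol_mul_self hY.frame.bad.invol, mul_one]

include hS hloc hY hbig hTp hsq in
/-- Only the members commute with all of `S`. -/
theorem mem_grp_of_central {d : G} (hd : d ∈ S) (hdc : ∀ u ∈ S, Commute u d) : d ∈ h.res.grp (base M) := by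
  have hxd : Commute x d := hdc x (hY.T_le hY.frame.self)
  obtain ⟨v, hv, t, ht, rfl⟩ := hY.decomp d hd hxd
  obtain ⟨e, he, hek⟩ := hY.reg.center v hv fun w hw => by
    have h1 : Commute w v := (commute_mul_right_iff_left (h.commute_sup hS hloc hY hbig hTp hsq
      (mem_sup_left hw) ht)).1 (hdc w (hY.reg_le hw))
    rw [← h1.eq, mul_inv_cancel_right, mul_inv_cancel]
    exact one_mem _
  rw [h.lineGrp_eq hY.frame.bad hY.frame.fix_base] at he
  have h2 : e * v ∈ T := (h.regKer_le hS hloc hY (mul_mem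
    (hY.reg.line_le (by rwa [h.lineGrp_eq hY.frame.bad hY.frame.fix_base])) hv) hek).1
  have hd' : v * t = e * (e * v * t) := by rw [← mul_assoc, ← mul_assoc, h.res.grp_sq he, one_mul]
  have h3 : e * v * t = 1 := by
    by_contra ht1
    obtain ⟨f, hf, hf1, g, hg, hgf⟩ := h.exists_translate_ne hS hloc hY
    have hc : Commute g (e * v * t) := by
      have h4 := (hY.centE g hg e he).mul_right (hdc g hg)
      rwa [← mul_assoc] at h4
    have h5 := h.mem_sup_of_commute hS hloc hY hbig hTp hsq hg (mul_mem h2 ht) ht1 hc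
    refine hf1 (mul_right_cancel (b := x) ?_)
    rw [one_mul, ← hgf, ← (hY.sup_comm' h5).eq, mul_inv_cancel_right]
  rw [hd', h3, mul_one]
  exact he

include hS hloc hY hbig hTp hsq in
/-- **The normalizer of `S` keeps the coset of `x` in the block.** -/
theorem conj_mem_block_of_normalize {c : G} (hc : h.Tor x T S c)
    (hsqP : ∀ g ∈ S, Commute x g → g * g ∈ h.res.grp (base M))
    (hall : ∀ u ∈ S, u * u ∈ h.res.grp (base M))
    {n : G} (hnp : n • base M = base M) (hn : n ∈ normalizer (S : Set G)) :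
    n * x * n⁻¹ ∈ block h T := by
  classical
  haveI : Fact (Nat.Prime 2) := ⟨Nat.prime_two⟩
  set E := h.res.grp (base M) with hE
  set E' : Subgroup S := E.subgroupOf S with hE'
  haveI : E'.Normal := ⟨fun e he u => by
    rw [show u * e * u⁻¹ = e from Subtype.ext (by
      show (u : G) * e * (u : G)⁻¹ = e
      rw [(hY.centE u u.2 _ (mem_subgroupOf.1 he)).eq, mul_inv_cancel_right])]
    exact he⟩
  set N₀ : Subgroup G := normalizer (S : Set G) ⊓ MulAction.stabilizer G (base M) with hN₀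
  have hnS : ∀ n : N₀, ∀ u ∈ S, (n : G) * u * (n : G)⁻¹ ∈ S := fun n u hu => conj_of_normalizer h n.2.1 hu
  have hnp' : ∀ n : N₀, (n : G) • base M = base M := fun n => n.2.2
  have hnE : ∀ n : N₀, ∀ e ∈ E, (n : G) * e * (n : G)⁻¹ ∈ E := fun n e he => h.res.grp_conj (hnp' n) he
  have hSN : S ≤ N₀ := fun u hu => ⟨Subgroup.le_normalizer hu, hY.smul u hu⟩
  set S' : Subgroup N₀ := S.subgroupOf N₀ with hS'
  haveI : S'.Normal := ⟨fun u hu n => mem_subgroupOf.2 (hnS n _ (mem_subgroupOf.1 hu))⟩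
  -- the group of the normalizer has odd order
  have hNodd : Odd (Nat.card (N₀ ⧸ S')) := by
    rw [← index_eq_card, Nat.odd_iff, ← Nat.two_dvd_ne_zero]
    obtain ⟨Q, hQ⟩ := (hY.two.of_equiv (subgroupOfEquivOfLe hSN).symm).exists_le_sylow
    have h1 := hY.max ((Q : Subgroup N₀).map N₀.subtype) (Q.isPGroup'.map _) (by
      rintro _ ⟨q, -, rfl⟩; exact hnp' q)
    rw [card_map_of_injective N₀.subtype_injective] at h1
    have h2 : S' = (Q : Subgroup N₀) := eq_of_le_of_card_ge hQ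
      (h1.trans (le_of_eq (Nat.card_congr (subgroupOfEquivOfLe hSN).toEquiv).symm))
    haveI : (Q : Subgroup N₀).Normal := h2 ▸ inferInstance
    rw [h2]
    exact Q.not_dvd_index
  have hNsol : Group.IsSolvable (N₀ ⧸ S') := Cfsg.Agent.S0205.result hNodd
  -- the two actions
  have hσE : ∀ n : N₀, ∀ v ∈ E', conjSub S n (hnS n) v ∈ E' := fun n v hv =>
    mem_subgroupOf.2 (hnE n _ (mem_subgroupOf.1 hv))
  choose σ hσ using fun n : N₀ => exists_conjQuot E' (n : G) (hnS n) (hσE n)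
  let σh : N₀ →* MulAut (S ⧸ E') := MonoidHom.mk' σ fun n k => MulEquiv.ext fun q => by
    induction q using QuotientGroup.induction_on with | _ v => ?_
    show σ (n * k) v = σ n (σ k v)
    rw [hσ, hσ, hσ]
    refine congrArg _ (Subtype.ext ?_)
    show ((n : G) * k) * v * ((n : G) * k)⁻¹ = n * (k * v * (k : G)⁻¹) * (n : G)⁻¹
    group
  let τh : N₀ →* MulAut E := MonoidHom.mk' (fun n => conjSub E n (hnE n)) fun n k => MulEquiv.ext fun e =>
    Subtype.ext (by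
      show ((n : G) * k) * e * ((n : G) * k)⁻¹ = n * (k * e * (k : G)⁻¹) * (n : G)⁻¹
      group)
  have hτv : ∀ (n : N₀) (e : E), (τh n e : G) = n * e * (n : G)⁻¹ := fun n e => rfl
  have hσker : S' ≤ σh.ker := fun u hu => MonoidHom.mem_ker.2 (MulEquiv.ext fun q => by
    induction q using QuotientGroup.induction_on with | _ v => ?_
    show σ u v = (v : S ⧸ E')
    rw [hσ]
    refine QuotientGroup.eq.2 (mem_subgroupOf.2 ?_)
    show ((u : G) * v * (u : G)⁻¹)⁻¹ * v ∈ E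
    have h1 := h.res.grp_conj (inv_smul_eq_iff.2 (hY.smul _ v.2).symm)
      (inv_mem (h.comm_mem_grp_of_sq hY le_rfl hall (mem_subgroupOf.1 hu) v.2))
    rwa [show (v : G)⁻¹ * ((u : G) * v * (u : G)⁻¹ * (v : G)⁻¹)⁻¹ * (v : G)⁻¹⁻¹ =
      ((u : G) * v * (u : G)⁻¹)⁻¹ * v by group] at h1)
  have hτker : S' ≤ τh.ker := fun u hu => MonoidHom.mem_ker.2 (MulEquiv.ext fun e => Subtype.ext (by
    show (u : G) * e * (u : G)⁻¹ = e
    rw [(hY.centE _ (mem_subgroupOf.1 hu) _ e.2).eq, mul_inv_cancel_right]))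
  let σN : N₀ ⧸ S' →* MulAut (S ⧸ E') := QuotientGroup.lift S' σh hσker
  let τN : N₀ ⧸ S' →* MulAut E := QuotientGroup.lift S' τh hτker
  -- the modules
  letI : CommGroup (S ⧸ E') := { (inferInstance : Group (S ⧸ E')) with
    mul_comm := fun p q => by
      induction p using QuotientGroup.induction_on with | _ u => ?_
      induction q using QuotientGroup.induction_on with | _ v => ?_
      rw [← QuotientGroup.mk_mul, ← QuotientGroup.mk_mul, QuotientGroup.eq]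
      refine mem_subgroupOf.2 ?_
      show ((u : G) * v)⁻¹ * ((v : G) * u) ∈ E
      have h1 := h.comm_mem_grp_of_sq hY le_rfl hall (inv_mem v.2) (inv_mem u.2)
      simpa [mul_assoc] using h1 }
  letI : CommGroup E := { (inferInstance : Group E) with
    mul_comm := fun p q => Subtype.ext (h.res.grp_commute p.2 q.2).eq }
  letI : Module (ZMod 2) (Additive (S ⧸ E')) := AddCommGroup.zmodModule fun v => by
    rw [two_nsmul]
    refine congrArg Additive.ofMul (?_ : v.toMul * v.toMul = 1)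
    generalize v.toMul = q
    induction q using QuotientGroup.induction_on with | _ u => ?_
    exact (QuotientGroup.eq_one_iff _).2 (mem_subgroupOf.2 (hall u u.2))
  letI : Module (ZMod 2) (Additive E) := AddCommGroup.zmodModule fun v => by
    rw [two_nsmul]
    exact congrArg Additive.ofMul (Subtype.ext (h.res.grp_sq v.toMul.2))
  haveI : Finite (Additive (S ⧸ E')) := inferInstanceAs (Finite (S ⧸ E'))
  haveI : Finite (Additive E) := inferInstanceAs (Finite E)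
  let ρ : N₀ ⧸ S' →* (Additive (S ⧸ E') ≃ₗ[ZMod 2] Additive (S ⧸ E')) :=
    { toFun := fun n => (MulEquiv.toAdditive (σN n)).toLinearEquiv fun r v =>
        ZMod.map_smul (MulEquiv.toAdditive (σN n)).toAddMonoidHom r v
      map_one' := LinearEquiv.ext fun v => by
        show Additive.ofMul (σN 1 v.toMul) = v
        rw [map_one]; rfl
      map_mul' := fun n k => LinearEquiv.ext fun v => by
        show Additive.ofMul (σN (n * k) v.toMul) = Additive.ofMul (σN n (σN k v.toMul))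
        rw [map_mul]; rfl }
  let η : N₀ ⧸ S' →* (Additive E ≃ₗ[ZMod 2] Additive E) :=
    { toFun := fun n => (MulEquiv.toAdditive (τN n)).toLinearEquiv fun r v =>
        ZMod.map_smul (MulEquiv.toAdditive (τN n)).toAddMonoidHom r v
      map_one' := LinearEquiv.ext fun v => by
        show Additive.ofMul (τN 1 v.toMul) = v
        rw [map_one]; rfl
      map_mul' := fun n k => LinearEquiv.ext fun v => by
        show Additive.ofMul (τN (n * k) v.toMul) = Additive.ofMul (τN n (τN k v.toMul))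
        rw [map_mul]; rfl }
  let vv : S → Additive (S ⧸ E') := fun u => Additive.ofMul (u : S ⧸ E')
  have hvv : Function.Surjective vv := fun v => by
    obtain ⟨u, hu⟩ := QuotientGroup.mk_surjective v.toMul
    exact ⟨u, congrArg Additive.ofMul hu⟩
  have hρ : ∀ (n : N₀) (u : S), ρ n (vv u) = vv (conjSub S n (hnS n) u) := fun n u =>
    congrArg Additive.ofMul (hσ n u)
  have hη : ∀ (n : N₀) (e : E), η n (Additive.ofMul e) = Additive.ofMul (conjSub E n (hnE n) e) := fun n e => rfl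
  -- the commutator
  let br : S → S → E := fun u v => ⟨_, h.comm_mem_grp_of_sq hY le_rfl hall u.2 v.2⟩
  have hbrl : ∀ u v w : S, br (u * v) w = br u w * br v w := fun u v w => by
    refine Subtype.ext ?_
    show (u : G) * v * w * ((u : G) * v)⁻¹ * (w : G)⁻¹ = u * w * (u : G)⁻¹ * (w : G)⁻¹ * (br v w : G)
    calc (u : G) * v * w * ((u : G) * v)⁻¹ * (w : G)⁻¹ = u * (br v w : G) * (w * (u : G)⁻¹ * (w : G)⁻¹) := by
          show _ = (u : G) * (v * w * (v : G)⁻¹ * (w : G)⁻¹) * _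
          group
      _ = (br v w : G) * (u * w * (u : G)⁻¹ * (w : G)⁻¹) := by rw [(hY.centE u u.2 _ (br v w).2).eq]; group
      _ = _ := (h.res.grp_commute (br v w).2 (br u w).2).eq
  have hbrs : ∀ u v : S, br u v = br v u := fun u v => by
    refine Subtype.ext ((h.grp_inv (br u v).2).symm.trans ?_)
    show ((u : G) * v * (u : G)⁻¹ * (v : G)⁻¹)⁻¹ = v * u * (v : G)⁻¹ * (u : G)⁻¹
    group
  have hbr1 : ∀ u e : S, (e : G) ∈ E → br u e = 1 := fun u e he => Subtype.ext (by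
    show (u : G) * e * (u : G)⁻¹ * (e : G)⁻¹ = 1
    rw [(hY.centE u u.2 _ he).eq, mul_inv_cancel_right, mul_inv_cancel])
  have hbrr : ∀ u v w : S, br u (v * w) = br u v * br u w := fun u v w => by
    rw [hbrs, hbrl, hbrs v, hbrs w]
  have hbrq : ∀ u u' v : S, (u : S ⧸ E') = u' → br u v = br u' v := fun u u' v e => by
    have h1 : ((u⁻¹ * u' : S) : G) ∈ E := mem_subgroupOf.1 (QuotientGroup.eq.1 e)
    rw [show u' = u * (u⁻¹ * u') by rw [mul_inv_cancel_left], hbrl, hbrs (u⁻¹ * u') v, hbr1 v _ h1, mul_one]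
  let Bf : Additive (S ⧸ E') → Additive (S ⧸ E') → Additive E := fun p q =>
    Additive.ofMul (br p.toMul.out q.toMul.out)
  have hBf : ∀ u v : S, Bf (vv u) (vv v) = Additive.ofMul (br u v) := fun u v => by
    refine congrArg Additive.ofMul ?_
    show br (u : S ⧸ E').out (v : S ⧸ E').out = br u v
    rw [hbrq _ u _ (QuotientGroup.out_eq' _), hbrs, hbrq _ v _ (QuotientGroup.out_eq' _), hbrs]
  have hvadd : ∀ u v : S, vv u + vv v = vv (u * v) := fun u v => rfl
  have hBl : ∀ p p' q, Bf (p + p') q = Bf p q + Bf p' q := fun p p' q => by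
    obtain ⟨u, rfl⟩ := hvv p; obtain ⟨u', rfl⟩ := hvv p'; obtain ⟨v, rfl⟩ := hvv q
    rw [hvadd, hBf, hBf, hBf, hbrl]; rfl
  have hBr : ∀ p q q', Bf p (q + q') = Bf p q + Bf p q' := fun p q q' => by
    obtain ⟨u, rfl⟩ := hvv p; obtain ⟨v, rfl⟩ := hvv q; obtain ⟨v', rfl⟩ := hvv q'
    rw [hvadd, hBf, hBf, hBf, hbrr]; rfl
  let B : Additive (S ⧸ E') →ₗ[ZMod 2] Additive (S ⧸ E') →ₗ[ZMod 2] Additive E :=
    AddMonoidHom.toZModLinearMap 2 (AddMonoidHom.mk' (fun p =>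
      AddMonoidHom.toZModLinearMap 2 (AddMonoidHom.mk' (Bf p) (hBr p)))
      fun p p' => LinearMap.ext fun q => hBl p p' q)
  have hB : ∀ u v : S, B (vv u) (vv v) = Additive.ofMul (br u v) := hBf
  let xS : S := ⟨x, hY.T_le hY.frame.self⟩
  let Ω : Set (Additive (S ⧸ E')) := Set.range fun k : N₀ ⧸ S' => ρ k (vv xS)
  let cN : N₀ := ⟨c, h.c_normalizes hY hc, hc.smul⟩
  let C : Subgroup (N₀ ⧸ S') := zpowers (cN : N₀ ⧸ S')
  have hCpow : ∀ i : ℕ, ((cN ^ i : N₀) : N₀ ⧸ S') ∈ C := fun i => by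
    rw [QuotientGroup.mk_pow]; exact pow_mem (mem_zpowers _) i
  have hC' : ∀ k ∈ C, ∃ i : ℕ, k = ((cN ^ i : N₀) : N₀ ⧸ S') := fun k hk => by
    obtain ⟨j, hj⟩ := Submonoid.mem_powers_iff _ _ |>.1
      ((isOfFinOrder_of_finite (cN : N₀ ⧸ S')).mem_powers_iff_mem_zpowers.2 hk)
    exact ⟨j, hj.symm.trans (QuotientGroup.mk_pow _ _ _).symm⟩
  have hCE : ∀ e f : Additive E, e ≠ 0 → f ≠ 0 → ∃ k ∈ C, η k e = f := by
    intro e f he hf
    obtain ⟨i, hi⟩ := hc.trans _ e.toMul.2 _ f.toMul.2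
      (fun e1 => he (congrArg Additive.ofMul (Subtype.ext e1 : e.toMul = 1)))
      (fun e1 => hf (congrArg Additive.ofMul (Subtype.ext e1 : f.toMul = 1)))
    refine ⟨_, hCpow i, (hη (cN ^ i) e.toMul).trans (congrArg Additive.ofMul (Subtype.ext ?_))⟩
    show ((cN ^ i : N₀) : G) * _ * ((cN ^ i : N₀) : G)⁻¹ = _
    rw [SubmonoidClass.coe_pow]; exact hi
  obtain ⟨e₁, he₁, he₁1, -⟩ := h.exists_translate_ne hS hloc hY
  obtain ⟨e₂, he₂, he₂1, he₂e⟩ := h.exists_other e₁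
  have hmove : ∃ k ∈ C, η k ≠ 1 := by
    obtain ⟨k, hk, hke⟩ := hCE (Additive.ofMul ⟨e₁, he₁⟩) (Additive.ofMul ⟨e₂, he₂⟩)
      (fun e => he₁1 (congrArg (fun r : Additive E => (r.toMul : G)) e))
      (fun e => he₂1 (congrArg (fun r : Additive E => (r.toMul : G)) e))
    refine ⟨k, hk, fun e => he₂e ?_⟩
    rw [e] at hke
    exact (congrArg (fun r : Additive E => (r.toMul : G)) hke).symm
  have hCcomm : ∀ k ∈ C, ∀ d ∈ C, η k * η d = η d * η k := by
    rintro _ ⟨i, rfl⟩ _ ⟨j, rfl⟩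
    rw [← map_mul, ← map_mul]
    exact congrArg η (by show _ ^ i * _ ^ j = _ ^ j * _ ^ i; rw [← zpow_add, ← zpow_add, add_comm])
  -- the torus is normal on the members
  let R := τN.range
  let C' : Subgroup R := C.map τN.rangeRestrict
  have hR : Pencil.Singer R E C' :=
    { sq := fun e => Subtype.ext (h.res.grp_sq e.2)
      comm := by
        rintro _ ⟨k, hk, rfl⟩ _ ⟨d, hd, rfl⟩
        obtain ⟨i, rfl⟩ := mem_zpowers_iff.1 hk
        obtain ⟨j, rfl⟩ := mem_zpowers_iff.1 hd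
        rw [← map_mul, ← map_mul, ← zpow_add, ← zpow_add, add_comm]
      trans := fun e f he hf => by
        obtain ⟨k, hk, hke⟩ := hCE (Additive.ofMul e) (Additive.ofMul f) he hf
        exact ⟨_, ⟨k, hk, rfl⟩, congrArg Additive.toMul hke⟩
      faith := fun r hr => Subtype.ext (MulEquiv.ext hr) }
  obtain ⟨β, -, hβ⟩ := h.exists_deg_pow
  have hnorm : ∀ k, ∀ d ∈ C, ∃ d' ∈ C, η k * η d * (η k)⁻¹ = η d' := by
    intro k d hd
    obtain ⟨d', hd', e⟩ := hR.normal_of_odd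
      (hNodd.of_dvd_nat (Subgroup.card_range_dvd τN)) (by rw [hE, h.res.card_grp, hβ])
      (τN.rangeRestrict k) _ ⟨d, hd, rfl⟩
    refine ⟨d', hd', LinearEquiv.ext fun v => congrArg Additive.ofMul ?_⟩
    have e1 : τN d' = τN k * τN d * (τN k)⁻¹ := congrArg Subtype.val e
    show τN k (τN d ((MulEquiv.toAdditive (τN k)).symm v).toMul) = τN d' v.toMul
    rw [e1]; rfl
  have hequiv : ∀ k p q, η k (B p q) = B (ρ k p) (ρ k q) := fun k p q => by
    induction k using QuotientGroup.induction_on with | _ k => ?_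
    obtain ⟨u, rfl⟩ := hvv p; obtain ⟨v, rfl⟩ := hvv q
    rw [hρ, hρ, hB, hB, hη]
    refine congrArg Additive.ofMul (Subtype.ext ?_)
    show (k : G) * (u * v * (u : G)⁻¹ * (v : G)⁻¹) * (k : G)⁻¹ =
      (k : G) * u * (k : G)⁻¹ * ((k : G) * v * (k : G)⁻¹) * ((k : G) * u * (k : G)⁻¹)⁻¹ * ((k : G) * v * (k : G)⁻¹)⁻¹
    group
  have halt : ∀ p, B p p = 0 := fun p => by
    obtain ⟨u, rfl⟩ := hvv p
    rw [hB]
    refine congrArg Additive.ofMul (Subtype.ext ?_)
    show (u : G) * u * (u : G)⁻¹ * (u : G)⁻¹ = 1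
    group
  have hΩ : ∀ k, ∀ v ∈ Ω, ρ k v ∈ Ω := by
    rintro k _ ⟨d, rfl⟩
    exact ⟨k * d, by show ρ (k * d) _ = ρ k (ρ d _); rw [map_mul]; rfl⟩
  have htrans : ∀ v ∈ Ω, ∀ w ∈ Ω, ∃ k, ρ k v = w := by
    rintro _ ⟨k, rfl⟩ _ ⟨d, rfl⟩
    refine ⟨d * k⁻¹, ?_⟩
    show ρ (d * k⁻¹) (ρ k (vv xS)) = ρ d (vv xS)
    rw [← LinearEquiv.mul_apply, ← map_mul, inv_mul_cancel_right]
  have hCx : ∀ k ∈ C, ρ k (vv xS) = vv xS := fun k hk => by
    obtain ⟨i, rfl⟩ := hC' k hk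
    rw [hρ]
    refine congrArg vv (Subtype.ext ?_)
    show ((cN ^ i : N₀) : G) * x * ((cN ^ i : N₀) : G)⁻¹ = x
    rw [SubmonoidClass.coe_pow, (hc.comm.pow_left i).eq, mul_inv_cancel_right]
  -- the translation
  have hbrx : ∀ u : S, (br u xS : G) = (u : G) * x * (u : G)⁻¹ * x := fun u => by
    show (u : G) * x * (u : G)⁻¹ * x⁻¹ = _
    rw [invol_inv hY.frame.bad.invol]
  have hsep : ∀ v ∈ Ω, ∀ w ∈ Ω, (∀ p, B p v = B p w) → v = w := by
    intro v _ w _ hh
    obtain ⟨u₁, rfl⟩ := hvv v; obtain ⟨u₂, rfl⟩ := hvv w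
    refine congrArg Additive.ofMul (QuotientGroup.eq.2 (mem_subgroupOf.2 ?_))
    refine h.mem_grp_of_central hS hloc hY hbig hTp hsq (u₁⁻¹ * u₂).2 fun u hu => ?_
    have h1 := hh (vv ⟨u, hu⟩)
    rw [hB, hB] at h1
    have h2 : br ⟨u, hu⟩ (u₁⁻¹ * u₂) = 1 := by
      have h3 := hbrr ⟨u, hu⟩ u₁ (u₁⁻¹ * u₂)
      rw [mul_inv_cancel_left, ← Additive.ofMul.injective h1] at h3
      exact mul_eq_left.1 h3.symm
    exact mul_inv_eq_iff_eq_mul.1 (mul_inv_eq_one.1 (congrArg Subtype.val h2))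
  have hxbad := hY.frame.bad
  have hconjBad : ∀ k : N₀, (k : G) * x * (k : G)⁻¹ ∉ E := fun k hh => by
    have := hnE k⁻¹ _ hh
    rw [InvMemClass.coe_inv, inv_inv, show (k : G)⁻¹ * ((k : G) * x * (k : G)⁻¹) * k = x by group] at this
    exact h.bad_notMem hxbad this
  have hkey : ∀ k : N₀, B (vv xS) (ρ k (vv xS)) = 0 → ∃ d ∈ C, ∀ p, B p (ρ k (vv xS)) = η d (B p (vv xS)) := by
    intro k hk
    rw [hρ, hB] at hk
    set y := conjSub S k (hnS k) xS with hy
    have hxy : Commute x (y : G) := by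
      have h1 := congrArg Subtype.val (Additive.ofMul.injective hk : br xS y = 1)
      exact mul_inv_eq_iff_eq_mul.1 (mul_inv_eq_one.1 h1)
    have hyU : (y : G) ∈ P ⊔ T := hY.mem_sup_iff.2 ⟨y.2, hxy⟩
    have hyy : (y : G) * y = 1 := by
      show (k : G) * x * (k : G)⁻¹ * ((k : G) * x * (k : G)⁻¹) = 1
      rw [show (k : G) * x * (k : G)⁻¹ * ((k : G) * x * (k : G)⁻¹) = k * (x * x) * (k : G)⁻¹ by group,
        invol_mul_self hxbad.invol, mul_one, mul_inv_cancel]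
    obtain ⟨e, he, t, ht, hyet⟩ := (h.mem_block hY).1 (h.mem_block_of_invol hS hloc hY hbig hTp hsq hyU hyy)
    have ht1 : t ≠ 1 := fun e1 => hconjBad k (by
      rw [show (k : G) * x * (k : G)⁻¹ = (y : G) from rfl, hyet, e1, mul_one]; exact he)
    let tS : S := ⟨t, hY.T_le ht⟩
    have hyt : ∀ u : S, br u y = br u tS := fun u => by
      rw [show y = (⟨e, hY.grp_le he⟩ : S) * tS from Subtype.ext hyet, hbrr, hbr1 u _ he, one_mul]
    have hinj : ∀ u : S, br u tS = 1 ↔ br u xS = 1 := fun u => by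
      constructor
      · intro e1
        have h2 : Commute (u : G) t := mul_inv_eq_iff_eq_mul.1 (mul_inv_eq_one.1 (congrArg Subtype.val e1))
        refine Subtype.ext ?_
        rw [hbrx, hY.commute_iff.2 (hY.sup_comm' (h.mem_sup_of_commute hS hloc hY hbig hTp hsq u.2 ht ht1 h2))]; rfl
      · intro e1
        have h2 : (u : G) ∈ P ⊔ T := hY.mem_sup_iff.2 ⟨u.2, hY.commute_iff.1 (by rw [← hbrx, e1]; rfl)⟩
        refine Subtype.ext ?_
        show (u : G) * t * (u : G)⁻¹ * t⁻¹ = 1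
        rw [(h.commute_sup hS hloc hY hbig hTp hsq h2 ht).eq, mul_inv_cancel_right, mul_inv_cancel]
    obtain ⟨g₀, hg₀, hg₀e⟩ := hY.surj e₁ he₁
    let gS : S := ⟨g₀, hg₀⟩
    have hgx : br gS xS = ⟨e₁, he₁⟩ := Subtype.ext (by
      rw [hbrx]; show g₀ * x * g₀⁻¹ * x = e₁
      rw [hg₀e, mul_assoc, invol_mul_self hxbad.invol, mul_one])
    have hgne : br gS xS ≠ 1 := fun e1 => he₁1 (congrArg Subtype.val (hgx.symm.trans e1))
    obtain ⟨i₀, hi₀⟩ := hc.trans _ (br gS xS).2 _ (br gS tS).2 (fun e1 => hgne (Subtype.ext e1))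
      (fun e1 => hgne ((hinj gS).1 (Subtype.ext e1)))
    refine ⟨_, hCpow i₀, fun p => ?_⟩
    obtain ⟨u, rfl⟩ := hvv p
    rw [hρ, hB, hB, hη]
    refine congrArg Additive.ofMul ?_
    show br u y = _
    rw [hyt u]
    refine Subtype.ext ?_
    show (br u tS : G) = ((cN ^ i₀ : N₀) : G) * (br u xS : G) * ((cN ^ i₀ : N₀) : G)⁻¹
    rw [SubmonoidClass.coe_pow]
    show (br u tS : G) = c ^ i₀ * (br u xS : G) * (c ^ i₀)⁻¹
    by_cases hux : br u xS = 1
    · rw [(hinj u).2 hux, hux]; simp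
    obtain ⟨i, hi⟩ := hc.trans _ (br gS xS).2 _ (br u xS).2 (fun e1 => hgne (Subtype.ext e1))
      (fun e1 => hux (Subtype.ext e1))
    set γ := c ^ i * g₀ * (c ^ i)⁻¹ with hγ
    have hγS : γ ∈ S := conj_of_normalizer h (pow_mem (h.c_normalizes hY hc) i) hg₀
    have hkp : c ^ i • base M = base M := by
      show c ^ i ∈ MulAction.stabilizer G (base M); exact pow_mem hc.smul i
    have hcx : (c ^ i)⁻¹ * x * c ^ i = x := by
      rw [mul_assoc, ((hc.comm.pow_left i).symm).eq, inv_mul_cancel_left]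
    have hγx : (u : G) * x * (u : G)⁻¹ * x = γ * x * γ⁻¹ * x := by
      rw [← hbrx, ← hi, hbrx]
      show c ^ i * (g₀ * x * g₀⁻¹ * x) * (c ^ i)⁻¹ = _
      calc c ^ i * (g₀ * x * g₀⁻¹ * x) * (c ^ i)⁻¹ = c ^ i * g₀ * x * g₀⁻¹ * (x * (c ^ i)⁻¹) := by group
        _ = c ^ i * g₀ * ((c ^ i)⁻¹ * x * c ^ i) * g₀⁻¹ * ((c ^ i)⁻¹ * x) := by
            rw [hcx, ((hc.comm.pow_left i).symm).inv_right.eq]
        _ = γ * x * γ⁻¹ * x := by rw [hγ]; group
    have hut : (br u tS : G) = c ^ i * (br gS tS : G) * (c ^ i)⁻¹ := by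
      show (u : G) * t * (u : G)⁻¹ * t⁻¹ = c ^ i * (g₀ * t * g₀⁻¹ * t⁻¹) * (c ^ i)⁻¹
      rw [h.translate_congr hS hloc hY hbig hTp hsq u.2 hγS ht hγx]
      set f := c ^ i * t * (c ^ i)⁻¹ * t⁻¹ with hf
      have hfE : f ∈ E := h.centW_pow hY hTp hc ht i
      have e2 : c ^ i * (g₀ * t * g₀⁻¹ * t⁻¹) * (c ^ i)⁻¹ = γ * (f * t) * γ⁻¹ * (f * t)⁻¹ := by
        rw [hf, hγ]; group
      rw [e2, show γ * (f * t) * γ⁻¹ * (f * t)⁻¹ = γ * f * γ⁻¹ * (γ * t * γ⁻¹ * t⁻¹) * f⁻¹ by group,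
        (hY.centE γ hγS f hfE).eq, mul_inv_cancel_right,
        (h.res.grp_commute hfE (h.comm_mem_grp_of_sq hY le_rfl hall hγS (hY.T_le ht))).eq, mul_inv_cancel_right]
    rw [hut, ← hi, ← hi₀]
    simp only [← mul_assoc, ← pow_add]
    rw [mul_assoc _ (c ^ i₀)⁻¹, ← mul_inv_rev, ← pow_add, mul_assoc _ (c ^ i)⁻¹, ← mul_inv_rev, ← pow_add,
      add_comm i i₀]
  have hblock : ∀ v ∈ Ω, ∀ w ∈ Ω, B v w = 0 → ∃ d ∈ C, ∀ p, B p w = η d (B p v) := by
    rintro _ ⟨k, rfl⟩ _ ⟨k', rfl⟩ hvw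
    obtain ⟨m, hm⟩ := QuotientGroup.mk_surjective (k⁻¹ * k')
    have hk' : ρ k' (vv xS) = ρ k (ρ m (vv xS)) := by
      rw [← LinearEquiv.mul_apply, ← map_mul, hm, mul_inv_cancel_left]
    change B (ρ k (vv xS)) (ρ k' (vv xS)) = 0 at hvw
    rw [hk', ← hequiv, LinearEquiv.map_eq_zero_iff] at hvw
    obtain ⟨d, hd, hdp⟩ := hkey m hvw
    obtain ⟨d', hd', hdd⟩ := hnorm k d hd
    refine ⟨d', hd', fun p => ?_⟩
    have hp : ρ k (ρ k⁻¹ p) = p := by rw [← LinearEquiv.mul_apply, ← map_mul, mul_inv_cancel, map_one]; rfl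
    show B p (ρ k' (vv xS)) = η d' (B p (ρ k (vv xS)))
    rw [hk', ← hdd, ← hp, ← hequiv, ← hequiv, hdp]
    show η k (η d _) = η k (η d ((η k).symm (η k _)))
    rw [LinearEquiv.symm_apply_apply]
  have hfix : ∀ v ∈ Submodule.span (ZMod 2) Ω, (∀ k ∈ C, ρ k v = v) →
      ∃ ν : Additive E → Additive E, ∀ p, B p v = ν (B p (vv xS)) := by
    intro v _ hv
    obtain ⟨y, rfl⟩ := hvv v
    have h1 : vv (conjSub S c hc.norm y) = vv y := (hρ cN y).symm.trans (hv _ (mem_zpowers _))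
    have h2 : ((conjSub S c hc.norm y : G))⁻¹ * y ∈ E :=
      mem_subgroupOf.1 (QuotientGroup.eq.1 (Additive.ofMul.injective h1))
    rw [conjSub_apply] at h2
    set e' := (c * (y : G) * c⁻¹)⁻¹ * y with he'
    have hcy : c * (y : G) * c⁻¹ = y * e' := by
      have e1 : e'⁻¹ = e' := h.grp_inv h2
      rw [← e1, he', mul_inv_rev, inv_inv, mul_inv_cancel_left]
    have hfixE : ∀ e ∈ E, c * e * c⁻¹ = e → e = 1 := by
      intro e he hce
      by_contra he1
      have hi : ∀ i : ℕ, c ^ i * e * (c ^ i)⁻¹ = e := fun i => by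
        have h3 : Commute c e := mul_inv_eq_iff_eq_mul.1 hce
        rw [(h3.pow_left i).eq, mul_inv_cancel_right]
      obtain ⟨f, hf, hf1, hfe⟩ := h.exists_other e
      obtain ⟨i, hi'⟩ := hc.trans e he f hf he1 hf1
      exact hfe (hi'.symm.trans (hi i))
    have hyU : (y : G) ∈ P ⊔ T := by
      refine hY.mem_sup_iff.2 ⟨y.2, hY.commute_iff.1 (hfixE _ (hY.coset y y.2) ?_)⟩
      have hxc' : c * x * c⁻¹ = x := by rw [hc.comm.eq, mul_inv_cancel_right]
      calc c * ((y : G) * x * (y : G)⁻¹ * x) * c⁻¹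
          = c * y * c⁻¹ * (c * x * c⁻¹) * (c * y * c⁻¹)⁻¹ * (c * x * c⁻¹) := by group
        _ = y * (e' * x) * e'⁻¹ * (y : G)⁻¹ * x := by rw [hcy, hxc']; group
        _ = _ := by
            rw [← (hY.centE x (hY.T_le hY.frame.self) e' h2).eq]; group
    obtain ⟨w, hw, t, ht, hywt⟩ := hY.decomp y y.2 (hY.sup_comm' hyU)
    have hwU : w ∈ P ⊔ T := mem_sup_left hw
    have hw2 : w * w ∈ E := hsqP w (hY.reg_le hw) (hY.sup_comm' hwU)
    set f := c * t * c⁻¹ * t⁻¹ with hf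
    have hfE : f ∈ E := hc.centW t ht (hTp ht)
    have hcw : c * w * c⁻¹ = w * (e' * f) := by
      have e1 : c * w * c⁻¹ * (f * t) = w * t * e' := by
        rw [hf, ← hywt, ← hcy, hywt]; group
      calc c * w * c⁻¹ = c * w * c⁻¹ * (f * t) * (f * t)⁻¹ := by group
        _ = w * (t * e') * t⁻¹ * f⁻¹ := by rw [e1]; group
        _ = w * (e' * t) * t⁻¹ * f⁻¹ := by rw [(hY.centE t (hY.T_le ht) e' h2).eq]
        _ = w * (e' * f) := by rw [h.grp_inv hfE]; group
    have hww : w * w = 1 := by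
      refine hfixE _ hw2 ?_
      rw [show c * (w * w) * c⁻¹ = c * w * c⁻¹ * (c * w * c⁻¹) by group, hcw,
        (hY.centE w (hY.reg_le hw) _ (mul_mem h2 hfE)).symm.mul_mul_mul_comm,
        h.res.grp_sq (mul_mem h2 hfE), mul_one]
    have hyy : (y : G) * y = 1 := by
      rw [hywt, (h.commute_sup hS hloc hY hbig hTp hsq hwU ht).symm.mul_mul_mul_comm, hww, hsq t ht, one_mul]
    obtain ⟨e, he, t', ht', hyet⟩ := (h.mem_block hY).1 (h.mem_block_of_invol hS hloc hY hbig hTp hsq hyU hyy)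
    obtain ⟨ν, hν⟩ := h.exists_translate_fun hS hloc hY hbig hTp hsq ht'
    refine ⟨fun r => if hr : ν (r.toMul : G) ∈ E then Additive.ofMul ⟨_, hr⟩ else 0, fun p => ?_⟩
    obtain ⟨u, rfl⟩ := hvv p
    rw [hB, hB]
    have e1 : ν ((Additive.ofMul (br u xS)).toMul : G) = (br u ⟨t', hY.T_le ht'⟩ : G) := by
      show ν (br u xS : G) = _
      rw [hbrx, ← hν u u.2]
    simp only
    rw [dif_pos (e1 ▸ (br u _).2)]
    refine congrArg Additive.ofMul (Subtype.ext ?_)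
    rw [show y = (⟨e, hY.grp_le he⟩ : S) * ⟨t', hY.T_le ht'⟩ from Subtype.ext hyet, hbrr, hbr1 u _ he, one_mul]
    exact e1.symm
  have hfin := blocks_fixed_of_alternating hNodd hNsol ρ η B hequiv halt Ω hΩ htrans
    (x := vv xS) ⟨1, by show ρ 1 (vv xS) = _; rw [map_one]; rfl⟩ C hCx hCE hmove hCcomm hnorm hblock hsep hfix
  have hlast := hfin (ρ ((⟨n, hn, hnp⟩ : N₀) : N₀ ⧸ S') (vv xS)) ⟨_, rfl⟩
  rw [hρ, hB] at hlast
  set y := conjSub S n (hnS ⟨n, hn, hnp⟩) xS with hy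
  have h1 := congrArg Subtype.val (Additive.ofMul.injective hlast : br xS y = 1)
  have hxy : Commute x (y : G) := mul_inv_eq_iff_eq_mul.1 (mul_inv_eq_one.1 h1)
  refine h.mem_block_of_invol hS hloc hY hbig hTp hsq (hY.mem_sup_iff.2 ⟨y.2, hxy⟩) ?_
  rw [show n * x * n⁻¹ * (n * x * n⁻¹) = n * (x * x) * n⁻¹ by group, invol_mul_self hxbad.invol, mul_one,
    mul_inv_cancel]

include hS hloc hY hbig hTp hsq in
/-- **Fusion of the members.** -/
theorem Sylo.fusion {c : G} (hc : h.Tor x T S c) (_hy : ∃ y ∈ T, y ≠ 1 ∧ y ≠ x)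
    (hnormT : ∀ g ∈ S, ∀ t ∈ T, g * t * g⁻¹ * t ∈ h.res.grp (base M))
    (hsqP : ∀ g ∈ S, Commute x g → g * g ∈ h.res.grp (base M))
    {m t : G} (hm : m • base M = base M) (ht : t ∈ T) (hmt : m * t * m⁻¹ ∈ S) :
    ∃ e ∈ h.res.grp (base M), ∃ t' ∈ T, m * t * m⁻¹ = e * t' := by
  classical
  by_cases ht1 : t = 1
  · exact ⟨1, one_mem _, 1, one_mem _, by rw [ht1]; simp⟩
  refine (h.mem_block hY).1 ?_
  set g := m * t * m⁻¹ with hg
  have hgg : g * g = 1 := by
    rw [hg, show m * t * m⁻¹ * (m * t * m⁻¹) = m * (t * t) * m⁻¹ by group, hsq t ht, mul_one, mul_inv_cancel]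
  by_contra hgn
  have hall := h.sq_mem_of_outside hS hloc hY hbig hTp hsq hc hnormT hsqP hmt hgg hgn
  set E := h.res.grp (base M) with hE
  have htb := h.bad_T hY hsq ht ht1
  have htp := (hY.frame.fix_T t ht).1
  have hmi : m⁻¹ • base M = base M := inv_smul_eq_iff.2 hm.symm
  set H := h.cosetStab htb htp with hH
  have hSH : S ≤ H := fun u hu => ⟨hY.smul u hu, hnormT u hu t ht⟩
  have hgi : g⁻¹ = g := inv_eq_of_mul_eq_one_right hgg
  obtain ⟨k, hk, hkS⟩ := hY.exists_conj_le (H := H) (U := S.map (MulAut.conj m⁻¹).toMonoidHom)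
    (fun y hy' => hy'.1) hSH (hY.two.map _) (by
      rintro _ ⟨u, hu, rfl⟩
      show (m⁻¹ * u * m⁻¹⁻¹) • base M = base M ∧ _
      refine ⟨by rw [mul_smul, mul_smul, inv_inv, hm, hY.smul u hu, hmi], ?_⟩
      have h1 := h.res.grp_conj hmi (h.comm_mem_grp_of_sq hY le_rfl hall hu hmt)
      rw [hgi, hg, show m⁻¹ * (u * (m * t * m⁻¹) * u⁻¹ * (m * t * m⁻¹)) * m⁻¹⁻¹ =
        m⁻¹ * u * m⁻¹⁻¹ * t * (m⁻¹ * u * m⁻¹⁻¹)⁻¹ * t by group] at h1
      exact h1)
  have hkp : k • base M = base M := hk.1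
  set n := m * k⁻¹ with hndef
  have hnp : n • base M = base M := by rw [hndef, mul_smul, inv_smul_eq_iff.2 hkp.symm, hm]
  have hn : n ∈ normalizer (S : Set G) := by
    have h1 : n⁻¹ ∈ normalizer (S : Set G) := mem_normalizer_of_forward fun u hu => by
      have h2 := hkS _ ⟨u, hu, rfl⟩
      rw [show n⁻¹ * u * n⁻¹⁻¹ = k * (m⁻¹ * u * m⁻¹⁻¹) * k⁻¹ by rw [hndef]; group]
      exact h2
    simpa using inv_mem h1
  obtain ⟨e, he, t₁, ht₁, hnx⟩ := (h.mem_block hY).1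
    (h.conj_mem_block_of_normalize hS hloc hY hbig hTp hsq hc hsqP hall hnp hn)
  have ht₁1 : t₁ ≠ 1 := fun e1 => h.bad_notMem (hY.frame.bad.conj n) (by rw [hnx, e1, mul_one]; exact he)
  -- `n` keeps `P T`
  have hntU : n * t * n⁻¹ ∈ P ⊔ T := by
    have hnS : n * t * n⁻¹ ∈ S := conj_of_normalizer h hn (hY.T_le ht)
    refine h.mem_sup_of_commute hS hloc hY hbig hTp hsq hnS ht₁ ht₁1 ?_
    have h2 : Commute (n * t * n⁻¹) (n * x * n⁻¹) := (Commute.conj_iff n).2 (hY.frame.cent t ht).symm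
    have h3 := (hY.centE _ hnS e he).inv_right.mul_right (hnx ▸ h2)
    rwa [inv_mul_cancel_left] at h3
  have hki : k⁻¹ ∈ H := inv_mem hk
  have hnt : n * t * n⁻¹ = m * (k⁻¹ * t * k⁻¹⁻¹ * t) * m⁻¹ * g := by
    rw [hg, show m * (k⁻¹ * t * k⁻¹⁻¹ * t) * m⁻¹ * (m * t * m⁻¹) = m * (k⁻¹ * t * k⁻¹⁻¹ * (t * t)) * m⁻¹ by group,
      hsq t ht, mul_one, hndef]
    group
  set d := m * (k⁻¹ * t * k⁻¹⁻¹ * t) * m⁻¹
  have hd : d ∈ E := h.res.grp_conj hm hki.2
  have hgU : g ∈ P ⊔ T := by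
    rw [show g = d⁻¹ * (n * t * n⁻¹) by rw [hnt, inv_mul_cancel_left]]
    exact mul_mem (mem_sup_left (hY.reg.line_le (by
      rw [h.lineGrp_eq hY.frame.bad hY.frame.fix_base]; exact inv_mem hd))) hntU
  exact hgn (h.mem_block_of_invol hS hloc hY hbig hTp hsq hgU hgg)

end EqRes

end CfsgLib.SECrit.Eq
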