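import Cfsg.Agent.Lib.Invol.SECriterion.EqType.Big.Kernel

/-!
# The strong embedding criterion, equal type: the pointwise part is central

An element of the pointwise part acts on the points moved by `x` with a given swap as one member at the
point of the swap, so it commutes with everything fixing the fixed points of `x`.  Hence an involution
fixing all of them lies in `T`, and `T` is the pointwise part or a four-group.
-/

set_option autoImplicit false
set_option linter.style.haveILetI false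
set_option linter.unusedSectionVars false
set_option linter.ambiguousOpen false

namespace CfsgLib.SECrit.Eq.EqRes

open CfsgLib.Invol Small Subgroup

universe u

variable {G : Type u} [Group G] [Finite G] {M : Subgroup G} {z : G}
variable (h : EqRes M z) (hS : Setup M z) (hloc : ∀ x, IsBad M x → Local M z x) {x : G} {a : G ⧸ M}
  {T P S : Subgroup G} (hY : h.Sylo x a T P S)
include h hS hloc hY

theorem self_mem_ptwise : x ∈ T ⊓ ptwise M z x :=
  ⟨hY.frame.self, mem_ptwise.2 ⟨Commute.refl x, fun _ hl => (commute_of_mem_locGroup hl).symm, fun _ hb => hb⟩⟩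

/-- In every translate a given element of the pointwise part appears once. -/
theorem exists_translate_member {k : G} (hk : k ∈ T ⊓ ptwise M z x) (hk1 : k ≠ 1) {f : G}
    (hf : f ∈ h.res.grp (base M)) : ∃ e ∈ h.res.grp (base M), e * k ∈ ptwise M z (f * x) := by
  classical
  have hF := hY.frame
  have hall : ∀ e : h.res.grp (base M), ∃ f : h.res.grp (base M), (e : G) * k ∈ ptwise M z ((f : G) * x) ∧
      ∃ g : G, g • base M = base M ∧ g * x * g⁻¹ = (f : G) * x := fun e => by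
    obtain ⟨f, hf, g, hg, hgf, w, hw, hgw⟩ := h.exists_translate_eq hS hloc hY hk hk1 e.2
    refine ⟨⟨f, hf⟩, ?_, g, hY.smul g hg, hgf⟩
    show (e : G) * k ∈ ptwise M z (f * x)
    rw [← hgw, ← hgf]
    exact conj_mem_ptwise hw.2
  choose F hFk g hgp hgF using hall
  have hinj : Function.Injective F := by
    intro e₁ e₂ heq
    have hb : ((F e₁ : G) * x) • (g e₁ • a) = g e₁ • a := by
      rw [← hgF e₁, mul_smul, mul_smul, inv_smul_smul, hF.fix_pt]
    have h2 := hFk e₂
    rw [← heq] at h2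
    have h1 := ptwise_fix (mul_mem (hFk e₁) (inv_mem h2)) hb
    rw [show (e₁ : G) * k * ((e₂ : G) * k)⁻¹ = (e₁ : G) * (e₂ : G)⁻¹ by group] at h1
    exact Subtype.ext (mul_inv_eq_one.1 (h.eq_one_of_grp_fix (mul_mem e₁.2 (inv_mem e₂.2))
      (fun e' => hF.ne (smul_left_cancel (g e₁) (e'.trans (hgp e₁).symm))) h1))
  obtain ⟨e, he⟩ := Finite.surjective_of_injective hinj ⟨f, hf⟩
  refine ⟨e, e.2, ?_⟩
  have h1 := hFk e
  rwa [he] at h1

/-- **The pointwise part in `T` is central in the pointwise part.** -/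
theorem commute_ptwise {k π : G} (hk : k ∈ T ⊓ ptwise M z x) (hπ : π ∈ ptwise M z x) : Commute k π := by
  by_cases hk1 : k = 1
  · rw [hk1]; exact Commute.one_left π
  have hF := hY.frame
  have hx := hF.bad
  have hcr := h.res.crit
  have key : ∀ δ : G ⧸ M, π • k • δ = k • π • δ := by
    intro δ
    by_cases hδ : x • δ = δ
    · rw [ptwise_fix hk.2 hδ, ptwise_fix hπ hδ, ptwise_fix hk.2 hδ]
    obtain ⟨d, hd, hdδ, hxd⟩ := hcr.exists_commuting_swap_of_moved hx.invol hδ
    obtain ⟨b, hb⟩ := hcr.fix_exists hd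
    have hxb : x • b = b := hcr.smul_of_commute hd hxd hb
    obtain ⟨l, hl, hlb⟩ := hS.exists_loc_smul hx.invol hF.fix_base hxb
    have hd₀ : l⁻¹ * d * l ∈ h.res.grp (base M) := Or.inr ⟨hd.trans (isConj_iff.2 ⟨l⁻¹, by rw [inv_inv]⟩),
      by rw [mul_smul, mul_smul, hlb, hb, ← hlb, inv_smul_smul]⟩
    obtain ⟨e, he, hek⟩ := h.exists_translate_member hS hloc hY hk hk1 hd₀
    have hxl : Commute x l := commute_of_mem_locGroup hl
    have h1 := conj_mem_ptwise (g := l) hek
    rw [show l * (l⁻¹ * d * l * x) * l⁻¹ = d * (l * x * l⁻¹) by group, ← hxl.eq, mul_inv_cancel_right,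
      show l * (e * k) * l⁻¹ = l * e * l⁻¹ * (l * k * l⁻¹) by group,
      ← (ptwise_loc hk.2 hl).eq, mul_inv_cancel_right] at h1
    set e' := l * e * l⁻¹ with he'
    have he'L : e' ∈ locGroup z x := mul_mem (mul_mem hl (h.grp_mem_loc hx hF.fix_base he)) (inv_mem hl)
    have hdδ' : (d * x) • δ = δ := by
      rw [mul_smul, ← hdδ, smul_smul, invol_mul_self (hcr.orderOf_conj hd), one_smul]
    have hπδ : (d * x) • π • δ = π • δ := by
      rw [smul_smul, ← ((ptwise_loc hπ (mem_locGroup hd hxd)).mul_right (ptwise_comm hπ).symm).eq, mul_smul,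
        hdδ']
    have h2 : k • δ = e'⁻¹ • δ := by rw [eq_inv_smul_iff, ← mul_smul]; exact ptwise_fix h1 hdδ'
    have h3 : k • π • δ = e'⁻¹ • π • δ := by rw [eq_inv_smul_iff, ← mul_smul]; exact ptwise_fix h1 hπδ
    rw [h2, h3, smul_smul, ((ptwise_loc hπ he'L).inv_right).eq, mul_smul]
  have h1 : (k * π)⁻¹ * (π * k) = 1 := h.faith _ fun δ => by
    rw [mul_smul, mul_smul, key δ, inv_smul_eq_iff, mul_smul]
  exact inv_mul_eq_one.1 h1

/-- **An involution fixing all fixed points of `x` and centralizing its group lies in `T`.** -/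
theorem mem_of_bad_ptwise {y : G} (hy : orderOf y = 2) (hyW : y ∈ ptwise M z x) : y ∈ T := by
  haveI : Fact (Nat.Prime 2) := ⟨Nat.prime_two⟩
  have hF := hY.frame
  let R : Subgroup G :=
    { carrier := {g | ∃ π ∈ ptwise M z x, ∃ t ∈ T, g = π * t}
      one_mem' := ⟨1, one_mem _, 1, one_mem _, (one_mul 1).symm⟩
      mul_mem' := by
        rintro _ _ ⟨π, hπ, t, ht, rfl⟩ ⟨π', hπ', t', ht', rfl⟩
        exact ⟨π * (t * π' * t⁻¹), mul_mem hπ (conj_mem_ptwise_of_comm (hF.cent t ht) hπ'), t * t',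
          mul_mem ht ht', by group⟩
      inv_mem' := by
        rintro _ ⟨π, hπ, t, ht, rfl⟩
        exact ⟨t⁻¹ * π⁻¹ * t⁻¹⁻¹, conj_mem_ptwise_of_comm (hF.cent t ht).inv_right (inv_mem hπ), t⁻¹,
          inv_mem ht, by group⟩ }
  have hTR : T ≤ R := fun t ht => ⟨1, one_mem _, t, ht, (one_mul t).symm⟩
  have hyR : y ∈ R := ⟨y, hyW, 1, one_mem _, (mul_one y).symm⟩
  obtain ⟨ST, hST⟩ := (hF.two.of_equiv (subgroupOfEquivOfLe hTR).symm).exists_le_sylow
  have hfixR : ∀ g ∈ R, g • base M = base M ∧ g • a = a := by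
    rintro _ ⟨π, hπ, t, ht, rfl⟩
    exact ⟨by rw [mul_smul, (hF.fix_T t ht).1, ptwise_fix hπ hF.fix_base],
      by rw [mul_smul, (hF.fix_T t ht).2, ptwise_fix hπ hF.fix_pt]⟩
  have hcard : Nat.card ((ST : Subgroup R).map R.subtype) ≤ Nat.card T :=
    hF.max _ a (ST.2.map _) hF.ne fun g hg => by
      obtain ⟨r, -, rfl⟩ := hg
      exact hfixR _ r.2
  rw [card_map_of_injective R.subtype_injective, ← Nat.card_congr (subgroupOfEquivOfLe hTR).toEquiv] at hcard
  have hSTeq : (ST : Subgroup R) = T.subgroupOf R := (eq_of_le_of_card_ge hST hcard).symm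
  have hyo : orderOf (⟨y, hyR⟩ : R) = 2 := by rw [← orderOf_coe]; exact hy
  obtain ⟨⟨r, hr⟩, hrq⟩ := exists_conj_le_sylow (Crit.isPGroup_zpowers_invol hyo) ST
  have h1 : (⟨r, hr⟩ : R) * ⟨y, hyR⟩ * (⟨r, hr⟩ : R)⁻¹ ∈ (ST : Subgroup R) := hrq _ (mem_zpowers _)
  rw [hSTeq] at h1
  have h2 : r * y * r⁻¹ ∈ T := h1
  obtain ⟨π, hπ, t, ht, rfl⟩ := hr
  have h3 : π * t * y * (π * t)⁻¹ ∈ ptwise M z x :=
    conj_mem_ptwise_of_comm ((ptwise_comm hπ).mul_right (hF.cent t ht)) hyW
  set w := π * t * y * (π * t)⁻¹ with hw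
  have h4 : y = t⁻¹ * w * t := by
    calc y = t⁻¹ * (π⁻¹ * w * π) * t := by rw [hw]; group
      _ = t⁻¹ * w * t := by
        rw [mul_assoc π⁻¹, (h.commute_ptwise hS hloc hY ⟨h2, h3⟩ hπ).eq, inv_mul_cancel_left]
  rw [h4]
  exact mul_mem (mul_mem (inv_mem ht) h2) ht

/-- **The two-group of a pair is the pointwise part or a four-group.** -/
theorem T_cases :
    T ≤ ptwise M z x ∨ (fix M x = (deg M z + 1) ^ 3 + 1 ∧ Nat.card T = 4 ∧ (∀ t ∈ T, t * t = 1) ∧
      (∀ w ∈ T ⊓ ptwise M z x, w = 1 ∨ w = x) ∧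
      ∀ g ∈ T, g ∉ ptwise M z x →
        Nat.card {b : G ⧸ M // x • b = b ∧ g • b = b} = deg M z + 2 ∧
        ∃ u ∈ P, ¬ ∃ e ∈ h.res.grp (base M), e * (g * u * g⁻¹ * u⁻¹) ∈ locKer M z x) := by
  classical
  by_cases hTW : T ≤ ptwise M z x
  · exact Or.inl hTW
  refine Or.inr ?_
  obtain ⟨t, ht, htW⟩ := SetLike.not_le_iff_exists.1 hTW
  have hF := hY.frame
  have hP := hY.reg
  have hTE := h.sylo_TE hS hloc hY
  have hsq : ∀ g ∈ T, g * g = 1 := fun g hg => h.sq_T hS hloc hY hg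
  have hinv : ∀ g ∈ T, g⁻¹ = g := fun g hg => inv_eq_of_mul_eq_one_right (hsq g hg)
  have hcomm : ∀ s ∈ T, ∀ r ∈ T, Commute s r := fun s hs r hr => by
    show s * r = r * s
    rw [← hinv (s * r) (mul_mem hs hr), mul_inv_rev, hinv r hr, hinv s hs]
  have hcnt : ∀ g ∈ T, g ∉ ptwise M z x →
      fix M x = (deg M z + 1) ^ 3 + 1 ∧ Nat.card {b : G ⧸ M // x • b = b ∧ g • b = b} = deg M z + 2 :=
    fun g hg hgW => h.fix_count hS hloc hF hP hTE hg (by rw [hsq g hg]; exact one_mem _) hgW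
  -- the frame of `t`
  have ht1 : t ≠ 1 := fun e => htW (e ▸ one_mem _)
  have hto : orderOf t = 2 := invol_iff.2 ⟨hsq t ht, ht1⟩
  have htb : Bad z t :=
    ⟨hto, fun hh => hF.ne (h.res.crit.fix_unique hh (hF.fix_T t ht).2 (hF.fix_T t ht).1)⟩
  have hFt : Frame M z t a T :=
    ⟨htb, (hF.fix_T t ht).1, (hF.fix_T t ht).2, hF.ne, hF.two, fun r hr => hcomm t ht r hr, hF.fix_T, ht, hF.max⟩
  obtain ⟨β, hβ2, hβ⟩ := h.exists_card_grp
  obtain ⟨hfix, -⟩ := hcnt t ht htW
  obtain ⟨Pt, hPt, -, -⟩ := hS.exists_regTwo (hloc t (h.isBad htb)) (h.isBad htb) hFt.fix_base (β := β) (m := 3)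
    (by rw [h.card_cat htb hFt.fix_base, hβ]) hβ2 (by norm_num)
    (show fix M t = _ by rw [← h.fix_eq hF.bad htb, hfix, hβ, ← pow_mul])
  -- no non-trivial pointwise element fixes the fixed points of `t`
  have hout : ∀ w ∈ T, w ∈ ptwise M z x → w ≠ 1 → w ∉ ptwise M z t := by
    intro w hw hwW hw1 hwt
    have hwb : Bad z w := ⟨invol_iff.2 ⟨hsq w hw, hw1⟩,
      fun hh => hF.ne (h.res.crit.fix_unique hh (hF.fix_T w hw).2 (hF.fix_T w hw).1)⟩
    have e1 : ({b : G ⧸ M | x • b = b} : Set (G ⧸ M)) = {b | w • b = b} :=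
      Set.eq_of_subset_of_ncard_le (fun b hb => ptwise_fix hwW hb) (by
        rw [← Nat.card_coe_set_eq, ← Nat.card_coe_set_eq]; exact (h.fix_eq hwb hF.bad).le) (Set.toFinite _)
    have e2 : ({b : G ⧸ M | t • b = b} : Set (G ⧸ M)) = {b | w • b = b} :=
      Set.eq_of_subset_of_ncard_le (fun b hb => ptwise_fix hwt hb) (by
        rw [← Nat.card_coe_set_eq, ← Nat.card_coe_set_eq]; exact (h.fix_eq hwb htb).le) (Set.toFinite _)
    refine htW ((h.frame_ptwise_iff hloc hF ht).2 fun b hb => ?_)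
    exact (Set.ext_iff.1 (e1.trans e2.symm) b).1 hb
  have hW : ∀ w ∈ T ⊓ ptwise M z x, w = 1 ∨ w = x := by
    intro w hw
    by_contra hh
    push Not at hh
    have hxm := h.self_mem_ptwise hS hloc hY
    have hxw1 : x * w ≠ 1 := fun e => hh.2 (by
      rw [eq_inv_of_mul_eq_one_right e, invol_inv hF.bad.invol])
    exact hout _ (mul_mem hF.self hw.1) (mul_mem hxm.2 hw.2) hxw1
      (h.mul_mem_ptwise hS hloc hFt hPt hTE hF.self hw.1 (hout x hF.self hxm.2 (invol_ne_one hF.bad.invol))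
        (hout w hw.1 hw.2 hh.1))
  have hcard : Nat.card T = 4 := by
    have hxt := mul_mem hF.self ht
    have hxne : x ≠ 1 := invol_ne_one hF.bad.invol
    have hxW := (h.self_mem_ptwise hS hloc hY).2
    have hxtW : x * t ∉ ptwise M z x := fun hh => htW (by
      have := mul_mem hxW hh
      rwa [← mul_assoc, invol_mul_self hF.bad.invol, one_mul] at this)
    let f : Bool × Bool → T := fun q =>
      match q with
      | (false, false) => 1
      | (true, false) => ⟨x, hF.self⟩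
      | (false, true) => ⟨t, ht⟩
      | (true, true) => ⟨x * t, hxt⟩
    have hf : Function.Bijective f := by
      refine ⟨?_, ?_⟩
      · have n1 : x * t ≠ 1 := fun e => hxtW (e ▸ one_mem _)
        have n2 : x ≠ t := fun e => htW (e ▸ hxW)
        have n3 : x * t ≠ x := fun e => ht1 (mul_eq_left.1 e)
        have n4 : x * t ≠ t := fun e => hxne (mul_eq_right.1 e)
        rintro ⟨c₁, c₂⟩ ⟨d₁, d₂⟩ he
        cases c₁ <;> cases c₂ <;> cases d₁ <;> cases d₂ <;>
          simp_all [f, Subtype.ext_iff, n1.symm, n2.symm, n3.symm, n4.symm, hxne.symm, ht1.symm]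
      · rintro ⟨g, hg⟩
        by_cases hgW : g ∈ ptwise M z x
        · rcases hW g ⟨hg, hgW⟩ with rfl | rfl
          · exact ⟨(false, false), rfl⟩
          · exact ⟨(true, false), rfl⟩
        · rcases hW (g * t) ⟨mul_mem hg ht, h.mul_mem_ptwise hS hloc hF hP hTE hg ht hgW htW⟩ with e | e
          · exact ⟨(false, true), Subtype.ext (by
              show t = g
              rw [eq_inv_of_mul_eq_one_left e, hinv t ht])⟩
          · exact ⟨(true, true), Subtype.ext (by
              show x * t = g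
              rw [← e, mul_assoc, hsq t ht, mul_one])⟩
    rw [← Nat.card_eq_of_bijective f hf]
    simp
  refine ⟨hfix, hcard, hsq, hW, fun g hg hgW => ⟨(hcnt g hg hgW).2, ?_⟩⟩
  obtain ⟨u, hu, -, hne⟩ := h.exists_moved hS hloc hF hP hTE hg hgW ⊤ fun _ _ _ _ _ _ => mem_top _
  exact ⟨u, hu, hne⟩

end CfsgLib.SECrit.Eq.EqRes
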