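import Cfsg.Agent.Lib.Invol.SECriterion.EqType.Big.Basic

/-!
# The strong embedding criterion, equal type with many fixed points: the torus element of `S`

The elements of the coset stabilizer act on the pointwise part `W` of `T` modulo `E`.  The torus of the pair
centralizes `W`, translations by `e` and its torus image act alike, so the translations act as elements
centralizing `x`, whose two-elements act trivially: `S` centralizes `W` modulo `E`.  Frattini then moves the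
torus element into the normalizer of `S`.
-/

set_option autoImplicit false
set_option linter.style.haveILetI false

namespace CfsgLib.SECrit.Eq

open CfsgLib.Invol Small Subgroup

universe u

variable {G : Type u} [Group G] [Finite G] {M : Subgroup G} {z : G}

namespace EqRes

variable (h : EqRes M z)
include h

/-- The elements at the base point keeping the coset of `x` and the set `E W`. -/
def blockStab {x : G} (hx : Bad z x) (hxp : x • base M = base M) (W : Subgroup G) : Subgroup G where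
  carrier := {g | g ∈ h.cosetStab hx hxp ∧ g⁻¹ ∈ h.cosetStab hx hxp ∧
    (∀ w ∈ W, ∃ e ∈ h.res.grp (base M), ∃ w' ∈ W, g * w * g⁻¹ = e * w') ∧
    (∀ w ∈ W, ∃ e ∈ h.res.grp (base M), ∃ w' ∈ W, g⁻¹ * w * g⁻¹⁻¹ = e * w')}
  one_mem' := ⟨one_mem _, by rw [inv_one]; exact one_mem _, fun w hw => ⟨1, one_mem _, w, hw, by simp⟩,
    fun w hw => ⟨1, one_mem _, w, hw, by simp⟩⟩
  mul_mem' := by
    intro g k hg hk
    have key : ∀ a b : G, a ∈ h.cosetStab hx hxp → (∀ w ∈ W, ∃ e ∈ h.res.grp (base M), ∃ w' ∈ W, a * w * a⁻¹ = e * w') →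
        (∀ w ∈ W, ∃ e ∈ h.res.grp (base M), ∃ w' ∈ W, b * w * b⁻¹ = e * w') →
        ∀ w ∈ W, ∃ e ∈ h.res.grp (base M), ∃ w' ∈ W, a * b * w * (a * b)⁻¹ = e * w' := by
      intro a b ha hA hB w hw
      obtain ⟨e, he, w₁, hw₁, e1⟩ := hB w hw
      obtain ⟨f, hf, w₂, hw₂, e2⟩ := hA w₁ hw₁
      refine ⟨a * e * a⁻¹ * f, mul_mem (h.conj_mem ha.1 he) hf, w₂, hw₂, ?_⟩
      rw [show a * b * w * (a * b)⁻¹ = a * (b * w * b⁻¹) * a⁻¹ by group, e1, mul_assoc _ f w₂, ← e2]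
      group
    refine ⟨mul_mem hg.1 hk.1, by rw [mul_inv_rev]; exact mul_mem hk.2.1 hg.2.1, key g k hg.1 hg.2.2.1 hk.2.2.1, ?_⟩
    rw [mul_inv_rev]
    exact key k⁻¹ g⁻¹ hk.2.1 hk.2.2.2 hg.2.2.2
  inv_mem' := by
    intro g hg
    exact ⟨hg.2.1, by rw [inv_inv]; exact hg.1, hg.2.2.2, by rw [inv_inv]; exact hg.2.2.1⟩

/-- Its elements centralizing `W` modulo `E`. -/
def blockKer {x : G} (hx : Bad z x) (hxp : x • base M = base M) (W : Subgroup G) : Subgroup G where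
  carrier := {g | g ∈ h.blockStab hx hxp W ∧ ∀ w ∈ W, g * w * g⁻¹ * w⁻¹ ∈ h.res.grp (base M)}
  one_mem' := ⟨one_mem _, fun w _ => by simp⟩
  mul_mem' := by
    intro g k hg hk
    refine ⟨mul_mem hg.1 hk.1, fun w hw => ?_⟩
    rw [show g * k * w * (g * k)⁻¹ * w⁻¹ = g * (k * w * k⁻¹ * w⁻¹) * g⁻¹ * (g * w * g⁻¹ * w⁻¹) by group]
    exact mul_mem (h.conj_mem hg.1.1.1 (hk.2 w hw)) (hg.2 w hw)
  inv_mem' := by
    intro g hg
    refine ⟨inv_mem hg.1, fun w hw => ?_⟩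
    rw [show g⁻¹ * w * g⁻¹⁻¹ * w⁻¹ = g⁻¹ * (g * w * g⁻¹ * w⁻¹)⁻¹ * g⁻¹⁻¹ by group]
    exact h.conj_mem hg.1.2.1.1 (inv_mem (hg.2 w hw))

theorem blockKer_conj {x : G} {hx : Bad z x} {hxp : x • base M = base M} {W : Subgroup G} {g k : G}
    (hg : g ∈ h.blockStab hx hxp W) (hk : k ∈ h.blockKer hx hxp W) : g * k * g⁻¹ ∈ h.blockKer hx hxp W := by
  refine ⟨mul_mem (mul_mem hg hk.1) (inv_mem hg), fun w hw => ?_⟩
  obtain ⟨e, he, w₁, hw₁, e1⟩ := hg.2.2.2 w hw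
  have e1' : g⁻¹ * w * g = e * w₁ := by rwa [inv_inv] at e1
  have e2 : w = g * (e * w₁) * g⁻¹ := by rw [← e1']; group
  have h2 : g * k * g⁻¹ * w * (g * k * g⁻¹)⁻¹ * w⁻¹ =
      g * (k * e * k⁻¹ * (k * w₁ * k⁻¹ * w₁⁻¹) * e⁻¹) * g⁻¹ := by
    rw [e2]; group
  rw [h2]
  exact h.conj_mem hg.1.1 (mul_mem (mul_mem (h.conj_mem hk.1.1.1 he) (hk.2 w₁ hw₁)) (inv_mem he))

namespace Sylo

variable {h}
variable {x : G} {a : G ⧸ M} {T P S : Subgroup G} (hY : h.Sylo x a T P S)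
include hY

theorem exists_tor_aux (hS : Setup M z) (hloc : ∀ x : G, IsBad M x → Local M z x)
    (hW2 : ∀ w ∈ wPart M z x T, w * w = 1) (hTW : ∀ t ∈ T, ∀ w ∈ wPart M z x T, Commute t w)
    (hK1 : ∀ g ∈ S, ∀ w ∈ wPart M z x T, ∃ e ∈ h.res.grp (base M), ∃ w' ∈ wPart M z x T, g * w * g⁻¹ = e * w') :
    (∀ g ∈ S, ∀ w ∈ wPart M z x T, g * w * g⁻¹ * w ∈ h.res.grp (base M)) ∧ ∃ c : G, h.Tor x T S c := by
  classical
  haveI : Fact (Nat.Prime 2) := ⟨Nat.prime_two⟩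
  have hxb := hY.frame.bad
  have hxp := hY.frame.fix_base
  set E := h.res.grp (base M) with hE
  set W := wPart M z x T with hW
  have hWi : ∀ w ∈ W, w⁻¹ = w := fun w hw => inv_eq_of_mul_eq_one_right (hW2 w hw)
  have hWbad : ∀ w ∈ W, w ≠ 1 → Bad z w := fun w hw hw1 =>
    hY.frame.bad_of_mem hw.1 (orderOf_eq_prime (by rw [pow_two]; exact hW2 w hw) hw1) h.res.crit
  -- the torus of the pair
  obtain ⟨C, hC, hCc, -, -, hCm, -⟩ := h.exists_torus_pair hS hloc hxb hxp hY.frame.ne hY.frame.fix_pt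
  haveI := hCc
  obtain ⟨⟨γ, hγC⟩, hγ⟩ := IsCyclic.exists_generator (α := C)
  have hgen : ∀ l ∈ C, ∃ i : ℕ, γ ^ i = l := fun l hl => by
    obtain ⟨i, hi⟩ := (mem_powers_iff_mem_zpowers.2 (hγ ⟨l, hl⟩) : _)
    exact ⟨i, by simpa using congrArg Subtype.val hi⟩
  obtain ⟨m0, hm0γ, hm0y⟩ := hCm γ hγC
  have hsm : ∀ (i : ℕ) (e : h.res.grp (base M)), (((γ ^ i) • e : h.res.grp (base M)) : G) =
      (m0 : G) ^ i * e * ((m0 : G) ^ i)⁻¹ := fun i e => by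
    rw [← hm0γ, ← map_pow, ← SubmonoidClass.coe_pow m0 i]
    rfl
  have htrans : ∀ e ∈ E, ∀ f ∈ E, e ≠ 1 → f ≠ 1 → ∀ j : ℕ,
      ∃ i : ℕ, (m0 : G) ^ (2 ^ j * i) * e * ((m0 : G) ^ (2 ^ j * i))⁻¹ = f := by
    intro e he f hf he1 hf1 j
    obtain ⟨l, hl, hlf⟩ := hC.trans ⟨e, he⟩ ⟨f, hf⟩ (fun e1 => he1 (congrArg Subtype.val e1))
      fun e1 => hf1 (congrArg Subtype.val e1)
    obtain ⟨β, hβ2, hβ⟩ := h.exists_deg_pow
    have hcop : (Nat.card C).Coprime (2 ^ j) := by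
      refine Nat.Coprime.pow_right _ (Nat.coprime_two_right.2 ?_)
      rw [hC.card_eq (show (⟨e, he⟩ : E) ≠ 1 from fun e1 => he1 (congrArg Subtype.val e1))]
      have h1 := Nat.card_congr (Equiv.optionSubtypeNe (1 : E))
      rw [Finite.card_option, h.res.card_grp, hβ] at h1
      have h2 : Even (2 ^ β) := (Nat.even_pow' (by omega)).2 even_two
      exact Nat.not_even_iff_odd.1 fun hev => by
        have h3 : Odd (Nat.card {f : E // f ≠ 1} + 1) := hev.add_one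
        rw [h1] at h3
        exact Nat.not_even_iff_odd.2 h3 h2
    obtain ⟨⟨r, hr⟩, hrl⟩ := (powCoprime hcop).surjective ⟨l, hl⟩
    obtain ⟨i, rfl⟩ := hgen r hr
    refine ⟨i, ?_⟩
    rw [← hsm _ ⟨e, he⟩, mul_comm, pow_mul]
    have e1 : (γ ^ i) ^ 2 ^ j = l := congrArg Subtype.val hrl
    rw [e1, hlf]
  have hmove : ∀ e ∈ E, (m0 : G) * e * (m0 : G)⁻¹ = e → e = 1 := by
    intro e he hfix
    by_contra he1
    obtain ⟨f, hf, hf1, hfe⟩ := h.exists_other e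
    obtain ⟨i, hi⟩ := htrans e he f hf he1 hf1 0
    have hpow : ∀ n : ℕ, (m0 : G) ^ n * e * ((m0 : G) ^ n)⁻¹ = e := by
      intro n
      induction n with
      | zero => simp
      | succ n ih =>
        rw [pow_succ, show (m0 : G) ^ n * m0 * e * ((m0 : G) ^ n * m0)⁻¹ =
          (m0 : G) ^ n * ((m0 : G) * e * (m0 : G)⁻¹) * ((m0 : G) ^ n)⁻¹ by group, hfix, ih]
    exact hfe (hi.symm.trans (hpow _))
  have hm0p : (m0 : G) • base M = base M := smul_base_iff.2 m0.2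
  have hm0W : ∀ w ∈ W, Commute (m0 : G) w := fun w hw => by
    rcases eq_or_ne w 1 with rfl | hw1
    · exact Commute.one_right _
    exact hm0y w (hWbad w hw hw1) (hY.frame.fix_T w hw.1).1 (hY.frame.fix_T w hw.1).2
  have hm0x : Commute (m0 : G) x := hm0y x hxb hxp hY.frame.fix_pt
  set H2 := h.blockStab hxb hxp W with hH2
  set H1 := h.blockKer hxb hxp W with hH1
  have hcosC : ∀ g : G, g • base M = base M → Commute x g → g ∈ h.cosetStab hxb hxp := fun g hgp hgx =>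
    ⟨hgp, by rw [hY.commute_iff.2 hgx]; exact one_mem _⟩
  have hSH2 : ∀ g ∈ S, g ∈ H2 := fun g hg => ⟨⟨hY.smul g hg, hY.coset g hg⟩,
    ⟨hY.smul _ (inv_mem hg), hY.coset _ (inv_mem hg)⟩, hK1 g hg, hK1 _ (inv_mem hg)⟩
  have hm0H2 : (m0 : G) ∈ H2 := ⟨hcosC _ hm0p hm0x.symm,
    hcosC _ (inv_smul_eq_iff.2 hm0p.symm) hm0x.symm.inv_right,
    fun w hw => ⟨1, one_mem _, w, hw, by rw [(hm0W w hw).eq, mul_inv_cancel_right, one_mul]⟩,
    fun w hw => ⟨1, one_mem _, w, hw, by rw [(hm0W w hw).inv_left.eq, mul_inv_cancel_right, one_mul]⟩⟩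
  have hm0H1 : (m0 : G) ∈ H1 := ⟨hm0H2, fun w hw => by
    rw [(hm0W w hw).eq, mul_inv_cancel_right, mul_inv_cancel]; exact one_mem _⟩
  -- `P T` lies in the kernel
  have hPTH1 : ∀ g ∈ P ⊔ T, g ∈ H1 := by
    have hP1 : P ≤ H1 := fun v hv => ⟨hSH2 v (hY.reg_le hv), fun w hw => by
      have h1 : Commute v w := ((mem_ptwise.1 hw.2).2.1 v ((hY.reg.mem v).1 hv).1)
      rw [h1.eq, mul_inv_cancel_right, mul_inv_cancel]; exact one_mem _⟩
    have hT1 : T ≤ H1 := fun t ht => ⟨hSH2 t (hY.T_le ht), fun w hw => by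
      rw [(hTW t ht w hw).eq, mul_inv_cancel_right, mul_inv_cancel]; exact one_mem _⟩
    exact fun g hg => (_root_.sup_le hP1 hT1) hg
  -- the two-elements of the centralizer of `x`
  set D := H2 ⊓ Subgroup.centralizer ({x} : Set G) with hD
  have hPTD : P ⊔ T ≤ D := fun g hg => ⟨hSH2 g (hY.sup_le hg),
    mem_centralizer_singleton_iff.2 (hY.sup_comm' hg).symm.eq⟩
  have hD2 : ∀ d ∈ D, ∀ n : ℕ, d ^ 2 ^ n = 1 → d ∈ H1 := by
    intro d hd n hdn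
    obtain ⟨P₁, hP₁⟩ := ((hY.two.to_le hY.sup_le).of_equiv (subgroupOfEquivOfLe hPTD).symm).exists_le_sylow
    obtain ⟨P₂, hP₂⟩ := ((isPGroup_zpowers_two hdn).of_equiv
      (subgroupOfEquivOfLe (zpowers_le.2 hd)).symm).exists_le_sylow
    have h1 : Nat.card ((P₁ : Subgroup D).map D.subtype) ≤ Nat.card (P ⊔ T : Subgroup G) := by
      refine (h.card_cent_two_le hY.frame hxb hxp (P₁.2.map _) ?_ ?_).trans hY.card_sup_ge
      · rintro _ ⟨g, -, rfl⟩; exact g.2.1.1.1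
      · rintro _ ⟨g, -, rfl⟩; exact (mem_centralizer_singleton_iff.1 g.2.2).symm
    have h2 : P ⊔ T ≤ (P₁ : Subgroup D).map D.subtype := fun g hg =>
      ⟨⟨g, hPTD hg⟩, hP₁ (mem_subgroupOf.2 hg), rfl⟩
    obtain ⟨k, hk⟩ := MulAction.exists_smul_eq D P₂ P₁
    have h3 : (k : G) * d * (k : G)⁻¹ ∈ P ⊔ T := by
      rw [eq_of_le_of_card_ge h2 h1]
      refine ⟨k * ⟨d, hd⟩ * k⁻¹, ?_, rfl⟩
      rw [← hk]
      show k * ⟨d, hd⟩ * k⁻¹ ∈ (↑(k • P₂) : Subgroup D)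
      rw [Sylow.coe_subgroup_smul]
      exact Subgroup.smul_mem_pointwise_smul (⟨d, hd⟩ : D) (MulAut.conj k) _
        (hP₂ (mem_subgroupOf.2 (mem_zpowers d)))
    have h4 := h.blockKer_conj (inv_mem k.2.1) (hPTH1 _ h3)
    rwa [show (k : G)⁻¹ * ((k : G) * d * (k : G)⁻¹) * (k : G)⁻¹⁻¹ = d by group] at h4
  -- translations act trivially
  have hSH1 : ∀ g ∈ S, g ∈ H1 := by
    intro g hg
    have hinj : Function.Injective fun e : E => (⟨(e : G) * ((m0 : G) * e * (m0 : G)⁻¹),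
        mul_mem e.2 (h.conj_mem hm0p e.2)⟩ : E) := by
      intro e f hef
      have h1 : (e : G) * ((m0 : G) * e * (m0 : G)⁻¹) = f * ((m0 : G) * f * (m0 : G)⁻¹) :=
        congrArg Subtype.val hef
      refine Subtype.ext (inv_mul_eq_one.1 (hmove _ (mul_mem (inv_mem e.2) f.2) ?_))
      calc (m0 : G) * ((e : G)⁻¹ * f) * (m0 : G)⁻¹ = ((m0 : G) * e * (m0 : G)⁻¹)⁻¹ * ((m0 : G) * f * (m0 : G)⁻¹) := by
            group
        _ = ((e : G) * ((m0 : G) * e * (m0 : G)⁻¹))⁻¹ * (e : G) * ((m0 : G) * f * (m0 : G)⁻¹) := by group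
        _ = ((m0 : G) * f * (m0 : G)⁻¹)⁻¹ * ((f : G)⁻¹ * e) * ((m0 : G) * f * (m0 : G)⁻¹) := by rw [h1]; group
        _ = (f : G)⁻¹ * e := by
          rw [mul_assoc, ← (h.res.grp_commute (h.conj_mem hm0p f.2) (mul_mem (inv_mem f.2) e.2)).eq,
            inv_mul_cancel_left]
        _ = (e : G)⁻¹ * f := by
          rw [h.grp_inv f.2, h.grp_inv e.2, (h.res.grp_commute f.2 e.2).eq]
    obtain ⟨⟨e', he'⟩, hee⟩ := Finite.surjective_of_injective hinj ⟨_, hY.coset g hg⟩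
    have hee' : e' * ((m0 : G) * e' * (m0 : G)⁻¹) = g * x * g⁻¹ * x := congrArg Subtype.val hee
    obtain ⟨g', hg', hg'x⟩ := hY.surj e' he'
    set d := (g' * ((m0 : G) * g' * (m0 : G)⁻¹))⁻¹ * g with hd
    have hdx : Commute x d := by
      have h1 : g' * ((m0 : G) * g' * (m0 : G)⁻¹) * x * (g' * ((m0 : G) * g' * (m0 : G)⁻¹))⁻¹ = g * x * g⁻¹ := by
        calc g' * ((m0 : G) * g' * (m0 : G)⁻¹) * x * (g' * ((m0 : G) * g' * (m0 : G)⁻¹))⁻¹
            = g' * ((m0 : G) * (g' * ((m0 : G)⁻¹ * x * m0) * g'⁻¹) * (m0 : G)⁻¹) * g'⁻¹ := by group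
          _ = g' * ((m0 : G) * (e' * x) * (m0 : G)⁻¹) * g'⁻¹ := by
              rw [show (m0 : G)⁻¹ * x * m0 = x by rw [mul_assoc, ← hm0x.eq, inv_mul_cancel_left], hg'x]
          _ = g' * ((m0 : G) * e' * (m0 : G)⁻¹ * x) * g'⁻¹ := by
              rw [show (m0 : G) * (e' * x) * (m0 : G)⁻¹ =
                (m0 : G) * e' * (m0 : G)⁻¹ * ((m0 : G) * x * (m0 : G)⁻¹) by group, hm0x.eq, mul_inv_cancel_right]
          _ = (g' * ((m0 : G) * e' * (m0 : G)⁻¹) * g'⁻¹) * (g' * x * g'⁻¹) := by group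
          _ = (m0 : G) * e' * (m0 : G)⁻¹ * e' * x := by
              rw [(hY.centE g' hg' _ (h.conj_mem hm0p he')).eq, mul_inv_cancel_right, hg'x, ← mul_assoc]
          _ = g * x * g⁻¹ := by
              rw [(h.res.grp_commute (h.conj_mem hm0p he') he').eq, hee', mul_assoc, invol_mul_self hxb.invol, mul_one]
      refine (mul_inv_eq_iff_eq_mul.1 ?_).symm
      rw [hd]
      generalize g' * ((m0 : G) * g' * (m0 : G)⁻¹) = k at h1 ⊢
      calc k⁻¹ * g * x * (k⁻¹ * g)⁻¹ = k⁻¹ * (g * x * g⁻¹) * k := by group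
        _ = x := by rw [← h1]; group
    have hg'2 : g' * g' ∈ H1 := hPTH1 _ (hY.mem_sup_iff.2 ⟨mul_mem hg' hg', hY.sq_comm hg'⟩)
    have hk : g' * ((m0 : G) * g' * (m0 : G)⁻¹) ∈ H1 := by
      rw [show g' * ((m0 : G) * g' * (m0 : G)⁻¹) = g' * g' * (g'⁻¹ * m0 * g'⁻¹⁻¹) * (m0 : G)⁻¹ by group]
      exact mul_mem (mul_mem hg'2 (h.blockKer_conj (inv_mem (hSH2 g' hg')) hm0H1)) (inv_mem hm0H1)
    have hdD : d ∈ D := Subgroup.mem_inf.2
      ⟨H2.mul_mem (H2.inv_mem hk.1) (hSH2 g hg), mem_centralizer_singleton_iff.2 hdx.symm.eq⟩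
    obtain ⟨j, n, hn, hdn⟩ := Nat.exists_eq_two_pow_mul_odd (orderOf_pos d).ne'
    have h1 : d ^ n ∈ H1 := hD2 _ (pow_mem hdD n) j (by rw [← pow_mul, mul_comm, ← hdn, pow_orderOf_eq_one])
    -- `g ≡ d` modulo the kernel
    have hmod : ∀ i : ℕ, ∃ r ∈ H1, g ^ i = r * d ^ i := by
      intro i
      induction i with
      | zero => exact ⟨1, one_mem _, by simp⟩
      | succ i ih =>
        obtain ⟨r, hr, hri⟩ := ih
        refine ⟨r * (d ^ i * (g' * ((m0 : G) * g' * (m0 : G)⁻¹)) * (d ^ i)⁻¹),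
          mul_mem hr (h.blockKer_conj (pow_mem hdD.1 i) hk), ?_⟩
        rw [pow_succ, hri, pow_succ, show g = g' * ((m0 : G) * g' * (m0 : G)⁻¹) * d from (mul_inv_cancel_left _ _).symm]
        group
    obtain ⟨r, hr, hrn⟩ := hmod n
    have hgn : g ^ n ∈ H1 := by rw [hrn]; exact mul_mem hr h1
    obtain ⟨l, hl⟩ := hY.two ⟨g, hg⟩
    have hl' : g ^ 2 ^ l = 1 := congrArg Subtype.val hl
    have hcop : Nat.gcd n (2 ^ l) = 1 := Nat.Coprime.pow_right _ (Nat.coprime_two_right.2 hn)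
    have h5 : g = (g ^ n) ^ (Nat.gcdA n (2 ^ l)) := by
      have e := Nat.gcd_eq_gcd_ab n (2 ^ l)
      rw [hcop] at e
      conv_lhs => rw [← zpow_one g, show (1 : ℤ) = ((1 : ℕ) : ℤ) from rfl, e, zpow_add, zpow_mul, zpow_mul,
        zpow_natCast, zpow_natCast, hl', one_zpow, mul_one]
    rw [h5]
    exact H1.zpow_mem hgn _
  refine ⟨fun g hg w hw => ?_, ?_⟩
  · have := (hSH1 g hg).2 w hw
    rwa [hWi w hw] at this
  -- Frattini
  let K : Subgroup G := H1 ⊓ Subgroup.centralizer (E : Set G)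
  have hSK : S ≤ K := fun g hg => ⟨hSH1 g hg, mem_centralizer_iff.2 fun e he => (hY.centE g hg e he).symm.eq⟩
  have hUK : S.map (MulAut.conj (m0 : G)).toMonoidHom ≤ K := by
    rintro _ ⟨g, hg, rfl⟩
    refine Subgroup.mem_inf.2 ⟨H1.mul_mem (H1.mul_mem hm0H1 (hSH1 g hg)) (H1.inv_mem hm0H1),
      mem_centralizer_iff.2 fun e he => ?_⟩
    have h1 := (Commute.conj_iff (m0 : G)).2
      (hY.centE g hg _ (h.conj_mem (inv_smul_eq_iff.2 hm0p.symm) he : (m0 : G)⁻¹ * e * (m0 : G)⁻¹⁻¹ ∈ E))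
    rw [show (m0 : G) * ((m0 : G)⁻¹ * e * (m0 : G)⁻¹⁻¹) * (m0 : G)⁻¹ = e by group] at h1
    exact h1.symm.eq
  obtain ⟨k, hk, hkS⟩ := hY.exists_conj_le (H := K) (fun g hg => hg.1.1.1.1) hSK (hY.two.map _) hUK
  set c1 := k * (m0 : G) with hc1
  have hc1H : c1 ∈ H1 := mul_mem hk.1 hm0H1
  obtain ⟨g, hg, hgx⟩ := hY.surj _ hc1H.1.1.2
  set c2 := g⁻¹ * c1 with hc2
  have hc2H : c2 ∈ H1 := mul_mem (inv_mem (hSH1 g hg)) hc1H
  have hc2x : Commute x c2 := by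
    refine (mul_inv_eq_iff_eq_mul.1 ?_).symm
    rw [mul_assoc _ x x, invol_mul_self hxb.invol, mul_one] at hgx
    calc g⁻¹ * c1 * x * (g⁻¹ * c1)⁻¹ = g⁻¹ * (c1 * x * c1⁻¹) * g := by group
      _ = x := by rw [← hgx]; group
  have hc2S : ∀ u ∈ S, c2 * u * c2⁻¹ ∈ S := fun u hu => by
    rw [show c2 * u * c2⁻¹ = g⁻¹ * (k * ((m0 : G) * u * (m0 : G)⁻¹) * k⁻¹) * g by rw [hc2, hc1]; group]
    exact mul_mem (mul_mem (inv_mem hg) (hkS _ ⟨u, hu, rfl⟩)) hg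
  have hc2E : ∀ e ∈ E, c2 * e * c2⁻¹ = (m0 : G) * e * (m0 : G)⁻¹ := fun e he => by
    have he' := h.conj_mem hm0p he
    have hgk : Commute (g⁻¹ * k) ((m0 : G) * e * (m0 : G)⁻¹) :=
      ((hY.centE g hg _ he').inv_left).mul_left ((mem_centralizer_iff.1 hk.2 _ he').symm)
    calc c2 * e * c2⁻¹ = (g⁻¹ * k) * ((m0 : G) * e * (m0 : G)⁻¹) * (g⁻¹ * k)⁻¹ := by rw [hc2, hc1]; group
      _ = _ := by rw [hgk.eq, mul_inv_cancel_right]
  have hpowE : ∀ (n : ℕ) (e : G), e ∈ E → c2 ^ n * e * (c2 ^ n)⁻¹ = (m0 : G) ^ n * e * ((m0 : G) ^ n)⁻¹ := by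
    intro n
    induction n with
    | zero => intro e _; simp
    | succ n ih =>
      intro e he
      rw [pow_succ, show c2 ^ n * c2 * e * (c2 ^ n * c2)⁻¹ = c2 ^ n * (c2 * e * c2⁻¹) * (c2 ^ n)⁻¹ by group,
        hc2E e he, ih _ (h.conj_mem hm0p he), pow_succ]
      group
  obtain ⟨j, n, hn, hjn⟩ := Nat.exists_eq_two_pow_mul_odd (orderOf_pos c2).ne'
  refine ⟨c2 ^ 2 ^ j, (pow_mem hc2H _).1.1.1, (hc2x.pow_right _).symm, ?_, ?_, ?_, ?_⟩
  · exact hn.of_dvd_nat (orderOf_dvd_of_pow_eq_one (by rw [← pow_mul, ← hjn, pow_orderOf_eq_one]))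
  · intro u hu
    generalize 2 ^ j = q
    induction q with
    | zero => simpa using hu
    | succ q ih =>
      rw [pow_succ', show c2 * c2 ^ q * u * (c2 * c2 ^ q)⁻¹ = c2 * (c2 ^ q * u * (c2 ^ q)⁻¹) * c2⁻¹ by group]
      exact hc2S _ ih
  · intro e he f hf he1 hf1
    obtain ⟨i, hi⟩ := htrans e he f hf he1 hf1 j
    exact ⟨i, by rw [← pow_mul, hpowE _ e he, hi]⟩
  · exact fun t ht hpt => (pow_mem hc2H _).2 t ⟨ht, hpt⟩

/-- `S` centralizes the pointwise part modulo the members. -/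
theorem norm_ptwise (hS : Setup M z) (hloc : ∀ x : G, IsBad M x → Local M z x)
    (hW2 : ∀ w ∈ wPart M z x T, w * w = 1) (hTW : ∀ t ∈ T, ∀ w ∈ wPart M z x T, Commute t w)
    (hK1 : ∀ g ∈ S, ∀ w ∈ wPart M z x T, ∃ e ∈ h.res.grp (base M), ∃ w' ∈ wPart M z x T, g * w * g⁻¹ = e * w') :
    ∀ g ∈ S, ∀ w ∈ wPart M z x T, g * w * g⁻¹ * w ∈ h.res.grp (base M) :=
  (hY.exists_tor_aux hS hloc hW2 hTW hK1).1

/-- **The torus element.** -/
theorem exists_tor (hS : Setup M z) (hloc : ∀ x : G, IsBad M x → Local M z x)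
    (hW2 : ∀ w ∈ wPart M z x T, w * w = 1) (hTW : ∀ t ∈ T, ∀ w ∈ wPart M z x T, Commute t w)
    (hK1 : ∀ g ∈ S, ∀ w ∈ wPart M z x T, ∃ e ∈ h.res.grp (base M), ∃ w' ∈ wPart M z x T, g * w * g⁻¹ = e * w') :
    ∃ c : G, h.Tor x T S c :=
  (hY.exists_tor_aux hS hloc hW2 hTW hK1).2

end Sylo

end EqRes

end CfsgLib.SECrit.Eq
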