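import Cfsg.Agent.Lib.Invol.SECriterion.EqType.Big.Single
import Cfsg.Agent.Lib.Invol.SECriterion.EqType.Big.SylTorus
import Cfsg.Agent.Lib.Invol.SECriterion.EqType.Big.Central
import Cfsg.Agent.Lib.Invol.SECriterion.EqType.Big.Endgame
import Cfsg.Agent.Lib.Invol.SECriterion.EqType.Equal.SylowTransfer

/-!
# The strong embedding criterion, equal type with many fixed points: the pair fixed by `x` alone

When `T = {1, x}` all squares of `S` lie in `E`, so `S / E` is commutative and the conjugates of `x` in `S`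
under `M` lie in `E x`.  The transfer of `M` into `S / E` is then not trivial at `x`, which the fusion of
two-elements forbids.
-/

set_option autoImplicit false
set_option linter.style.haveILetI false

namespace CfsgLib.SECrit.Eq

open CfsgLib.Invol Small Subgroup

universe u

variable {G : Type u} [Group G] [Finite G] {M : Subgroup G} {z : G}

namespace EqRes.Sylo

variable {h : EqRes M z} {x : G} {a : G ⧸ M} {T P S : Subgroup G}

/-- With squares in the members, conjugates of `x` in `S` under the point stabilizer stay in `E x`. -/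
theorem conj_coset_of_single (hY : h.Sylo x a T P S)
    (hsq : ∀ g ∈ S, g * g ∈ h.res.grp (base M))
    (hfix : ∀ m : G, m • base M = base M → (∀ g ∈ S, m * g * m⁻¹ ∈ S) → m * x * m⁻¹ * x ∈ h.res.grp (base M))
    {m : G} (hm : m • base M = base M) (hmS : m * x * m⁻¹ ∈ S) :
    m * x * m⁻¹ * x ∈ h.res.grp (base M) := by
  set E := h.res.grp (base M) with hE
  set y := m * x * m⁻¹ with hy
  have hyb : Bad z y := hY.frame.bad.conj m
  have hyp : y • base M = base M := hY.smul y hmS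
  have hyy : y * y = 1 := invol_mul_self hyb.invol
  have hSH : S ≤ h.cosetStab hyb hyp := fun g hg => ⟨hY.smul g hg, by
    have e : g * y * g⁻¹ * y = g * y * (g * y) * ((y⁻¹ * (g * g)⁻¹ * y) * (y * y)⁻¹) := by
      rw [hyy, inv_one, mul_one, invol_inv hyb.invol, ← mul_assoc (g * y * (g * y))]
      simp only [mul_inv_rev, mul_assoc]
      rw [← mul_assoc y y, hyy, one_mul, mul_inv_cancel_left]
    rw [e]
    refine mul_mem (hsq _ (mul_mem hg hmS)) (mul_mem ?_ (inv_mem (by rw [hyy]; exact one_mem _)))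
    have h1 := h.conj_mem (inv_smul_eq_iff.2 hyp.symm) (inv_mem (hsq g hg))
    rwa [inv_inv] at h1⟩
  have hUH : S.map (MulAut.conj m).toMonoidHom ≤ h.cosetStab hyb hyp := by
    rintro _ ⟨g, hg, rfl⟩
    refine ⟨?_, ?_⟩
    · show (m * g * m⁻¹) • base M = base M
      rw [mul_smul, mul_smul, inv_smul_eq_iff.2 hm.symm, hY.smul g hg, hm]
    · show m * g * m⁻¹ * y * (m * g * m⁻¹)⁻¹ * y ∈ E
      rw [show m * g * m⁻¹ * y * (m * g * m⁻¹)⁻¹ * y = m * (g * x * g⁻¹ * x) * m⁻¹ by rw [hy]; group]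
      exact h.conj_mem hm (hY.coset g hg)
  obtain ⟨k, hk, hkS⟩ := hY.exists_conj_le (H := h.cosetStab hyb hyp) (fun g hg => hg.1) hSH (hY.two.map _) hUH
  have h1 := hfix (k * m) (by rw [mul_smul, hm, hk.1]) fun g hg => by
    have := hkS _ ⟨g, hg, rfl⟩
    rwa [show k * m * g * (k * m)⁻¹ = k * ((MulAut.conj m).toMonoidHom g) * k⁻¹ by simp [mul_assoc]]
  rw [show k * m * x * (k * m)⁻¹ = k * y * k⁻¹ * (y * y) by rw [hyy, mul_one, hy]; group,
    ← mul_assoc, mul_assoc _ y x] at h1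
  have h2 := E.mul_mem (E.inv_mem hk.2) h1
  rwa [inv_mul_cancel_left] at h2

/-- **A pair fixed by `x` alone does not occur.** -/
theorem false_of_small (hS : Setup M z) (hgen : normalClosure ({z} : Set G) = ⊤)
    (hloc : ∀ x : G, IsBad M x → Local M z x) (hY : h.Sylo x a T P S)
    (hbig : fix M x = (deg M z + 1) ^ 2 + 1 ∨ fix M x = (deg M z + 1) ^ 3 + 1)
    (hT : ∀ t ∈ T, t = 1 ∨ t = x) : False := by
  classical
  haveI : Fact (Nat.Prime 2) := ⟨Nat.prime_two⟩
  set E := h.res.grp (base M) with hE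
  have hxx := invol_mul_self hY.frame.bad.invol
  have hxW := h.self_mem_ptwise hS hloc hY
  have hxS : x ∈ S := hY.T_le hY.frame.self
  have hW : ∀ w ∈ wPart M z x T, w = 1 ∨ w = x := fun w hw => hT w hw.1
  obtain ⟨c, hc⟩ := hY.exists_tor hS hloc
    (fun w hw => by rcases hW w hw with rfl | rfl <;> simp [hxx])
    (fun t ht w hw => by
      rcases hT t ht with rfl | rfl <;> rcases hW w hw with rfl | rfl
      all_goals first | exact Commute.refl _ | exact Commute.one_left _ | exact Commute.one_right _)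
    (fun g hg w hw => by
      rcases hW w hw with rfl | rfl
      · exact ⟨1, one_mem _, 1, one_mem _, by simp⟩
      · exact ⟨_, hY.coset g hg, w, hw, by rw [mul_assoc _ w w, hxx, mul_one]⟩)
  have hcent : ∀ g ∈ S, Commute x g → ∃ v ∈ P, g = v ∨ g = v * x := fun g hg hgx => by
    obtain ⟨v, hv, t, ht, rfl⟩ := hY.decomp g hg hgx
    rcases hT t ht with rfl | rfl
    · exact ⟨v, hv, Or.inl (mul_one v)⟩
    · exact ⟨v, hv, Or.inr rfl⟩
  have hPK : ∀ v ∈ P, v ∈ locKer M z x → v = 1 ∨ v = x := fun v hv hvK =>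
    hT v (h.regKer_le hS hloc hY hv hvK).1
  have hsqP : ∀ g ∈ S, Commute x g → g * g ∈ E := fun g hg hgx => by
    obtain ⟨v, hv, rfl | rfl⟩ := hcent g hg hgx
    · exact h.sq_mem hS hloc hY ⟨g, hv, 1, one_mem _, (mul_one g).symm⟩
    · exact h.sq_mem hS hloc hY ⟨v, hv, x, hxW, rfl⟩
  have hTcard : Nat.card T ≤ 2 := by
    refine (Nat.card_le_card_of_injective (fun t : T => decide ((t : G) = x)) fun s t e => ?_).trans (by simp)
    have e' : (s : G) = x ↔ (t : G) = x := decide_eq_decide.1 e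
    rcases hT s s.2 with h1 | h1 <;> rcases hT t t.2 with h2 | h2
    · exact Subtype.ext (h1.trans h2.symm)
    · exact Subtype.ext ((e'.2 h2).trans h2.symm)
    · exact Subtype.ext (h1.trans (e'.1 h1).symm)
    · exact Subtype.ext (h1.trans h2.symm)
  have hsq : ∀ g ∈ S, g * g ∈ E := hY.sub_sq_mem hbig hc le_rfl hY.reg_le hxS hc.norm hcent hsqP hPK
    ((hY.card_le_cent hY.frame.bad hY.frame.fix_base inf_le_left
      fun g hg => (mem_centralizer_singleton_iff.1 hg.2).symm).trans (Nat.mul_le_mul_left _ hTcard))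
    hY.surj
  have hconj : ∀ m : G, m • base M = base M → m * x * m⁻¹ ∈ S → m * x * m⁻¹ * x ∈ E :=
    fun m hm hmS => hY.conj_coset_of_single hsq
      (fun m hm hmS => hY.fix_of_single hS hc (fun y hy hxy _ => hcent y hy hxy) hPK hm hmS) hm hmS
  -- the quotient by the members
  set N := E.subgroupOf S with hN
  haveI : N.Normal := ⟨fun e he g => by
    rw [hN, mem_subgroupOf]
    show (g : G) * e * (g : G)⁻¹ ∈ E
    rw [(hY.centE g g.2 (e : G) (mem_subgroupOf.1 he)).eq, mul_inv_cancel_right]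
    exact he⟩
  have hV : ∀ u : S ⧸ N, u * u = 1 := fun u => by
    induction u using QuotientGroup.induction_on with
    | H g => rw [← QuotientGroup.mk_mul, QuotientGroup.eq_one_iff]; exact hsq g g.2
  have hVc : ∀ u v : S ⧸ N, u * v = v * u := fun u v => by
    calc u * v = (u * v)⁻¹ := (inv_eq_of_mul_eq_one_left (hV _)).symm
      _ = v * u := by rw [mul_inv_rev, inv_eq_of_mul_eq_one_left (hV u), inv_eq_of_mul_eq_one_left (hV v)]
  letI : CommGroup (S ⧸ N) := { (inferInstance : Group (S ⧸ N)) with mul_comm := hVc }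
  have hA : IsPGroup 2 (S ⧸ N) := fun u => ⟨1, by rw [pow_one, pow_two]; exact hV u⟩
  obtain ⟨Q, hQ⟩ := h.exists_sylow_eq hY
  let χ : S.subgroupOf M →* S ⧸ N :=
    (QuotientGroup.mk' N).comp (subgroupOfEquivOfLe hY.le_M).toMonoidHom
  set ε : S ⧸ N := QuotientGroup.mk' N ⟨x, hxS⟩ with hεdef
  have hε : ε ≠ 1 := fun e =>
    h.bad_notMem hY.frame.bad (mem_subgroupOf.1 ((QuotientGroup.eq_one_iff _).1 e))
  set t : M := ⟨x, mem_M_of_fix hY.frame.fix_base⟩ with htdef
  have ht : orderOf t = 2 := by rw [htdef, orderOf_mk]; exact hY.frame.bad.invol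
  have hεc : ∀ g : M, ∀ hm : g⁻¹ * t * g ∈ S.subgroupOf M, χ ⟨g⁻¹ * t * g, hm⟩ = ε := by
    intro g hm
    have hm' : (g : G)⁻¹ * x * g ∈ S := mem_subgroupOf.1 hm
    have h1 := hconj (g : G)⁻¹ (smul_base_iff.2 (inv_mem g.2)) (by rwa [inv_inv])
    rw [inv_inv] at h1
    refine QuotientGroup.eq.2 ?_
    rw [hN, mem_subgroupOf]
    show ((g : G)⁻¹ * x * g)⁻¹ * x ∈ E
    rw [show ((g : G)⁻¹ * x * g)⁻¹ * x = (g : G)⁻¹ * x⁻¹ * g * x by group, invol_inv hY.frame.bad.invol]
    exact h1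
  haveI : (S.subgroupOf M).FiniteIndex := ⟨index_ne_zero_of_finite⟩
  obtain ⟨d, v, hd, hv, hdp, hvp, hne⟩ := h.exists_two
  have hdv : IsConj z (d * v) := by
    rcases mul_mem (show d ∈ E from Or.inr ⟨hd, hdp⟩) (show v ∈ E from Or.inr ⟨hv, hvp⟩) with h1 | h1
    · exact absurd (by rw [eq_inv_of_mul_eq_one_left h1, h.grp_inv (Or.inr ⟨hv, hvp⟩)]) hne
    · exact h1.1
  have hone := h.res.crit.char_eq_one_of_two hgen hA (MonoidHom.transfer χ) hd hv (mem_M_of_fix hdp)
    (mem_M_of_fix hvp) hdv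
  have h1 := transfer_invol_comm χ ht ε hεc
  rw [hone, MonoidHom.one_apply] at h1
  set n := Nat.card {b : M ⧸ S.subgroupOf M // t • b = b} with hn
  have hodd : Odd n := by
    have hmod := (Crit.isPGroup_zpowers_invol ht).card_modEq_card_fixedPoints (M ⧸ S.subgroupOf M)
    have e : n = Nat.card (MulAction.fixedPoints (zpowers t) (M ⧸ S.subgroupOf M)) :=
      Nat.card_congr (Equiv.subtypeEquivRight fun b =>
        ⟨fun hb g => Crit.forall_zpowers_fix hb g g.2, fun hb => hb ⟨t, mem_zpowers t⟩⟩)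
    have h2 : ¬ 2 ∣ (Q : Subgroup M).index := Q.not_dvd_index
    rw [hQ, index_eq_card] at h2
    rw [e, Nat.odd_iff, ← hmod]
    omega
  obtain ⟨k, hk⟩ := hodd
  rw [hk, pow_succ, pow_mul, pow_two, hV, one_pow, one_mul] at h1
  exact hε h1.symm

end EqRes.Sylo

end CfsgLib.SECrit.Eq
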