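import Cfsg.Agent.Lib.Invol.SECriterion.EqType.Equal.Torus
import Cfsg.Agent.Lib.Invol.SECriterion.ResOfA

/-!
# The strong embedding criterion, equal type: the torus on the members

The regular two-group of a bad involution centralizes the members: its image on the group `E` is a
two-group normalized by a group transitive on the members.  So every element centralizing `x` acts on
`E` like one fixing two given fixed points, and the torus is normal in the image of `C_M(x)`.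
-/

set_option autoImplicit false
set_option linter.style.haveILetI false

namespace CfsgLib.SECrit.Eq

open CfsgLib.Invol Small

universe u

variable {G : Type u} [Group G] [Finite G] {M : Subgroup G} {z : G}

namespace EqRes

variable (h : EqRes M z)

/-- **A normalized two-group at the base point centralizes the members.** -/
theorem commute_of_two (hS : Setup M z) {x : G} (hx : Bad z x) (hxp : x • base M = base M)
    {P : Subgroup G} (hP : IsPGroup 2 P) (hPp : ∀ g ∈ P, g • base M = base M)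
    (hPn : ∀ c : G, Commute x c → c • base M = base M → ∀ g ∈ P, c * g * c⁻¹ ∈ P) {g : G} (hg : g ∈ P)
    {e : G} (he : e ∈ h.res.grp (base M)) : Commute g e := by
  haveI : Fact (Nat.Prime 2) := ⟨Nat.prime_two⟩
  rcases (show e = 1 ∨ _ from he) with rfl | ⟨hez, hep⟩
  · exact Commute.one_right g
  -- a member fixed by `P`
  obtain ⟨d, hd, hdp, hPd⟩ := hS.crit.exists_commuting_at hP hPp
  obtain ⟨a, hap, ha⟩ := h.res.bad_two_fix hx hxp
  -- the centralizer of `x` is transitive on the members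
  obtain ⟨c, hcA, hce⟩ := hS.crit.exists_conj_commuting (Crit.isPGroup_zpowers_invol hx.invol) hap.symm
    (Crit.forall_zpowers_fix hxp) (Crit.forall_zpowers_fix ha) hd hez
    (forall_zpowers_commute (h.commute_grp hx hxp (Or.inr ⟨hd, hdp⟩)))
    (forall_zpowers_commute (h.commute_grp hx hxp he))
  have hxc : Commute x c := hcA x (Subgroup.mem_zpowers x)
  have hcp : c • base M = base M := hS.crit.smul_eq_of_conj hez hce hdp hep
  have h1 := hPn c⁻¹ hxc.inv_right (inv_smul_eq_iff.2 hcp.symm) g hg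
  rw [inv_inv] at h1
  have h2 := (hPd _ h1).conj c
  rwa [show c * (c⁻¹ * g * c) * c⁻¹ = g by group, hce] at h2

/-- The image of an element centralizing `x` comes from one fixing a given fixed point. -/
theorem exists_centImage_fix (hS : Setup M z) (hloc : ∀ x : G, IsBad M x → Local M z x) {x : G}
    (hx : Bad z x) (hxp : x • base M = base M) {a : G ⧸ M} (hap : a ≠ base M) (ha : x • a = a) {m : M}
    (hmx : Commute (m : G) x) :
    ∃ n : M, Commute (n : G) x ∧ (n : G) • a = a ∧ h.conjE.rangeRestrict n = h.conjE.rangeRestrict m := by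
  have hl := hloc x ⟨hx.invol, base M, a, hap.symm, hxp, ha⟩
  obtain ⟨d, e, hd, he, hdp, hep, hne⟩ := h.exists_two
  have hxd := h.commute_grp hx hxp (Or.inr ⟨hd, hdp⟩)
  have hxe := h.commute_grp hx hxp (Or.inr ⟨he, hep⟩)
  obtain ⟨P, hP, hPx, hPp, hPn, htr, -⟩ := Setup.exists_regular_twoGroup hS hl
    ⟨d, e, hd, he, hxd, hxe, hl.comm_at d e _ hd he hxd hxe hdp hep, hne⟩ hxp
  have hmp : (m : G) • base M = base M := smul_base_iff.2 m.2
  obtain ⟨g, hg, hga⟩ := htr a ((m : G) • a) ha (by rw [smul_smul, ← hmx.eq, mul_smul, ha]) hap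
    fun hh => hap (smul_left_cancel (m : G) (hh.trans hmp.symm))
  refine ⟨⟨g⁻¹ * (m : G), mul_mem (inv_mem (smul_base_iff.1 (hPp g hg))) m.2⟩,
    (hPx g hg).symm.inv_left.mul_left hmx, by rw [mul_smul, ← hga, inv_smul_smul], ?_⟩
  have h1 : h.conjE.rangeRestrict ⟨g⁻¹, inv_mem (smul_base_iff.1 (hPp g hg))⟩ = 1 :=
    Subtype.ext (h.conjE_eq_one_iff.2 fun w hw => (h.commute_of_two hS hx hxp hP hPp hPn hg hw).inv_left)
  rw [show (⟨g⁻¹ * (m : G), _⟩ : M) = ⟨g⁻¹, inv_mem (smul_base_iff.1 (hPp g hg))⟩ * m from rfl, map_mul, h1,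
    one_mul]

/-- **The torus of a pair of points**: its elements come from elements commuting with every bad
involution fixing both points. -/
theorem exists_torus_pair (hS : Setup M z)
    (hloc : ∀ x : G, IsBad M x → Local M z x) {x : G} (hx : Bad z x) (hxp : x • base M = base M) {a : G ⧸ M}
    (hap : a ≠ base M) (ha : x • a = a) :
    ∃ C : Subgroup h.conjE.range, Pencil.Singer h.conjE.range (h.res.grp (base M)) C ∧ IsCyclic C ∧
      C ≤ h.centImage x ∧ (∀ g ∈ h.centImage x, ∀ c ∈ C, g * c * g⁻¹ ∈ C) ∧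
      (∀ l ∈ C, ∃ m : M, h.conjE.rangeRestrict m = l ∧
        ∀ y : G, Bad z y → y • base M = base M → y • a = a → Commute (m : G) y) ∧
      (∀ c ∈ C, ∃ m : M, (m : G) ∈ locGroup z x ∧ h.conjE.rangeRestrict m = c) ∧
      ∃ t : G, IsConj z t ∧ t • base M = a ∧ ∀ l ∈ C, ∃ m n : M, h.conjE.rangeRestrict m = l ∧
        h.conjE.rangeRestrict n = l⁻¹ ∧ (n : G) = t * (m : G) * t ∧ (m : G) • a = a ∧
        ∀ y : G, Bad z y → y • base M = base M → y • a = a → Commute (m : G) y := by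
  classical
  have hl := hloc x ⟨hx.invol, base M, a, hap.symm, hxp, ha⟩
  obtain ⟨f, hf, hfa, hxf⟩ := h.res.crit.exists_commuting_invol hx.invol ha
  obtain ⟨d₀, e₀, hd₀, he₀, hd₀p, he₀p, hne₀⟩ := h.exists_two
  have hxE : ∀ e ∈ h.res.grp (base M), Commute x e := fun e he => h.commute_grp hx hxp he
  -- swaps
  let Sw := {k : G // IsConj z k ∧ Commute x k ∧ k • base M = a}
  have hsw : ∀ k : Sw, k.1 • a = base M := fun k => by
    have h1 : k.1 • k.1 • base M = base M := by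
      rw [smul_smul, invol_mul_self (h.res.crit.orderOf_conj k.2.1), one_smul]
    rwa [k.2.2.2] at h1
  have hmid : ∀ e ∈ h.res.grp (base M), e ≠ 1 → ∃ k : Sw, k.1 * e * k.1⁻¹ = f := by
    intro e he he1
    obtain ⟨hez, hep⟩ := he.resolve_left he1
    obtain ⟨g, hg, hgf⟩ := h.res.crit.exists_midpoint hez hf hep hfa hap.symm
    exact ⟨⟨g, hg, h.res.crit.commute_midpoint hez hf hg hep hfa hap.symm hgf (hxE e he) hxf,
      h.res.crit.smul_eq_of_conj hf hgf hep hfa⟩, hgf⟩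
  obtain ⟨t, -⟩ := hmid d₀ (Or.inr ⟨hd₀, hd₀p⟩) (invol_ne_one (h.res.crit.orderOf_conj hd₀))
  let mk2 : Sw → Sw → M := fun k k' => ⟨k.1 * k'.1, smul_base_iff.1 (by rw [mul_smul, k'.2.2.2, hsw])⟩
  let gen : Set h.conjE.range := Set.range fun k : Sw => h.conjE.rangeRestrict (mk2 k t)
  let C := Subgroup.closure gen
  have hcommgen : ∀ g ∈ gen, ∀ g' ∈ gen, g * g' = g' * g := by
    rintro _ ⟨k, rfl⟩ _ ⟨k', rfl⟩
    have h1 : h.conjE.rangeRestrict (mk2 k t * mk2 k' t * (mk2 k t)⁻¹ * (mk2 k' t)⁻¹) = 1 := by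
      refine Subtype.ext (h.conjE_eq_one_iff.2 fun e he => ?_)
      rcases (show e = 1 ∨ _ from he) with rfl | ⟨hez, hep⟩
      · exact Commute.one_right _
      exact hS.swap_comm hl hx.invol hap hxp ha hd₀ he₀ (hxE _ (Or.inr ⟨hd₀, hd₀p⟩))
        (hxE _ (Or.inr ⟨he₀, he₀p⟩)) hd₀p he₀p hne₀ t.2.1 t.2.2.1 t.2.2.2 k.2.1 k.2.2.1 k.2.2.2 k'.2.1 k'.2.2.1
        k'.2.2.2 hez (hxE e (Or.inr ⟨hez, hep⟩))
    simp only [map_mul, map_inv, mul_inv_eq_iff_eq_mul, one_mul] at h1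
    exact h1
  have hcomm : ∀ g ∈ C, ∀ g' ∈ C, g * g' = g' * g := by
    have h1 : C ≤ Subgroup.centralizer gen := (Subgroup.closure_le _).2 fun g hg =>
      Subgroup.mem_centralizer_iff.2 fun g' hg' => hcommgen g' hg' g hg
    have h2 : C ≤ Subgroup.centralizer (C : Set h.conjE.range) := (Subgroup.closure_le _).2 fun g hg =>
      Subgroup.mem_centralizer_iff.2 fun g' hg' => ((Subgroup.mem_centralizer_iff.1 (h1 hg')) g hg).symm
    exact fun g hg g' hg' => Subgroup.mem_centralizer_iff.1 (h2 hg') g hg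
  have hf₀ : t.1 * f * t.1⁻¹ ∈ h.res.grp (base M) := by
    refine Or.inr ⟨hf.trans (isConj_iff.2 ⟨t.1, rfl⟩), ?_⟩
    rw [mul_smul, mul_smul, inv_smul_eq_iff.2 (hsw t).symm, hfa, hsw]
  have hge : ∀ e ∈ h.res.grp (base M), e ≠ 1 →
      ∃ c ∈ C, (((c • (⟨_, hf₀⟩ : h.res.grp (base M))) : h.res.grp (base M)) : G) = e := by
    intro e he he1
    obtain ⟨k, hk⟩ := hmid e he he1
    refine ⟨h.conjE.rangeRestrict (mk2 k t), Subgroup.subset_closure ⟨k, rfl⟩, ?_⟩
    show k.1 * t.1 * (t.1 * f * t.1⁻¹) * (k.1 * t.1)⁻¹ = e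
    have htt := invol_mul_self (h.res.crit.orderOf_conj t.2.1)
    calc k.1 * t.1 * (t.1 * f * t.1⁻¹) * (k.1 * t.1)⁻¹
        = k.1 * ((t.1 * t.1) * f * (t.1 * t.1)⁻¹) * k.1⁻¹ := by group
      _ = k.1 * (k.1 * e * k.1⁻¹) * k.1⁻¹ := by rw [htt, hk]; group
      _ = (k.1 * k.1) * e * (k.1 * k.1)⁻¹ := by group
      _ = e := by rw [invol_mul_self (h.res.crit.orderOf_conj k.2.1), one_mul, inv_one, mul_one]
  have hsing : Pencil.Singer h.conjE.range (h.res.grp (base M)) C := by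
    refine ⟨fun e => Subtype.ext (h.res.grp_sq e.2), hcomm, fun e e' he he' => ?_, fun g hg => ?_⟩
    · obtain ⟨c, hc, hce⟩ := hge e e.2 fun e1 => he (Subtype.ext e1)
      obtain ⟨c', hc', hce'⟩ := hge e' e'.2 fun e1 => he' (Subtype.ext e1)
      refine ⟨c' * c⁻¹, mul_mem hc' (inv_mem hc), ?_⟩
      rw [← Subtype.ext hce, mul_smul, inv_smul_smul]
      exact Subtype.ext hce'
    · exact Subtype.ext (MulEquiv.ext hg)
  have hCle : C ≤ h.centImage x := by
    refine (Subgroup.closure_le _).2 ?_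
    rintro _ ⟨k, rfl⟩
    exact h.mem_centImage.2 ⟨mk2 k t, (k.2.2.1.mul_right t.2.2.1).symm, rfl⟩
  obtain ⟨β, hβ⟩ := IsPGroup.iff_card.1 (h.res.isPGroup_grp (base M))
  have hne1 : (⟨d₀, Or.inr ⟨hd₀, hd₀p⟩⟩ : h.res.grp (base M)) ≠ 1 := fun e1 =>
    invol_ne_one (h.res.crit.orderOf_conj hd₀) (congrArg Subtype.val e1)
  have hloc' : ∀ c ∈ C, ∃ m : M, (m : G) ∈ locGroup z x ∧ h.conjE.rangeRestrict m = c := by
    intro c hc
    induction hc using Subgroup.closure_induction with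
    | mem c hc =>
      obtain ⟨k, rfl⟩ := hc
      exact ⟨mk2 k t, mul_mem (mem_locGroup k.2.1 k.2.2.1) (mem_locGroup t.2.1 t.2.2.1), rfl⟩
    | one => exact ⟨1, one_mem _, map_one _⟩
    | mul a b _ _ iha ihb =>
      obtain ⟨m, hm, rfl⟩ := iha
      obtain ⟨n, hn, rfl⟩ := ihb
      exact ⟨m * n, mul_mem hm hn, map_mul _ m n⟩
    | inv a _ iha =>
      obtain ⟨m, hm, rfl⟩ := iha
      exact ⟨m⁻¹, inv_mem hm, map_inv _ m⟩
  have hcY : ∀ y : G, Bad z y → y • base M = base M → y • a = a → ∀ v : Sw, Commute v.1 y := by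
    intro y hy hyp hya v
    have hfz : IsConj z (v.1 * d₀ * v.1⁻¹) := hd₀.trans (isConj_iff.2 ⟨v.1, rfl⟩)
    have hfa' : (v.1 * d₀ * v.1⁻¹) • a = a := by
      rw [mul_smul, mul_smul, inv_smul_eq_iff.2 v.2.2.2.symm, hd₀p, v.2.2.2]
    exact (h.res.crit.commute_midpoint hd₀ hfz v.2.1 hd₀p hfa' hap.symm rfl
      (h.commute_grp hy hyp (Or.inr ⟨hd₀, hd₀p⟩)) (h.commute_grp hy hya (Or.inr ⟨hfz, hfa'⟩))).symm
  have htt : t.1 * t.1 = 1 := invol_mul_self (h.res.crit.orderOf_conj t.2.1)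
  have hinvert : ∀ l ∈ C, ∃ m n : M, h.conjE.rangeRestrict m = l ∧ h.conjE.rangeRestrict n = l⁻¹ ∧
      (n : G) = t.1 * (m : G) * t.1 ∧ (m : G) • a = a ∧
      ∀ y : G, Bad z y → y • base M = base M → y • a = a → Commute (m : G) y := by
    intro l hl'
    induction hl' using Subgroup.closure_induction with
    | mem l hl' =>
      obtain ⟨k, rfl⟩ := hl'
      refine ⟨mk2 k t, (mk2 k t)⁻¹, rfl, map_inv _ _, ?_, ?_, fun y hy hyp hya =>
        (hcY y hy hyp hya k).mul_left (hcY y hy hyp hya t)⟩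
      · show (k.1 * t.1)⁻¹ = t.1 * (k.1 * t.1) * t.1
        rw [mul_inv_rev, invol_inv (h.res.crit.orderOf_conj t.2.1), invol_inv (h.res.crit.orderOf_conj k.2.1),
          show t.1 * (k.1 * t.1) * t.1 = t.1 * k.1 * (t.1 * t.1) by group, htt, mul_one]
      · show (k.1 * t.1) • a = a
        rw [mul_smul, hsw t, k.2.2.2]
    | one => exact ⟨1, 1, map_one _, by rw [map_one, inv_one], by simp [htt], one_smul _ _,
        fun y _ _ _ => Commute.one_left y⟩
    | mul l l' hl hl' ih ih' =>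
      obtain ⟨m, n, e1, e2, e3, e4, e5⟩ := ih
      obtain ⟨m', n', e1', e2', e3', e4', e5'⟩ := ih'
      refine ⟨m * m', n * n', by rw [map_mul, e1, e1'], ?_, ?_, by rw [Subgroup.coe_mul, mul_smul, e4', e4],
        fun y hy hyp hya => (e5 y hy hyp hya).mul_left (e5' y hy hyp hya)⟩
      · rw [map_mul, e2, e2', ← mul_inv_rev, hsing.comm l' hl' l hl]
      · show (n : G) * (n' : G) = t.1 * ((m : G) * (m' : G)) * t.1
        rw [e3, e3', show t.1 * (m : G) * t.1 * (t.1 * (m' : G) * t.1) = t.1 * (m : G) * (t.1 * t.1) * (m' : G) * t.1 by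
          group, htt]
        group
    | inv l _ ih =>
      obtain ⟨m, n, e1, e2, e3, e4, e5⟩ := ih
      refine ⟨m⁻¹, n⁻¹, by rw [map_inv, e1], by rw [map_inv, e2], ?_, inv_smul_eq_iff.2 e4.symm,
        fun y hy hyp hya => (e5 y hy hyp hya).inv_left⟩
      show (n : G)⁻¹ = t.1 * (m : G)⁻¹ * t.1
      rw [e3, mul_inv_rev, mul_inv_rev, invol_inv (h.res.crit.orderOf_conj t.2.1), mul_assoc]
  refine ⟨C, hsing, (hsing.fix_normalizer hβ ⊥ hne1 (fun g hg => by rw [Subgroup.mem_bot.1 hg, one_smul])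
    (fun g hg c hc => by rw [Subgroup.mem_bot.1 hg]; simpa using hc)).2.2, hCle, ?_, ?_, hloc',
    t.1, t.2.1, t.2.2.2, hinvert⟩
  swap
  · -- the elements commute with the bad involutions of the pair
    intro l hl'
    let K : Subgroup M :=
      (Subgroup.centralizer {y : G | Bad z y ∧ y • base M = base M ∧ y • a = a}).subgroupOf M
    have hle : C ≤ K.map h.conjE.rangeRestrict := by
      refine (Subgroup.closure_le _).2 ?_
      rintro _ ⟨k, rfl⟩
      refine ⟨mk2 k t, Subgroup.mem_subgroupOf.2 (Subgroup.mem_centralizer_iff.2 ?_), rfl⟩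
      rintro y ⟨hy, hyp, hya⟩
      have hk : ∀ v : Sw, Commute y v.1 := by
        intro v
        have hfz : IsConj z (v.1 * d₀ * v.1⁻¹) := hd₀.trans (isConj_iff.2 ⟨v.1, rfl⟩)
        have hfa' : (v.1 * d₀ * v.1⁻¹) • a = a := by
          rw [mul_smul, mul_smul, inv_smul_eq_iff.2 v.2.2.2.symm, hd₀p, v.2.2.2]
        exact h.res.crit.commute_midpoint hd₀ hfz v.2.1 hd₀p hfa' hap.symm rfl
          (h.commute_grp hy hyp (Or.inr ⟨hd₀, hd₀p⟩)) (h.commute_grp hy hya (Or.inr ⟨hfz, hfa'⟩))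
      exact ((hk k).mul_right (hk t)).eq
    obtain ⟨m, hm, rfl⟩ := hle hl'
    exact ⟨m, rfl, fun y hy hyp hya =>
      (Subgroup.mem_centralizer_iff.1 (Subgroup.mem_subgroupOf.1 hm) y ⟨hy, hyp, hya⟩).symm⟩
  intro g hg c hc
  obtain ⟨m, hmx, rfl⟩ := h.mem_centImage.1 hg
  have hmp : (m : G) • base M = base M := smul_base_iff.2 m.2
  -- fix `a`
  obtain ⟨n, hnx, hna, hnm⟩ := h.exists_centImage_fix hS hloc hx hxp hap ha hmx
  have hnp : (n : G) • base M = base M := smul_base_iff.2 n.2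
  rw [← hnm]
  have hni : (n : G)⁻¹ • base M = base M := inv_smul_eq_iff.2 hnp.symm
  have hconj : ∀ k : Sw, ∃ k' : Sw, (n : G) * k.1 * (n : G)⁻¹ = k'.1 := fun k =>
    ⟨⟨(n : G) * k.1 * (n : G)⁻¹, k.2.1.trans (isConj_iff.2 ⟨n, rfl⟩),
      (hnx.symm.mul_right k.2.2.1).mul_right hnx.symm.inv_right,
      by rw [mul_smul, mul_smul, hni, k.2.2.2, hna]⟩, rfl⟩
  induction hc using Subgroup.closure_induction with
  | mem c hc =>
    obtain ⟨k, rfl⟩ := hc
    obtain ⟨k', hk'⟩ := hconj k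
    obtain ⟨t', ht'⟩ := hconj t
    have h1 : n * mk2 k t * n⁻¹ = mk2 k' t * (mk2 t' t)⁻¹ := by
      refine Subtype.ext ?_
      show (n : G) * (k.1 * t.1) * (n : G)⁻¹ = k'.1 * t.1 * (t'.1 * t.1)⁻¹
      rw [← hk', ← ht', mul_inv_rev]
      conv_lhs => rw [← invol_inv (h.res.crit.orderOf_conj t.2.1)]
      group
    rw [← map_inv, ← map_mul, ← map_mul, h1, map_mul, map_inv]
    exact mul_mem (Subgroup.subset_closure ⟨k', rfl⟩) (inv_mem (Subgroup.subset_closure ⟨t', rfl⟩))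
  | one => simp
  | mul c c' _ _ ihc ihc' =>
    rw [show h.conjE.rangeRestrict n * (c * c') * (h.conjE.rangeRestrict n)⁻¹ =
      (h.conjE.rangeRestrict n * c * (h.conjE.rangeRestrict n)⁻¹) *
        (h.conjE.rangeRestrict n * c' * (h.conjE.rangeRestrict n)⁻¹) by group]
    exact mul_mem ihc ihc'
  | inv c _ ihc =>
    rw [show h.conjE.rangeRestrict n * c⁻¹ * (h.conjE.rangeRestrict n)⁻¹ =
      (h.conjE.rangeRestrict n * c * (h.conjE.rangeRestrict n)⁻¹)⁻¹ by group]
    exact inv_mem ihc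

/-- **The torus.** -/
theorem exists_torus_group' (hS : Setup M z)
    (hloc : ∀ x : G, IsBad M x → Local M z x) {x : G} (hx : Bad z x) (hxp : x • base M = base M) :
    ∃ C : Subgroup h.conjE.range, Pencil.Singer h.conjE.range (h.res.grp (base M)) C ∧ IsCyclic C ∧
      C ≤ h.centImage x ∧ ∀ g ∈ h.centImage x, ∀ c ∈ C, g * c * g⁻¹ ∈ C := by
  obtain ⟨a, hap, ha⟩ := h.res.bad_two_fix hx hxp
  obtain ⟨C, h1, h2, h3, h4, -, -⟩ := h.exists_torus_pair hS hloc hx hxp hap ha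
  exact ⟨C, h1, h2, h3, h4⟩

/-- **The torus**, coming from the group of `x`. -/
theorem exists_torus_group_loc (hS : Setup M z)
    (hloc : ∀ x : G, IsBad M x → Local M z x) {x : G} (hx : Bad z x) (hxp : x • base M = base M) :
    ∃ C : Subgroup h.conjE.range, Pencil.Singer h.conjE.range (h.res.grp (base M)) C ∧ IsCyclic C ∧
      C ≤ h.centImage x ∧ (∀ g ∈ h.centImage x, ∀ c ∈ C, g * c * g⁻¹ ∈ C) ∧
      ∀ c ∈ C, ∃ m : M, (m : G) ∈ locGroup z x ∧ h.conjE.rangeRestrict m = c := by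
  obtain ⟨a, hap, ha⟩ := h.res.bad_two_fix hx hxp
  obtain ⟨C, h1, h2, h3, h4, -, h5, -⟩ := h.exists_torus_pair hS hloc hx hxp hap ha
  exact ⟨C, h1, h2, h3, h4, h5⟩

end EqRes

end CfsgLib.SECrit.Eq
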