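import Cfsg.Agent.Lib.Invol.SECriterion.EqType.Big.Frame
import Cfsg.Agent.Lib.Invol.SECriterion.EqType.Big.Torus

/-!
# The strong embedding criterion, equal type with many fixed points: a twisting involution gives translations

Two commuting bad involutions `x`, `y` fix two points and not the same set.  Then the regular group of `y`
holds an element centralizing the members at the base point which moves `x` inside its coset.
-/

set_option autoImplicit false
set_option linter.style.haveILetI false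

namespace CfsgLib.SECrit

open CfsgLib.Invol Subgroup

section

universe v

variable {G : Type v} [Group G] [Finite G] {M : Subgroup G} {z : G}

/-- What commutes with `x` at the point normalizes the regular group. -/
theorem RegTwo.conj {x : G} {p : G ⧸ M} {P : Subgroup G} (hd : RegTwo M z x p P) {c : G}
    (hxc : Commute x c) (hcp : c • p = p) {g : G} (hg : g ∈ P) : c * g * c⁻¹ ∈ P := by
  obtain ⟨hgL, hgp, k, hk⟩ := (hd.mem g).1 hg
  refine (hd.mem _).2 ⟨?_, by rw [mul_smul, mul_smul, inv_smul_eq_iff.2 hcp.symm, hgp, hcp], k, ?_⟩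
  · clear hgp hk hg
    induction hgL using closure_induction with
    | mem d hd' =>
      exact mem_locGroup (hd'.1.trans (isConj_iff.2 ⟨c, rfl⟩)) ((hxc.mul_right hd'.2).mul_right hxc.inv_right)
    | one => simp
    | mul a b _ _ iha ihb =>
      rw [show c * (a * b) * c⁻¹ = c * a * c⁻¹ * (c * b * c⁻¹) by group]; exact mul_mem iha ihb
    | inv a _ iha => rw [show c * a⁻¹ * c⁻¹ = (c * a * c⁻¹)⁻¹ by group]; exact inv_mem iha
  · rw [conj_pow, hk, mul_one, mul_inv_cancel]

theorem RegTwo.commute {x : G} {p : G ⧸ M} {P : Subgroup G} (hd : RegTwo M z x p P) {g : G}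
    (hg : g ∈ P) : Commute x g :=
  commute_of_mem_locGroup ((hd.mem g).1 hg).1

theorem RegTwo.two {x : G} {p : G ⧸ M} {P : Subgroup G} (hd : RegTwo M z x p P) : IsPGroup 2 P :=
  fun g => ((hd.mem g).1 g.2).2.2.imp fun k hk => Subtype.ext (by rwa [SubmonoidClass.coe_pow, coe_one])

end

end CfsgLib.SECrit

namespace CfsgLib.SECrit.Eq

open CfsgLib.Invol Small Subgroup

universe u

variable {G : Type u} [Group G] [Finite G] {M : Subgroup G} {z : G}

namespace EqRes

variable (h : EqRes M z)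
include h

/-- The regular group, with its members. -/
theorem exists_regTwo_base (hS : Setup M z) (hloc : ∀ x : G, IsBad M x → Local M z x) {x : G} (hx : Bad z x)
    (hxp : x • base M = base M)
    (hm : fix M x = (deg M z + 1) ^ 2 + 1 ∨ fix M x = (deg M z + 1) ^ 3 + 1) :
    ∃ P : Subgroup G, RegTwo M z x (base M) P ∧ h.res.grp (base M) ≤ P ∧
      (∀ e ∈ h.res.grp (base M), ∀ g ∈ P, Commute e g) ∧
      (∀ g ∈ P, ∀ e ∈ h.res.grp (base M), Commute g e) := by
  obtain ⟨n, hn⟩ := IsPGroup.iff_card.1 (h.res.isPGroup_grp (base M))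
  rw [h.res.card_grp] at hn
  have hc : Nat.card (CAt z ({x} : Set G) (base M)) = deg M z := h.full x _ hx hxp
  have hn2 : 2 ≤ n := by
    have := h.two_le
    rcases n with - | - | n
    · rw [pow_zero] at hn; omega
    · rw [zero_add, pow_one] at hn; omega
    · omega
  have key : ∀ m : ℕ, 2 ≤ m → fix M x = (deg M z + 1) ^ m + 1 →
      ∃ P : Subgroup G, RegTwo M z x (base M) P := fun m hm2 hf => by
    obtain ⟨P, hP, -, -⟩ := hS.exists_regTwo (hloc x (h.isBad hx)) (h.isBad hx) hxp (β := n) (m := m)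
      (by rw [hc, hn]) hn2 hm2 (by
        show fix M x = _
        rw [hf, hn, ← pow_mul])
    exact ⟨P, hP⟩
  obtain ⟨P, hP⟩ : ∃ P : Subgroup G, RegTwo M z x (base M) P :=
    hm.elim (key 2 le_rfl) (key 3 (by norm_num))
  have hline := h.lineGrp_eq hx hxp
  refine ⟨P, hP, hline ▸ hP.line_le, fun e he g hg => hP.comm e (hline ▸ he) g hg, fun g hg e he => ?_⟩
  exact (hP.comm e (hline ▸ he) g hg).symm

/-- A product of two swaps moves a member to another one. -/
theorem exists_swap_conj {x y : G} (hx : Bad z x) (hy : Bad z y) {a : G ⧸ M} (hap : a ≠ base M)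
    (hxp : x • base M = base M) (hxa : x • a = a) (hyp : y • base M = base M) (hya : y • a = a)
    {e e' : G} (he : IsConj z e) (hep : e • base M = base M) (he' : IsConj z e') (he'p : e' • base M = base M) :
    ∃ c : G, c • base M = base M ∧ Commute x c ∧ Commute y c ∧ c ∈ locGroup z y ∧ c * e * c⁻¹ = e' := by
  obtain ⟨f, hf, hfa, hxf⟩ := h.res.crit.exists_commuting_invol hx.invol hxa
  have hyf : Commute y f := h.commute_grp hy hya (Or.inr ⟨hf, hfa⟩)
  have hswap : ∀ d : G, IsConj z d → d • base M = base M →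
      ∃ s : G, IsConj z s ∧ Commute x s ∧ Commute y s ∧ s * d * s⁻¹ = f ∧ s • base M = a := by
    intro d hd hdp
    obtain ⟨s, hs, hsd⟩ := h.res.crit.exists_midpoint hd hf hdp hfa hap.symm
    exact ⟨s, hs, h.res.crit.commute_midpoint hd hf hs hdp hfa hap.symm hsd
        (h.commute_grp hx hxp (Or.inr ⟨hd, hdp⟩)) hxf,
      h.res.crit.commute_midpoint hd hf hs hdp hfa hap.symm hsd
        (h.commute_grp hy hyp (Or.inr ⟨hd, hdp⟩)) hyf,
      hsd, h.res.crit.smul_eq_of_conj hf hsd hdp hfa⟩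
  obtain ⟨s, hs, hxs, hys, hse, hsp⟩ := hswap e he hep
  obtain ⟨t, ht, hxt, hyt, hte, htp⟩ := hswap e' he' he'p
  have hto := h.res.crit.orderOf_conj ht
  have hta : t • a = base M := by rw [← htp, smul_smul, invol_mul_self hto, one_smul]
  refine ⟨t * s, by rw [mul_smul, hsp, hta], hxt.mul_right hxs, hyt.mul_right hys,
    mul_mem (mem_locGroup ht hyt) (mem_locGroup hs hys), ?_⟩
  rw [show t * s * e * (t * s)⁻¹ = t * (s * e * s⁻¹) * t⁻¹ by group, hse, ← hte]
  calc t * (t * e' * t⁻¹) * t⁻¹ = (t * t) * e' * (t * t)⁻¹ := by group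
    _ = e' := by rw [invol_mul_self hto, one_mul, inv_one, mul_one]

/-- **Twist.**  Commuting bad involutions fixing two points and not the same set give a translation. -/
theorem exists_translation_of_twist (hS : Setup M z) (hloc : ∀ x : G, IsBad M x → Local M z x) {x y : G}
    (hx : Bad z x) (hy : Bad z y) (hxy : Commute x y) {a : G ⧸ M} (hap : a ≠ base M)
    (hxp : x • base M = base M) (hxa : x • a = a) (hyp : y • base M = base M) (hya : y • a = a)
    (hm : fix M y = (deg M z + 1) ^ 2 + 1 ∨ fix M y = (deg M z + 1) ^ 3 + 1) {b : G ⧸ M} (hyb : y • b = b)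
    (hxb : x • b ≠ b) :
    ∃ v : G, v • base M = base M ∧ (∃ k : ℕ, v ^ 2 ^ k = 1) ∧ (∀ e ∈ h.res.grp (base M), Commute v e) ∧
      ∃ d ∈ h.res.grp (base M), d ≠ 1 ∧ v * x * v⁻¹ = d * x := by
  classical
  have hxx := invol_mul_self hx.invol
  have hxi := invol_inv hx.invol
  obtain ⟨Q, hQ, hEQ, hEc, hQE⟩ := h.exists_regTwo_base hS hloc hy hyp hm
  have hly := hloc y (h.isBad hy)
  set E := h.res.grp (base M) with hE
  have hline : lineGrp z y (base M) = E := h.lineGrp_eq hy hyp
  have hbp : b ≠ base M := fun e => hxb (e ▸ hxp)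
  -- the movement
  let δ : G → G := fun v => v * x * v⁻¹ * x
  have hδQ : ∀ v ∈ Q, δ v ∈ Q := fun v hv => by
    show v * x * v⁻¹ * x ∈ Q
    have h1 := hQ.conj hxy.symm hxp (inv_mem hv)
    rw [hxi] at h1
    simpa [mul_assoc] using mul_mem hv h1
  by_cases hex : ∃ v ∈ Q, ∃ e ∈ E, e ≠ 1 ∧ e * δ v ∈ locKer M z y
  · obtain ⟨v, hv, e, he, he1, hek⟩ := hex
    set k := e * δ v with hk
    have hvx : v * x * v⁻¹ = e * k * x := by
      rw [hk, ← mul_assoc e e, h.res.grp_sq he, one_mul]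
      show v * x * v⁻¹ = v * x * v⁻¹ * x * x
      rw [mul_assoc _ x x, hxx, mul_one]
    obtain ⟨hez, hep⟩ := (show e = 1 ∨ _ from he).resolve_left he1
    obtain ⟨e', ⟨he', he'p⟩, hne⟩ : ∃ e', (IsConj z e' ∧ e' • base M = base M) ∧ e' ≠ e := by
      obtain ⟨d₁, d₂, hd₁, hd₂, hd₁p, hd₂p, hne⟩ := h.exists_two
      by_cases h1 : d₁ = e
      · exact ⟨d₂, ⟨hd₂, hd₂p⟩, fun h2 => hne (h1.trans h2.symm)⟩
      · exact ⟨d₁, ⟨hd₁, hd₁p⟩, h1⟩
    have he'E : e' ∈ E := Or.inr ⟨he', he'p⟩
    obtain ⟨c, hcp, hxc, hyc, hcL, hce⟩ := h.exists_swap_conj hx hy hap hxp hxa hyp hya hez hep he' he'p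
    set w := c * v * c⁻¹ with hw
    have hwQ : w ∈ Q := hQ.conj hyc hcp hv
    have hck : Commute k c := hly.ker_comm k hek c hcL
    have hwx : w * x * w⁻¹ = e' * k * x := by
      calc w * x * w⁻¹ = c * v * (c⁻¹ * x * c) * v⁻¹ * c⁻¹ := by rw [hw]; group
        _ = c * (v * x * v⁻¹) * c⁻¹ := by
          rw [show c⁻¹ * x * c = x by rw [mul_assoc, hxc.eq, inv_mul_cancel_left]]; group
        _ = c * e * c⁻¹ * (c * k * c⁻¹) * (c * x * c⁻¹) := by rw [hvx]; group
        _ = e' * k * x := by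
          rw [hce, ← hck.eq, mul_inv_cancel_right, ← hxc.eq, mul_inv_cancel_right]
    refine ⟨v⁻¹ * w, ((hQ.mem _).1 (mul_mem (inv_mem hv) hwQ)).2.1, ((hQ.mem _).1 (mul_mem (inv_mem hv) hwQ)).2.2,
      fun d hd => hQE _ (mul_mem (inv_mem hv) hwQ) d hd, e' * e, mul_mem he'E he, fun e1 => hne ?_, ?_⟩
    · rw [eq_inv_of_mul_eq_one_left e1, inv_eq_of_mul_eq_one_right (h.res.grp_sq he)]
    · have hev : Commute v (e' * e) := hQE v hv _ (mul_mem he'E he)
      calc v⁻¹ * w * x * (v⁻¹ * w)⁻¹ = v⁻¹ * (w * x * w⁻¹) * v := by group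
        _ = v⁻¹ * (e' * e * (e * k * x)) * v := by
          rw [hwx, ← mul_assoc (e' * e), ← mul_assoc (e' * e), mul_assoc e' e e, h.res.grp_sq he, mul_one]
        _ = v⁻¹ * (e' * e) * v * x := by rw [← hvx]; group
        _ = e' * e * x := by rw [mul_assoc v⁻¹, ← hev.eq, inv_mul_cancel_left]
  -- otherwise `x` fixes every fixed point of `y`
  exfalso
  push Not at hex
  have hall : ∀ v ∈ Q, δ v ∈ locKer M z y := by
    intro v hv
    have huQ := hδQ v hv
    set u := δ v with hu
    have hxu : x * u * x = u⁻¹ := by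
      show x * (v * x * v⁻¹ * x) * x = (v * x * v⁻¹ * x)⁻¹
      rw [show x * (v * x * v⁻¹ * x) * x = x * (v * x * v⁻¹) * (x * x) by group, hxx, mul_one,
        mul_inv_rev, mul_inv_rev, mul_inv_rev, inv_inv, hxi]
      group
    have hdu : δ u = u * u := by
      show u * x * u⁻¹ * x = u * u
      rw [← hxu, show u * x * (x * u * x) * x = u * (x * x) * u * (x * x) by group, hxx, mul_one, mul_one]
    obtain ⟨e0, he0, hsq⟩ := hQ.sq u huQ
    have he0' : e0 = 1 := by_contra fun h1 =>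
      hex u huQ e0 (hline ▸ he0) h1 (by rw [hdu]; exact hsq)
    rw [he0', one_mul] at hsq
    obtain ⟨e1, he1, hek⟩ := hQ.invol u huQ hsq
    have he1' : e1 = 1 := by_contra fun h1 => hex v hv e1 (hline ▸ he1) h1 hek
    rwa [he1', one_mul] at hek
  obtain ⟨v, hv, hvb⟩ := hQ.trans a b hya hyb hap hbp
  have h1 := hall v⁻¹ (inv_mem hv)
  refine hxb ?_
  have h3 : x * v = v * (δ v⁻¹) * x := by
    show x * v = v * (v⁻¹ * x * v⁻¹⁻¹ * x) * x
    rw [inv_inv, show v * (v⁻¹ * x * v * x) * x = x * v * (x * x) by group, hxx, mul_one]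
  rw [← hvb, smul_smul, h3, mul_smul, hxa, mul_smul, (mem_locKer.1 h1).2 a hya]

end EqRes

end CfsgLib.SECrit.Eq
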