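import Cfsg.Agent.Lib.Invol.SECriterion.EqType.Big.Sylo
import Cfsg.Agent.Lib.Invol.SECriterion.EqType.Big.Torus
import Cfsg.Agent.Lib.Invol.SECriterion.EqType.Big.Twist

/-!
# The strong embedding criterion, equal type with many fixed points: a torus element fixing two points

An element of odd prime power order of the torus of the pair acts without fixed members at both points.
On the further fixed points of `x` it would centralize a square of the regular group; off them the swap
of a moved point centralizing `x` is unique, so it would be fixed, and with it a member at a point of the pair.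
-/

set_option autoImplicit false
set_option linter.style.haveILetI false

namespace CfsgLib.SECrit.Eq

open CfsgLib.Invol Small Subgroup

universe u

variable {G : Type u} [Group G] [Finite G] {M : Subgroup G} {z : G}

namespace EqRes

variable (h : EqRes M z)
include h

/-- An element fixing no member at two fixed points of `x` and no further one of them fixes only these. -/
theorem eq_of_fix_torus {x c : G} {a : G ⧸ M} (hx : Bad z x) (hcx : Commute c x)
    (hcE : ∀ e ∈ h.res.grp (base M), e ≠ 1 → c * e * c⁻¹ ≠ e)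
    (hca : ∀ e ∈ h.res.grp a, e ≠ 1 → c * e * c⁻¹ ≠ e)
    (honF : ∀ b : G ⧸ M, x • b = b → c • b = b → b = base M ∨ b = a)
    {b : G ⧸ M} (hb : c • b = b) : b = base M ∨ b = a := by
  by_cases hxb : x • b = b
  · exact honF b hxb hb
  exfalso
  have hcr := h.res.crit
  obtain ⟨d, hd, hdb, hxd⟩ := hcr.exists_commuting_swap_of_moved hx.invol hxb
  have hdo := hcr.orderOf_conj hd
  obtain ⟨e, he, heb⟩ := hcr.exists_fixing b
  -- both swaps act on the members at `b` as `x`
  have key : ∀ d : G, IsConj z d → d • b = x • b → Commute x d → d * e * d⁻¹ = x * e * x⁻¹ := by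
    intro d hd hdb hxd
    have hy := h.res.bad_mul hx hd hxd
    have hyb : (x * d) • b = b := by rw [mul_smul, hdb, smul_smul, invol_mul_self hx.invol, one_smul]
    have h1 := h.commute_grp hy hyb (Or.inr ⟨he, heb⟩)
    calc d * e * d⁻¹ = x⁻¹ * (x * d * e * (x * d)⁻¹) * x := by group
      _ = x⁻¹ * e * x := by rw [h1.eq, mul_inv_cancel_right]
      _ = _ := by rw [invol_inv hx.invol]
  have hcd : IsConj z (c * d * c⁻¹) := hd.trans (isConj_iff.2 ⟨c, rfl⟩)
  have hcdb : (c * d * c⁻¹) • b = x • b := by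
    rw [mul_smul, mul_smul, inv_smul_eq_iff.2 hb.symm, hdb, smul_smul, hcx.eq, mul_smul, hb]
  have hfix : c * d * c⁻¹ = d := hcr.midpoint_unique he hcd hd heb (by rw [hcdb]; exact hxb)
    ((key _ hcd hcdb ((hcx.symm.mul_right hxd).mul_right hcx.symm.inv_right)).trans (key d hd hdb hxd).symm)
  obtain ⟨o, ho⟩ := hcr.fix_exists hd
  have hxo : x • o = o := hcr.smul_of_commute hd hxd ho
  have hco : c • o = o := hcr.fix_unique hd
    (by conv_lhs => rw [← hfix]
        rw [mul_smul, mul_smul, inv_smul_smul, ho]) ho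
  rcases honF o hxo hco with rfl | rfl
  exacts [hcE d (Or.inr ⟨hd, ho⟩) (invol_ne_one hdo) hfix, hca d (Or.inr ⟨hd, ho⟩) (invol_ne_one hdo) hfix]

/-- **A torus element of prime power order fixing only the pair.** -/
theorem exists_torus_prime (hS : Setup M z) (hloc : ∀ x : G, IsBad M x → Local M z x) {x : G} (hx : Bad z x)
    (hxp : x • base M = base M) {a : G ⧸ M} (hap : a ≠ base M) (hxa : x • a = a)
    (hm : fix M x = (deg M z + 1) ^ 2 + 1 ∨ fix M x = (deg M z + 1) ^ 3 + 1) :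
    ∃ (c : G) (r k : ℕ), r.Prime ∧ Odd r ∧ c ^ (r ^ k) = 1 ∧ c • base M = base M ∧ c • a = a ∧
      (∀ y : G, Bad z y → y • base M = base M → y • a = a → Commute c y) ∧
      (∀ e ∈ h.res.grp (base M), e ≠ 1 → c * e * c⁻¹ ≠ e) ∧
      ∀ b : G ⧸ M, c • b = b → b = base M ∨ b = a := by
  classical
  obtain ⟨C, hC, -, -, -, -, -, t, ht, hta, hinv⟩ := h.exists_torus_pair hS hloc hx hxp hap hxa
  obtain ⟨β, hβ2, hβ⟩ := h.exists_deg_pow
  obtain ⟨d₀, -, hd₀, -, hd₀p, -, -⟩ := h.exists_two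
  set E := h.res.grp (base M) with hE
  have hne : (⟨d₀, Or.inr ⟨hd₀, hd₀p⟩⟩ : E) ≠ 1 := fun e1 =>
    invol_ne_one (h.res.crit.orderOf_conj hd₀) (congrArg Subtype.val e1)
  have hCc : Nat.card C + 1 = 2 ^ β := by
    rw [hC.card_eq hne, ← hβ, ← h.res.card_grp (base M), ← Finite.card_option]
    exact Nat.card_congr (Equiv.optionSubtypeNe (1 : E))
  have h4 : 4 ≤ 2 ^ β := le_trans (by norm_num) (Nat.pow_le_pow_right (n := 2) (by norm_num) hβ2)
  obtain ⟨r, hr, hrd⟩ := Nat.exists_prime_and_dvd (show Nat.card C ≠ 1 by omega)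
  have hrodd : Odd r := by
    refine hr.odd_of_ne_two fun e => ?_
    obtain ⟨w, rfl⟩ : ∃ w, β = w + 1 := ⟨β - 1, by omega⟩
    rw [pow_succ] at hCc
    rw [e] at hrd
    omega
  haveI : Fact r.Prime := ⟨hr⟩
  obtain ⟨⟨l, hlC⟩, hl⟩ := exists_prime_orderOf_dvd_card' r hrd
  rw [orderOf_mk] at hl
  obtain ⟨m, n, hml, hnl, hnm, hma, hmY⟩ := hinv l hlC
  obtain ⟨k, q, hrq, hord⟩ := Nat.exists_eq_pow_mul_and_not_dvd (orderOf_pos (m : G)).ne' r hr.ne_one
  set c := (m : G) ^ q with hc
  have hlq : l ^ q ≠ 1 := fun e => hrq (hl ▸ orderOf_dvd_of_pow_eq_one e)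
  have hfree : ∀ (g : M) (w : h.conjE.range), w ∈ C → w ≠ 1 → h.conjE.rangeRestrict g = w →
      ∀ e ∈ E, e ≠ 1 → (g : G) * e * (g : G)⁻¹ ≠ e := by
    intro g w hwC hw hgw e he he1 heq
    refine hw (hC.eq_one_of_fix hwC (e := ⟨e, he⟩) (fun e1 => he1 (congrArg Subtype.val e1)) ?_)
    rw [← hgw]
    exact Subtype.ext heq
  have hcp : c • base M = base M := smul_base_iff.2 (pow_mem m.2 q)
  have hca : c • a = a :=
    MulAction.mem_stabilizer_iff.1 (pow_mem (MulAction.mem_stabilizer_iff.2 hma) _)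
  have hcE : ∀ e ∈ E, e ≠ 1 → c * e * c⁻¹ ≠ e := by
    have h1 := hfree (m ^ q) (l ^ q) (pow_mem hlC q) hlq (by rw [map_pow, hml])
    rwa [SubmonoidClass.coe_pow] at h1
  have hto := h.res.crit.orderOf_conj ht
  have htt := invol_mul_self hto
  have hcA : ∀ e ∈ h.res.grp a, e ≠ 1 → c * e * c⁻¹ ≠ e := by
    intro e he he1 heq
    have hta' : t • a = base M := by rw [← hta, smul_smul, htt, one_smul]
    have h2 := hfree (n ^ q) (l⁻¹ ^ q) (pow_mem (inv_mem hlC) q) (by rw [inv_pow]; simpa using hlq)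
      (by rw [map_pow, hnl]) (t * e * t) ?_ ?_
    · refine h2 ?_
      rw [SubmonoidClass.coe_pow, hnm]
      have e1 : ∀ j : ℕ, (t * (m : G) * t) ^ j = t * (m : G) ^ j * t := fun j => by
        induction j with
        | zero => simp [htt]
        | succ j ih =>
          rw [pow_succ, ih, show t * (m : G) ^ j * t * (t * m * t) = t * (m : G) ^ j * (t * t) * m * t by group,
            htt, mul_one, pow_succ, mul_assoc t]
      rw [e1, ← hc]
      calc t * c * t * (t * e * t) * (t * c * t)⁻¹ = t * c * (t * t) * e * (t * t⁻¹) * c⁻¹ * t⁻¹ := by group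
        _ = t * (c * e * c⁻¹) * t⁻¹ := by rw [htt]; group
        _ = t * e * t := by rw [heq, invol_inv hto]
    · rcases (show e = 1 ∨ _ from he) with h3 | ⟨h3, h4'⟩
      · exact absurd h3 he1
      · refine Or.inr ⟨h3.trans (isConj_iff.2 ⟨t, by rw [invol_inv hto]⟩), ?_⟩
        rw [mul_smul, mul_smul, hta, h4', hta']
    · intro e1
      refine he1 ?_
      calc e = (t * t) * e * (t * t) := by rw [htt, one_mul, mul_one]
        _ = t * (t * e * t) * t := by group
        _ = 1 := by rw [e1, mul_one, htt]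
  have hcY : ∀ y : G, Bad z y → y • base M = base M → y • a = a → Commute c y :=
    fun y hy hyp hya => (hmY y hy hyp hya).pow_left q
  have hcx := hcY x hx hxp hxa
  obtain ⟨P, hP, hEP, hEc, -⟩ := h.exists_regTwo_base hS hloc hx hxp hm
  have honF : ∀ b : G ⧸ M, x • b = b → c • b = b → b = base M ∨ b = a := by
    intro b hxb hcb
    by_cases hbp : b = base M
    · exact Or.inl hbp
    refine Or.inr ?_
    obtain ⟨v, hv, hvb⟩ := hP.trans a b hxa hxb hap hbp
    set K := locKer M z x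
    have hvx : ∀ g ∈ P, Commute x g := fun g hg => RegTwo_commute hP hg
    have hv' : c * v * c⁻¹ ∈ P := RegTwo_conj hP hcx.symm hcp hv
    have hk : v⁻¹ * (c * v * c⁻¹) ∈ K := by
      refine hP.free _ (mul_mem (inv_mem hv) hv') a hxa hap ?_
      rw [mul_smul, mul_smul, mul_smul, inv_smul_eq_iff.2 hca.symm, hvb, hcb, ← hvb, inv_smul_smul]
    -- the kernel is central and normalized
    have hKc : ∀ k ∈ K, ∀ g ∈ P, Commute k g := fun k hk g hg =>
      (hloc x (h.isBad hx)).ker_comm k hk g ((hP.mem g).1 hg).1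
    have hEK : ∀ e ∈ E, e ∈ K → e = 1 := fun e he hek =>
      h.eq_one_of_grp_fix he hap ((mem_locKer.1 hek).2 a hxa)
    have hKn : ∀ k ∈ K, k ∈ P → c * k * c⁻¹ ∈ K := fun k hk hkP => mem_locKer.2
      ⟨((hP.mem _).1 (RegTwo_conj hP hcx.symm hcp hkP)).1, fun o ho => by
        rw [mul_smul, mul_smul, (mem_locKer.1 hk).2 _ (smul_mem_fix hcx.symm.inv_right ho), smul_inv_smul]⟩
    obtain ⟨e, he, hek⟩ := hP.sq v hv
    rw [h.lineGrp_eq hx hxp] at he
    have hce : c * e * c⁻¹ ∈ E := h.res.grp_conj hcp he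
    have he1 : c * e * c⁻¹ = e := by
      have h2 : c * e * c⁻¹ * (c * v * c⁻¹ * (c * v * c⁻¹)) ∈ K := by
        have := hKn _ hek (mul_mem (hEP he) (mul_mem hv hv))
        rwa [show c * (e * (v * v)) * c⁻¹ = c * e * c⁻¹ * (c * v * c⁻¹ * (c * v * c⁻¹)) by group] at this
      have h3 : c * v * c⁻¹ * (c * v * c⁻¹) = v * v * (v⁻¹ * (c * v * c⁻¹) * (v⁻¹ * (c * v * c⁻¹))) := by
        conv_lhs => rw [show c * v * c⁻¹ = v * (v⁻¹ * (c * v * c⁻¹)) by group]
        rw [(hKc _ hk v hv).mul_mul_mul_comm]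
      rw [h3, ← mul_assoc] at h2
      have h2' := mul_mem h2 (inv_mem (mul_mem hk hk))
      rw [mul_inv_cancel_right] at h2'
      have h4' := mul_mem h2' (inv_mem hek)
      rw [show c * e * c⁻¹ * (v * v) * (e * (v * v))⁻¹ = c * e * c⁻¹ * e⁻¹ by group] at h4'
      exact mul_inv_eq_one.1 (hEK _ (mul_mem hce (inv_mem he)) h4')
    have he0 : e = 1 := by_contra fun h1 => hcE e he h1 he1
    rw [he0, one_mul] at hek
    obtain ⟨f, hf, hfk⟩ := hP.invol v hv hek
    rw [h.lineGrp_eq hx hxp] at hf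
    have hfc : c * f * c⁻¹ = f := by
      have h2 := hKn _ hfk (mul_mem (hEP hf) hv)
      rw [show c * (f * v) * c⁻¹ = c * f * c⁻¹ * v * (v⁻¹ * (c * v * c⁻¹)) by group] at h2
      have h3 := mul_mem (mul_mem h2 (inv_mem hk)) (inv_mem hfk)
      rw [mul_inv_cancel_right, show c * f * c⁻¹ * v * (f * v)⁻¹ = c * f * c⁻¹ * f⁻¹ by group] at h3
      exact mul_inv_eq_one.1 (hEK _ (mul_mem (h.res.grp_conj hcp hf) (inv_mem hf)) h3)
    have hf0 : f = 1 := by_contra fun h1 => hcE f hf h1 hfc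
    rw [hf0, one_mul] at hfk
    rw [← hvb]
    exact (mem_locKer.1 hfk).2 a hxa
  refine ⟨c, r, k, hr, hrodd, ?_, hcp, hca, hcY, hcE,
    fun b hb => h.eq_of_fix_torus hx hcx hcE hcA honF hb⟩
  rw [hc, ← pow_mul, mul_comm, ← hord, pow_orderOf_eq_one]

end EqRes

end CfsgLib.SECrit.Eq
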