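import Cfsg.Agent.Lib.Invol.SECriterion.EqType.Big.Sigma
import Cfsg.Agent.Lib.Invol.SECriterion.EqType.Big.Small
import Cfsg.Agent.Lib.Invol.SECriterion.EqType.Big.Fusion
import Cfsg.Agent.Lib.Invol.SECriterion.EqType.Big.Cent
import Cfsg.Agent.Lib.Invol.SECriterion.EqType.Big.TorusPoints
import Cfsg.Agent.Lib.Invol.SECriterion.EqType.Big.Endgame
import Cfsg.Agent.Lib.Invol.SECriterion.Assembly

/-!
# The strong embedding criterion, equal type: no bad involution has `q ^ 2 + 1` or `q ^ 3 + 1` fixed points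

The frame and its Sylow data split into three cases by the two-group of the pair: of order two, with an
element moving fixed points, or fixing all of them.
-/

set_option autoImplicit false
set_option linter.style.haveILetI false
set_option linter.ambiguousOpen false

namespace CfsgLib.SECrit

open CfsgLib.Invol Small Subgroup

universe u

variable {G : Type u} [Group G] [Finite G] {M : Subgroup G} {z : G}

open Eq in
/-- **The equal type with many fixed points does not occur.** -/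
theorem Setup.noEqBig (hS : Setup M z) (hgen : normalClosure ({z} : Set G) = ⊤) : NoEqBig M z := by
  intro hloc h x₀ hx₀ hm₀
  obtain ⟨x, a, T, hF⟩ := h.exists_frame hx₀
  have hm : Small.fix M x = (deg M z + 1) ^ 2 + 1 ∨ Small.fix M x = (deg M z + 1) ^ 3 + 1 := by
    rwa [h.fix_eq hF.bad hx₀]
  obtain ⟨P, S, hY⟩ := h.exists_sylo_full hS hgen hloc hF hm
  by_cases hsmall : ∀ t ∈ T, t = 1 ∨ t = x
  · exact EqRes.Sylo.false_of_small hS hgen hloc hY hm hsmall
  push Not at hsmall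
  have hW2 : ∀ w ∈ T ⊓ ptwise M z x, w * w = 1 := fun w hw => h.ptwise_sq hS hloc hY hw
  rcases h.T_cases hS hloc hY with hTp | ⟨hs, hT4, hsq, hW, -⟩
  · have hsq : ∀ t ∈ T, t * t = 1 := fun t ht => hW2 t ⟨ht, hTp ht⟩
    have hcomm : ∀ t ∈ T, ∀ w ∈ T, Commute t w := fun t ht w hw => by
      have h1 := hsq _ (mul_mem ht hw)
      have h2 : t * w = w⁻¹ * t⁻¹ := by rw [← mul_inv_rev]; exact eq_inv_of_mul_eq_one_left h1
      rwa [inv_eq_of_mul_eq_one_right (hsq t ht), inv_eq_of_mul_eq_one_right (hsq w hw)] at h2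
    have hK1 : ∀ g ∈ S, ∀ w ∈ Eq.wPart M z x T, ∃ e ∈ h.res.grp (base M), ∃ w' ∈ Eq.wPart M z x T,
        g * w * g⁻¹ = e * w' := fun g hg w hw => h.conj_ptwise_mem hS hloc hY hg hw
    have hn := EqRes.Sylo.norm_ptwise hY hS hloc hW2 (fun t ht w hw => hcomm t ht w hw.1) hK1
    have hn' : ∀ g ∈ S, ∀ t ∈ T, g * t * g⁻¹ * t ∈ h.res.grp (base M) := fun g hg t ht => hn g hg t ⟨ht, hTp ht⟩
    obtain ⟨c, r, k, hr, hrodd, hcr, hcp, hca, hcY, hcE, honly⟩ :=
      h.exists_torus_prime hS hloc hF.bad hF.fix_base hF.ne hF.fix_pt hm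
    have hcT : ∀ t ∈ T, Commute c t := fun t ht => by
      rcases eq_or_ne t 1 with rfl | ht1
      · exact Commute.one_right c
      exact hcY t (hF.bad_of_mem ht (invol_iff.2 ⟨hsq t ht, ht1⟩) h.res.crit) (hF.fix_T t ht).1 (hF.fix_T t ht).2
    have hc : ∃ (c : G) (r k : ℕ), r.Prime ∧ Odd r ∧ c ^ (r ^ k) = 1 ∧ c • base M = base M ∧ c • a = a ∧
        (∀ t ∈ T, Commute c t) ∧ (∀ e ∈ h.res.grp (base M), e ≠ 1 → c * e * c⁻¹ ≠ e) ∧
        ∀ b : G ⧸ M, c • b = b → b = base M ∨ b = a := ⟨c, r, k, hr, hrodd, hcr, hcp, hca, hcT, hcE, honly⟩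
    have hy : ∃ y ∈ T, y ≠ 1 ∧ y ≠ x := hsmall
    have hsqP : ∀ g ∈ S, (∃ v ∈ P, ∃ t ∈ T, g = v * t) → g * g ∈ h.res.grp (base M) := by
      rintro g - ⟨v, hv, t, ht, rfl⟩
      exact h.sq_mem hS hloc hY ⟨v, hv, t, ⟨ht, hTp ht⟩, rfl⟩
    have hcan : ∀ w ∈ T, w ≠ 1 → ∀ y, orderOf y = 2 → y ∈ ptwise M z w → y ∈ T := by
      intro w hw hw1 y hy hyw
      have hwb := hF.bad_of_mem hw (invol_iff.2 ⟨hsq w hw, hw1⟩) h.res.crit
      have hFw : Eq.Frame M z w a T := ⟨hwb, (hF.fix_T w hw).1, (hF.fix_T w hw).2, hF.ne, hF.two,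
        fun t ht => hcomm w hw t ht, hF.fix_T, hw, hF.max⟩
      have hmw : Small.fix M w = (deg M z + 1) ^ 2 + 1 ∨ Small.fix M w = (deg M z + 1) ^ 3 + 1 := by
        rwa [h.fix_eq hwb hF.bad]
      obtain ⟨P', S', hY'⟩ := h.exists_sylo_full hS hgen hloc hFw hmw
      exact h.mem_of_bad_ptwise hS hloc hY' hy hyw
    obtain ⟨c', hc'⟩ := EqRes.Sylo.exists_tor hY hS hloc hW2 (fun t ht w hw => hcomm t ht w hw.1) hK1
    exact h.false_of_ptwise_pair hS hloc hY hm hTp hsq hy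
      (fun g hg t ht => by
        rw [inv_eq_of_mul_eq_one_right (hsq t ht)]; exact hn' g hg t ht)
      hsqP hcan (fun m t hm' ht hmt => EqRes.Sylo.fusion h hS hloc hY hm hTp hsq hc' hy hn' (fun g hg hxg => hsqP g hg (hY.decomp g hg hxg)) hm' ht hmt) hc
  · obtain ⟨g, hg, hgW⟩ : ∃ g ∈ T, g ∉ ptwise M z x := by
      by_contra hh
      push Not at hh
      obtain ⟨y, hy, hy1, hyx⟩ := hsmall
      exact (hW y ⟨hy, hh y hy⟩).elim hy1 hyx
    obtain ⟨c, hc⟩ := EqRes.Sylo.exists_tor hY hS hloc hW2 (fun t ht w hw => by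
      rcases hW w hw with rfl | rfl
      exacts [Commute.one_right t, (hF.cent t ht).symm]) fun g hg w hw => h.conj_ptwise_mem hS hloc hY hg hw
    exact EqRes.Sylo.false_of_sigma hY hS hloc hc hs hT4 hW hg hgW

end CfsgLib.SECrit
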