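import Cfsg.Agent.Lib.Invol.SECriterion.EqType.Big.Sylo
import Cfsg.Agent.Lib.Invol.SECriterion.EqType.Big.Torus
import Cfsg.Agent.Lib.Invol.SECriterion.TwoFusion

/-!
# The strong embedding criterion, equal type with many fixed points: the coset Sylow group, basic facts
-/

set_option autoImplicit false
set_option linter.style.haveILetI false

namespace CfsgLib.SECrit.Eq

open CfsgLib.Invol Small Subgroup

universe u

variable {G : Type u} [Group G] [Finite G] {M : Subgroup G} {z : G}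

/-- The stabilizer of the base point is `M`. -/
theorem mem_M_of_fix {g : G} (hg : g • base M = base M) : g ∈ M := smul_base_iff.1 hg

/-- Conjugation moves the group of the members commuting with `y`. -/
theorem locGroup_conj {y g : G} (hg : g ∈ locGroup z y) (m : G) :
    m * g * m⁻¹ ∈ locGroup z (m * y * m⁻¹) := by
  induction hg using closure_induction with
  | mem d hd => exact subset_closure ⟨hd.1.trans (isConj_iff.2 ⟨m, rfl⟩), (Commute.conj_iff m).2 hd.2⟩
  | one => simp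
  | mul a b _ _ iha ihb => rw [show m * (a * b) * m⁻¹ = m * a * m⁻¹ * (m * b * m⁻¹) by group]; exact mul_mem iha ihb
  | inv a _ iha => rw [show m * a⁻¹ * m⁻¹ = (m * a * m⁻¹)⁻¹ by group]; exact inv_mem iha

/-- The pointwise part of `T`. -/
abbrev wPart (M : Subgroup G) (z x : G) (T : Subgroup G) : Subgroup G := T ⊓ ptwise M z x

namespace Frame

variable {x : G} {a : G ⧸ M} {T : Subgroup G} (hF : Frame M z x a T)
include hF

/-- The two-group of the pair has a second element. -/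
theorem two_le_card : 2 ≤ Nat.card T := by
  haveI : Nontrivial T := ⟨⟨⟨x, hF.self⟩, 1, fun e => invol_ne_one hF.bad.invol (congrArg Subtype.val e)⟩⟩
  exact Finite.one_lt_card

/-- An involution in `T` is bad. -/
theorem bad_of_mem {t : G} (ht : t ∈ T) (hto : orderOf t = 2) (hC : Crit M z) : Bad z t :=
  ⟨hto, fun hh => hF.ne (hC.fix_unique hh (hF.fix_T t ht).2 (hF.fix_T t ht).1)⟩

end Frame

namespace EqRes

variable (h : EqRes M z)
include h

theorem grp_le_M : h.res.grp (base M) ≤ M := fun _ he => mem_M_of_fix (h.res.grp_smul he)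

theorem grp_inv {e : G} (he : e ∈ h.res.grp (base M)) : e⁻¹ = e :=
  inv_eq_of_mul_eq_one_right (h.res.grp_sq he)

theorem conj_mem {g e : G} (hg : g • base M = base M) (he : e ∈ h.res.grp (base M)) :
    g * e * g⁻¹ ∈ h.res.grp (base M) :=
  h.res.grp_conj hg he

/-- An involution of the coset of a member is not in `E`. -/
theorem bad_notMem {x : G} (hx : Bad z x) : x ∉ h.res.grp (base M) := fun hh => by
  rcases hh with rfl | ⟨hc, -⟩
  · exact invol_ne_one hx.invol rfl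
  · exact hx.not_conj hc

theorem two_lt_card_grp : 2 < Nat.card (h.res.grp (base M)) := by
  rw [h.res.card_grp]; have := h.two_le; omega

/-- A member other than the identity and a given one. -/
theorem exists_other (f : G) : ∃ e ∈ h.res.grp (base M), e ≠ 1 ∧ e ≠ f := by
  obtain ⟨d₁, d₂, hd₁, hd₂, hd₁p, hd₂p, hne⟩ := h.exists_two
  by_cases h1 : d₁ = f
  · exact ⟨d₂, Or.inr ⟨hd₂, hd₂p⟩, invol_ne_one (h.res.crit.orderOf_conj hd₂), fun e => hne (h1.trans e.symm)⟩
  · exact ⟨d₁, Or.inr ⟨hd₁, hd₁p⟩, invol_ne_one (h.res.crit.orderOf_conj hd₁), h1⟩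

/-- A two-group at the point centralizing a bad involution there has order at most `s |T|`. -/
theorem card_cent_two_le {x : G} {a : G ⧸ M} {T : Subgroup G} (hF : Frame M z x a T) {w : G} (hw : Bad z w)
    (hwp : w • base M = base M) {V : Subgroup G} (hV : IsPGroup 2 V) (hVp : ∀ g ∈ V, g • base M = base M)
    (hVw : ∀ g ∈ V, Commute w g) : Nat.card V ≤ (fix M x - 1) * Nat.card T := by
  classical
  obtain ⟨b, hbp, hwb⟩ := h.res.bad_two_fix hw hwp
  letI : MulAction V (G ⧸ M) := MulAction.compHom _ V.subtype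
  rw [← (Nat.card_prod _ _).symm.trans (Nat.card_congr (MulAction.orbitProdStabilizerEquivGroup V b))]
  refine Nat.mul_le_mul ?_ ?_
  · refine (Nat.card_le_card_of_injective
      (fun c : MulAction.orbit V b => (⟨c.1, ?_⟩ : {c : G ⧸ M // w • c = c ∧ c ≠ base M}))
      fun c c' e => Subtype.ext (congrArg (fun r : {c : G ⧸ M // w • c = c ∧ c ≠ base M} => r.1) e)).trans (le_of_eq ?_)
    · obtain ⟨g, hgb⟩ := c.2
      rw [← hgb]
      exact ⟨smul_mem_fix (hVw g g.2) hwb,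
        fun e => hbp (smul_left_cancel (g : G) (e.trans (hVp g g.2).symm))⟩
    rw [h.fix_eq hF.bad hw, fix]
    have e := Nat.card_congr (Equiv.optionSubtypeNe (⟨base M, hwp⟩ : {b : G ⧸ M // w • b = b}))
    rw [Finite.card_option] at e
    have e2 : Nat.card {b : {b : G ⧸ M // w • b = b} // b ≠ ⟨base M, hwp⟩} =
        Nat.card {b : G ⧸ M // w • b = b ∧ b ≠ base M} :=
      Nat.card_congr ⟨fun b => ⟨b.1.1, b.1.2, fun e => b.2 (Subtype.ext e)⟩,
        fun b => ⟨⟨b.1, b.2.1⟩, fun e => b.2.2 (congrArg Subtype.val e)⟩, fun _ => rfl, fun _ => rfl⟩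
    omega
  · rw [← card_map_of_injective (K := MulAction.stabilizer V b) V.subtype_injective]
    refine hF.max _ b ((hV.to_subgroup _).map V.subtype) hbp ?_
    rintro _ ⟨g, hg, rfl⟩
    exact ⟨hVp g g.2, MulAction.mem_stabilizer_iff.1 hg⟩

namespace Sylo

variable {h}
variable {x : G} {a : G ⧸ M} {T P S : Subgroup G} (hY : h.Sylo x a T P S)
include hY

theorem le_M : S ≤ M := fun g hg => mem_M_of_fix (hY.smul g hg)

/-- The translation. -/
theorem translate_mul {g g' : G} (hg : g ∈ S) (hg' : g' ∈ S) :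
    g * g' * x * (g * g')⁻¹ * x = g * x * g⁻¹ * x * (g' * x * g'⁻¹ * x) := by
  have e1 : g * (g' * x * g'⁻¹ * x) * g⁻¹ = g' * x * g'⁻¹ * x := by
    rw [(hY.centE g hg _ (hY.coset g' hg')).eq, mul_inv_cancel_right]
  calc g * g' * x * (g * g')⁻¹ * x = g * (g' * x * g'⁻¹ * x) * g⁻¹ * (g * x⁻¹ * g⁻¹ * x) := by group
    _ = g' * x * g'⁻¹ * x * (g * x * g⁻¹ * x) := by rw [e1, invol_inv hY.frame.bad.invol]
    _ = _ := (h.res.grp_commute (hY.coset g' hg') (hY.coset g hg)).eq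

theorem commute_iff {g : G} : g * x * g⁻¹ * x = 1 ↔ Commute x g := by
  constructor
  · intro hh
    have h1 : g * x * g⁻¹ = x := by rw [eq_inv_of_mul_eq_one_left hh, invol_inv hY.frame.bad.invol]
    exact (mul_inv_eq_iff_eq_mul.1 h1).symm
  · intro hh
    rw [← hh.eq, mul_inv_cancel_right, invol_mul_self hY.frame.bad.invol]

/-- Squares centralize `x`. -/
theorem sq_comm {g : G} (hg : g ∈ S) : Commute x (g * g) :=
  hY.commute_iff.1 (by rw [hY.translate_mul hg hg]; exact h.res.grp_sq (hY.coset g hg))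

/-- The centralizer of `x` in `S` is normal. -/
theorem conj_comm {g v : G} (hg : g ∈ S) (hv : v ∈ S) (hvx : Commute x v) : Commute x (g * v * g⁻¹) :=
  hY.commute_iff.1 (by
    rw [hY.translate_mul (mul_mem hg hv) (inv_mem hg), hY.translate_mul hg hv, hY.commute_iff.2 hvx, mul_one,
      ← hY.translate_mul hg (inv_mem hg), mul_inv_cancel]
    simp [invol_mul_self hY.frame.bad.invol])

theorem commute_reg {v : G} (hv : v ∈ P) : Commute x v := RegTwo_commute hY.reg hv

theorem sup_le : P ⊔ T ≤ S := _root_.sup_le hY.reg_le hY.T_le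

/-- Every two-group at the point goes into `S`, inside any group at the point holding both. -/
theorem exists_conj_le {H U : Subgroup G} (hH : ∀ g ∈ H, g • base M = base M) (hSH : S ≤ H) (hU : IsPGroup 2 U)
    (hUH : U ≤ H) : ∃ m ∈ H, ∀ u ∈ U, m * u * m⁻¹ ∈ S := by
  classical
  haveI : Fact (Nat.Prime 2) := ⟨Nat.prime_two⟩
  obtain ⟨P₁, hP₁⟩ := (hY.two.of_equiv (subgroupOfEquivOfLe hSH).symm).exists_le_sylow
  obtain ⟨P₂, hP₂⟩ := (hU.of_equiv (subgroupOfEquivOfLe hUH).symm).exists_le_sylow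
  have hPS : ∀ g : H, g ∈ P₁ → (g : G) ∈ S := by
    have h1 : Nat.card ((P₁ : Subgroup H).map H.subtype) ≤ Nat.card S :=
      hY.max _ (P₁.2.map _) (by rintro _ ⟨g, -, rfl⟩; exact hH g g.2)
    have h2 : S ≤ (P₁ : Subgroup H).map H.subtype := fun g hg => ⟨⟨g, hSH hg⟩, hP₁ (mem_subgroupOf.2 hg), rfl⟩
    intro g hg
    rw [eq_of_le_of_card_ge h2 h1]
    exact ⟨g, hg, rfl⟩
  obtain ⟨m, hm⟩ := MulAction.exists_smul_eq H P₂ P₁
  refine ⟨m, m.2, fun u hu => hPS (m * ⟨u, hUH hu⟩ * m⁻¹) ?_⟩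
  rw [← hm]
  show m * ⟨u, hUH hu⟩ * m⁻¹ ∈ (↑(m • P₂) : Subgroup H)
  rw [Sylow.coe_subgroup_smul]
  exact Subgroup.smul_mem_pointwise_smul (⟨u, hUH hu⟩ : H) (MulAut.conj m) _ (hP₂ (mem_subgroupOf.2 hu))

/-- Every two-element at the point centralizes the members. -/
theorem centE_two {g : G} {k : ℕ} (hgp : g • base M = base M) (hgk : g ^ 2 ^ k = 1) {e : G}
    (he : e ∈ h.res.grp (base M)) : Commute g e := by
  obtain ⟨m, hm, hmS⟩ := hY.exists_conj_le (H := M) (U := zpowers g) (fun _ hg => smul_base_iff.2 hg) hY.le_M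
    (isPGroup_zpowers_two hgk) (zpowers_le.2 (mem_M_of_fix hgp))
  have h1 := hY.centE _ (hmS g (mem_zpowers g)) _ (h.conj_mem (smul_base_iff.2 hm) he)
  exact (Commute.conj_iff m).1 h1

/-- A bad involution at the point has a centralizer of order at most `s |T|` in `S`. -/
theorem card_le_cent {w : G} (hw : Bad z w) (hwp : w • base M = base M) {V : Subgroup G} (hVS : V ≤ S)
    (hVw : ∀ g ∈ V, Commute w g) : Nat.card V ≤ (fix M x - 1) * Nat.card T :=
  h.card_cent_two_le hY.frame hw hwp (hY.two.to_le hVS) (fun g hg => hY.smul g (hVS hg)) hVw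

theorem card_sup_ge : (fix M x - 1) * Nat.card T ≤ Nat.card (P ⊔ T : Subgroup G) := by
  classical
  letI : MulAction (P ⊔ T : Subgroup G) (G ⧸ M) := MulAction.compHom _ (P ⊔ T).subtype
  refine le_of_le_of_eq ?_ ((Nat.card_prod _ _).symm.trans (Nat.card_congr (MulAction.orbitProdStabilizerEquivGroup (P ⊔ T : Subgroup G) a)))
  refine Nat.mul_le_mul ?_ ?_
  · have e := Nat.card_congr (Equiv.optionSubtypeNe (⟨base M, hY.frame.fix_base⟩ : {b : G ⧸ M // x • b = b}))
    rw [Finite.card_option] at e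
    rw [show fix M x = Nat.card {b : G ⧸ M // x • b = b} from rfl, ← e, Nat.add_sub_cancel]
    refine Nat.card_le_card_of_injective (fun b => (⟨b.1.1, ?_⟩ : MulAction.orbit (P ⊔ T : Subgroup G) a))
      fun b b' e => Subtype.ext (Subtype.ext (congrArg (fun r : MulAction.orbit (P ⊔ T : Subgroup G) a => r.1) e))
    obtain ⟨g, hg, hgb⟩ := hY.reg.trans a b.1.1 hY.frame.fix_pt b.1.2 hY.frame.ne fun e => b.2 (Subtype.ext e)
    exact ⟨⟨g, mem_sup_left hg⟩, hgb⟩
  · exact Nat.card_le_card_of_injective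
      (fun t : T => (⟨⟨t.1, mem_sup_right t.2⟩, (hY.frame.fix_T t t.2).2⟩ :
        MulAction.stabilizer (P ⊔ T : Subgroup G) a))
      fun t t' e => Subtype.ext (congrArg (fun r : MulAction.stabilizer (P ⊔ T : Subgroup G) a =>
        ((r.1 : (P ⊔ T : Subgroup G)) : G)) e)

theorem sup_comm' {g : G} (hg : g ∈ P ⊔ T) : Commute x g := by
  have h1 : P ⊔ T ≤ Subgroup.centralizer ({x} : Set G) := _root_.sup_le
    (fun v hv => mem_centralizer_singleton_iff.2 (hY.commute_reg hv).symm.eq)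
    (fun t ht => mem_centralizer_singleton_iff.2 (hY.frame.cent t ht).symm.eq)
  exact (show Commute g x from mem_centralizer_singleton_iff.1 (h1 hg)).symm

theorem mem_sup_iff {g : G} : g ∈ P ⊔ T ↔ g ∈ S ∧ Commute x g :=
  ⟨fun hg => ⟨hY.sup_le hg, hY.sup_comm' hg⟩, fun hg => by
    obtain ⟨v, hv, t, ht, rfl⟩ := hY.decomp g hg.1 hg.2
    exact mul_mem (mem_sup_left hv) (mem_sup_right ht)⟩

/-- The order of `S`. -/
theorem card_ge : (deg M z + 1) * ((fix M x - 1) * Nat.card T) ≤ Nat.card S := by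
  classical
  choose τ hτS hτx using hY.surj
  rw [← h.res.card_grp (base M)]
  refine (Nat.mul_le_mul_left _ hY.card_sup_ge).trans ?_
  rw [← Nat.card_prod]
  refine Nat.card_le_card_of_injective
    (fun r : h.res.grp (base M) × (P ⊔ T : Subgroup G) => (⟨τ r.1 r.1.2 * r.2, mul_mem (hτS _ _) (hY.sup_le r.2.2)⟩ : S))
    fun r r' e => ?_
  have e1 : τ r.1 r.1.2 * (r.2 : G) = τ r'.1 r'.1.2 * (r'.2 : G) := congrArg Subtype.val e
  have key : ∀ q : h.res.grp (base M) × (P ⊔ T : Subgroup G),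
      τ q.1 q.1.2 * (q.2 : G) * x * (τ q.1 q.1.2 * (q.2 : G))⁻¹ = q.1 * x := fun q => by
    calc τ q.1 q.1.2 * (q.2 : G) * x * (τ q.1 q.1.2 * (q.2 : G))⁻¹
        = τ q.1 q.1.2 * ((q.2 : G) * x * (q.2 : G)⁻¹) * (τ q.1 q.1.2)⁻¹ := by group
      _ = q.1 * x := by rw [← (hY.sup_comm' q.2.2).eq, mul_inv_cancel_right, hτx]
  have h1 : r.1 = r'.1 := Subtype.ext (mul_right_cancel ((key r).symm.trans (e1 ▸ key r')))
  obtain ⟨r1, r2⟩ := r
  obtain ⟨r1', r2'⟩ := r'
  obtain rfl : r1 = r1' := h1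
  exact Prod.ext rfl (Subtype.ext (mul_left_cancel e1))

end Sylo

/-- The data of a frame inside a given Sylow subgroup keeping its coset. -/
theorem exists_sylo_at (hS : Setup M z) (hloc : ∀ x : G, IsBad M x → Local M z x) {x : G} {a : G ⧸ M}
    {T P S : Subgroup G} (hY : h.Sylo x a T P S) {y : G} {b : G ⧸ M} {U : Subgroup G} (hF : Frame M z y b U)
    (hbig : fix M y = (deg M z + 1) ^ 2 + 1 ∨ fix M y = (deg M z + 1) ^ 3 + 1)
    (hco : ∀ g ∈ S, g * y * g⁻¹ * y ∈ h.res.grp (base M)) :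
    ∃ (m : G) (P' U' : Subgroup G), m • base M = base M ∧ m * y * m⁻¹ * y ∈ h.res.grp (base M) ∧
      (∀ u, u ∈ U' ↔ m⁻¹ * u * m ∈ U) ∧ h.Sylo (m * y * m⁻¹) (m • b) U' P' S := by
  classical
  obtain ⟨P₀, S₀, hY₀⟩ := h.exists_sylo hS hloc hF hbig fun g k hgk hgp e he => hY.centE_two hgp hgk he
  set H := h.cosetStab hF.bad hF.fix_base with hH
  obtain ⟨m, hm, hmS⟩ := hY.exists_conj_le (H := H) (U := S₀) (fun g hg => hg.1)
    (fun g hg => ⟨hY.smul g hg, hco g hg⟩) hY₀.two (fun g hg => ⟨hY₀.smul g hg, hY₀.coset g hg⟩)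
  have hmb : m • base M = base M := hm.1
  have hmi : m⁻¹ • base M = base M := inv_smul_eq_iff.2 hmb.symm
  have hmy : m * y * m⁻¹ * y ∈ h.res.grp (base M) := hm.2
  have hmem : ∀ (V : Subgroup G) (u : G), u ∈ V.map (MulAut.conj m).toMonoidHom ↔ m⁻¹ * u * m ∈ V := fun V u => by
    constructor
    · rintro ⟨v, hv, rfl⟩
      simpa [MulAut.conj_apply, mul_assoc] using hv
    · exact fun hu => ⟨_, hu, by simp [MulAut.conj_apply, mul_assoc]⟩
  -- the conjugate of `S₀` is `S`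
  have hle : S₀.map (MulAut.conj m).toMonoidHom ≤ S := by
    rintro _ ⟨u, hu, rfl⟩
    exact hmS u hu
  have hEq : S₀.map (MulAut.conj m).toMonoidHom = S := eq_of_le_of_card_ge hle (by
    rw [card_map_of_injective (MulAut.conj m).injective]
    exact hY₀.max S hY.two hY.smul)
  have hback : ∀ g ∈ S, m⁻¹ * g * m ∈ S₀ := fun g hg => (hmem S₀ g).1 (hEq ▸ hg)
  have hfix : ∀ c : G ⧸ M, y • c = c → (m * y * m⁻¹) • (m • c) = m • c := fun c hc => by
    rw [smul_smul, inv_mul_cancel_right, mul_smul, hc]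
  have hy'p : (m * y * m⁻¹) • base M = base M := by
    have := hfix (base M) hF.fix_base
    rwa [hmb] at this
  obtain ⟨P', hP'⟩ := h.exists_reg hS hloc (hF.bad.conj m) hy'p
    (by rw [h.fix_eq (hF.bad.conj m) hF.bad]; exact hbig)
  have hin : ∀ v ∈ P₀, m * v * m⁻¹ ∈ P' := fun v hv => by
    obtain ⟨hvL, hvp, k, hk⟩ := (hY₀.reg.mem v).1 hv
    exact (hP'.mem _).2 ⟨locGroup_conj hvL m, by rw [mul_smul, mul_smul, hmi, hvp, hmb], k,
      by rw [conj_pow, hk, mul_one, mul_inv_cancel]⟩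
  have hout : ∀ v ∈ P', m⁻¹ * v * m ∈ P₀ := fun v hv => by
    obtain ⟨hvL, hvp, k, hk⟩ := (hP'.mem v).1 hv
    have h1 := locGroup_conj hvL m⁻¹
    rw [inv_inv, show m⁻¹ * (m * y * m⁻¹) * m = y by group] at h1
    refine (hY₀.reg.mem _).2 ⟨h1, by rw [mul_smul, mul_smul, hmb, hvp, hmi], k, ?_⟩
    have h2 : (m⁻¹ * v * m⁻¹⁻¹) ^ 2 ^ k = 1 := by rw [conj_pow, hk, mul_one, mul_inv_cancel]
    rwa [inv_inv] at h2
  refine ⟨m, P', U.map (MulAut.conj m).toMonoidHom, hmb, hmy, hmem U, ?_⟩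
  refine
    { frame := ⟨hF.bad.conj m, ?_, hfix b hF.fix_pt, ?_, hF.two.map _, ?_, ?_, ⟨y, hF.self, rfl⟩, ?_⟩
      reg := hP'
      two := hY.two
      smul := hY.smul
      centE := hY.centE
      grp_le := hY.grp_le
      reg_le := fun v hv => hle ((hmem S₀ v).2 (hY₀.reg_le (hout v hv)))
      T_le := (map_mono hY₀.T_le).trans hle
      coset := ?_
      surj := ?_
      decomp := ?_
      max := hY.max }
  · exact hy'p
  · exact fun e => hF.ne (smul_left_cancel m (e.trans hmb.symm))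
  · rintro _ ⟨t, ht, rfl⟩
    exact (Commute.conj_iff m).2 (hF.cent t ht)
  · rintro _ ⟨t, ht, rfl⟩
    refine ⟨?_, ?_⟩
    · show (m * t * m⁻¹) • base M = base M
      rw [mul_smul, mul_smul, hmi, (hF.fix_T t ht).1, hmb]
    · show (m * t * m⁻¹) • m • b = m • b
      rw [smul_smul, inv_mul_cancel_right, mul_smul, (hF.fix_T t ht).2]
  · intro V c hV hc hVf
    rw [card_map_of_injective (MulAut.conj m).injective]
    exact hF.max V c hV hc hVf
  · intro g hg
    have h1 := hY₀.coset _ (hback g hg)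
    have h2 := h.conj_mem hmb h1
    rwa [show m * (m⁻¹ * g * m * y * (m⁻¹ * g * m)⁻¹ * y) * m⁻¹ = g * (m * y * m⁻¹) * g⁻¹ * (m * y * m⁻¹) by
      group] at h2
  · intro e he
    obtain ⟨g, hg, hgy⟩ := hY₀.surj (m⁻¹ * e * m) (by simpa using h.conj_mem hmi he)
    refine ⟨m * g * m⁻¹, hmS g hg, ?_⟩
    calc m * g * m⁻¹ * (m * y * m⁻¹) * (m * g * m⁻¹)⁻¹ = m * (g * y * g⁻¹) * m⁻¹ := by group
      _ = e * (m * y * m⁻¹) := by rw [hgy]; group
  · intro g hg hcm
    have h1 : Commute y (m⁻¹ * g * m) := (Commute.conj_iff m).1 (by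
      rwa [show m * (m⁻¹ * g * m) * m⁻¹ = g by group])
    obtain ⟨v, hv, t, ht, hvt⟩ := hY₀.decomp _ (hback g hg) h1
    exact ⟨_, hin v hv, _, ⟨t, ht, rfl⟩, by
      show g = m * v * m⁻¹ * (m * t * m⁻¹)
      rw [show m * v * m⁻¹ * (m * t * m⁻¹) = m * (v * t) * m⁻¹ by group, ← hvt]; group⟩

end EqRes

end CfsgLib.SECrit.Eq
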