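import Cfsg.Agent.Lib.Invol.SECriterion.EqType.Big.CentInvol

/-!
# The strong embedding criterion, equal type with `q ^ 2 + 1` fixed points: squares in the regular group

The squares give a bijection of the regular group modulo the members and the kernel with the members.
With translations all moving the members, a root of `x` would be translated to an element central in
the regular group: so only `x` centralizes `x` and fixes two points.
-/

set_option autoImplicit false
set_option linter.style.haveILetI false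
set_option linter.unusedSectionVars false

namespace CfsgLib.SECrit.Eq

open CfsgLib.Invol Small Subgroup

universe u

variable {G : Type u} [Group G] [Finite G] {M : Subgroup G} {z : G}

/-- The regular group at the point with `q ^ 2` further fixed points, by the property used. -/
def SqUnique (h : EqRes M z) (x : G) (P : Subgroup G) : Prop :=
  ∀ u ∈ P, ∀ v ∈ P, ∀ e ∈ h.res.grp (base M), e * (u * u) ∈ locKer M z x → e * (v * v) ∈ locKer M z x →
    ∃ f ∈ h.res.grp (base M), f * (u⁻¹ * v) ∈ locKer M z x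

namespace EqRes

variable (h : EqRes M z) (hS : Setup M z) (hloc : ∀ x : G, IsBad M x → Local M z x) {x : G} {a : G ⧸ M}
  (hx : Bad z x) (hxp : x • base M = base M) (hap : a ≠ base M) (hxa : x • a = a)
  (hfix : fix M x = (deg M z + 1) ^ 2 + 1) {P : Subgroup G} (hP : RegTwo M z x (base M) P)
include h hS hloc hx hxp hap hxa hfix hP

omit hS hloc hfix in
/-- A member in the kernel is trivial. -/
theorem eq_one_of_locKer {e : G} (he : e ∈ h.res.grp (base M)) (hek : e ∈ locKer M z x) : e = 1 :=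
  h.eq_one_of_grp_fix he hap ((mem_locKer.1 hek).2 a hxa)

omit hfix in
/-- The kernel part is central. -/
theorem ker_comm_reg {k g : G} (hk : k ∈ locKer M z x) (hg : g ∈ P) : Commute k g :=
  (hloc x (h.isBad hx)).ker_comm k hk g ((hP.mem g).1 hg).1

omit hap hxa hfix in
theorem grp_le_reg : h.res.grp (base M) ≤ P := h.lineGrp_eq hx hxp ▸ hP.line_le

omit hfix in
theorem reg_comm_grp {e g : G} (he : e ∈ h.res.grp (base M)) (hg : g ∈ P) : Commute e g :=
  hP.comm e (by rwa [h.lineGrp_eq hx hxp]) g hg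

/-- **The square map is injective modulo the members and the kernel.** -/
theorem sqUnique : SqUnique h x P := by
  classical
  obtain ⟨β, hβ2, hβ⟩ := h.exists_deg_pow
  have hb := h.isBad hx
  obtain ⟨P', hP', hequal, hcard⟩ := hS.exists_regTwo (hloc x hb) hb hxp (β := β) (m := 2)
    (by rw [show Nat.card (CAt z ({x} : Set G) (base M)) = deg M z from h.full x _ hx hxp, hβ]) hβ2 le_rfl
    (show fix M x = _ by rw [hfix, hβ, ← pow_mul])
  obtain rfl : P = P' := Subgroup.ext fun g => (hP.mem g).trans (hP'.mem g).symm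
  rw [h.lineGrp_eq hx hxp] at hequal hcard
  set E := h.res.grp (base M) with hE
  set K := locKer M z x with hK
  have hEP := h.grp_le_reg hS hloc hx hxp hP
  let F : P → E → Prop := fun v e => (e : G) * ((v : G) * v) ∈ K
  have hex : ∀ v : P, ∃ e : E, F v e := fun v => by
    obtain ⟨e, he, hek⟩ := hP.sq v v.2
    exact ⟨⟨e, by rwa [h.lineGrp_eq hx hxp] at he⟩, hek⟩
  choose sq hsq using hex
  have huniq : ∀ (v : P) (e : E), F v e → e = sq v := fun v e he => by
    have h1 := mul_mem he (inv_mem (hsq v))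
    rw [show (e : G) * ((v : G) * v) * ((sq v : G) * ((v : G) * v))⁻¹ = (e : G) * (sq v : G)⁻¹ by group] at h1
    exact mul_inv_eq_one.1 (Subtype.ext (h.eq_one_of_locKer hx hxp hap hxa hP
      (mul_mem e.2 (inv_mem (sq v).2)) h1))
  -- the trivial fibre
  let W : Subgroup G := E ⊔ (P ⊓ K)
  have hWP : W ≤ P := sup_le hEP inf_le_left
  have hWdec : ∀ w ∈ W, ∃ e ∈ E, e * w ∈ K := by
    intro w hw
    rw [show W = Subgroup.closure ((E : Set G) ∪ (P ⊓ K : Subgroup G)) from Subgroup.sup_eq_closure E (P ⊓ K)] at hw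
    induction hw using closure_induction with
    | mem y hy =>
      rcases hy with hy | hy
      · exact ⟨y, hy, by rw [h.res.grp_sq hy]; exact one_mem _⟩
      · exact ⟨1, one_mem _, by rw [one_mul]; exact hy.2⟩
    | one => exact ⟨1, one_mem _, by rw [one_mul]; exact one_mem _⟩
    | mul y₁ y₂ hy₁ hy₂ ih₁ ih₂ =>
      obtain ⟨e₁, he₁, hk₁⟩ := ih₁
      obtain ⟨e₂, he₂, hk₂⟩ := ih₂
      refine ⟨e₁ * e₂, mul_mem he₁ he₂, ?_⟩
      have hy : y₁ ∈ P := hWP (by
        rw [show W = Subgroup.closure ((E : Set G) ∪ (P ⊓ K : Subgroup G)) from Subgroup.sup_eq_closure E (P ⊓ K)]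
        exact hy₁)
      rw [show e₁ * e₂ * (y₁ * y₂) = e₁ * (e₂ * y₁) * y₂ by group,
        (h.reg_comm_grp hS hloc hx hxp hap hxa hP he₂ hy).eq, show e₁ * (y₁ * e₂) * y₂ = e₁ * y₁ * (e₂ * y₂) by group]
      exact mul_mem hk₁ hk₂
    | inv y hy ih =>
      obtain ⟨e, he, hk⟩ := ih
      refine ⟨e, he, ?_⟩
      have hy' : y ∈ P := hWP (by
        rw [show W = Subgroup.closure ((E : Set G) ∪ (P ⊓ K : Subgroup G)) from Subgroup.sup_eq_closure E (P ⊓ K)]
        exact hy)
      have h1 := inv_mem hk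
      rwa [mul_inv_rev, inv_eq_of_mul_eq_one_right (h.res.grp_sq he),
        ← (h.reg_comm_grp hS hloc hx hxp hap hxa hP he (inv_mem hy')).eq] at h1
  have hWK : ∀ w ∈ W, w * w ∈ K := fun w hw => by
    obtain ⟨e, he, hk⟩ := hWdec w hw
    have h1 := mul_mem hk hk
    rwa [(h.reg_comm_grp hS hloc hx hxp hap hxa hP he (hWP hw)).symm.mul_mul_mul_comm,
      h.res.grp_sq he, one_mul] at h1
  have hKW : ∀ v : P, sq v = 1 ↔ (v : G) ∈ W := fun v => by
    constructor
    · intro hv
      obtain ⟨e, he, hek⟩ := hP.invol v v.2 (by simpa [F, hv] using hsq v)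
      rw [h.lineGrp_eq hx hxp] at he
      have h1 : e * (v : G) ∈ P ⊓ K := ⟨mul_mem (hEP he) v.2, hek⟩
      have h2 := mul_mem (mem_sup_left (T := P ⊓ K) he : e ∈ W) (mem_sup_right h1)
      rwa [← mul_assoc, h.res.grp_sq he, one_mul] at h2
    · intro hv
      exact (huniq v 1 (by simpa [F] using hWK v hv)).symm
  -- the sizes
  have hfib : ∀ e : E, e ≠ 1 → Nat.card {v : P // sq v = e} = Nat.card W := by
    have hWc : Nat.card W = Nat.card E * Nat.card (P ⊓ K : Subgroup G) := by
      rw [← Nat.card_prod]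
      refine (Nat.card_eq_of_bijective (fun r : E × (P ⊓ K : Subgroup G) =>
        (⟨r.1 * r.2, mul_mem (mem_sup_left r.1.2) (mem_sup_right r.2.2)⟩ : W)) ⟨?_, ?_⟩).symm
      · rintro ⟨e, k⟩ ⟨e', k'⟩ hh
        have h1 : (e : G) * k = e' * k' := congrArg Subtype.val hh
        have h2 : (e' : G)⁻¹ * e = k' * (k : G)⁻¹ := by
          rw [eq_mul_inv_iff_mul_eq, mul_assoc, h1, inv_mul_cancel_left]
        have h3 : (e' : G)⁻¹ * e ∈ K := by rw [h2]; exact mul_mem k'.2.2 (inv_mem k.2.2)
        obtain rfl : e' = e := Subtype.ext (inv_mul_eq_one.1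
          (h.eq_one_of_locKer hx hxp hap hxa hP (mul_mem (inv_mem e'.2) e.2) h3))
        obtain rfl : k = k' := Subtype.ext (mul_left_cancel h1)
        rfl
      · rintro ⟨w, hw⟩
        obtain ⟨e, he, hk⟩ := hWdec w hw
        exact ⟨(⟨e, he⟩, ⟨e * w, mul_mem (hEP he) (hWP hw), hk⟩), Subtype.ext (by
          show e * (e * w) = w
          rw [← mul_assoc, h.res.grp_sq he, one_mul])⟩
    have hcnt : ∀ e : E, Nat.card {v : P // sq v = e} = Nat.card {v : P // (e : G) * ((v : G) * v) ∈ K} :=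
      fun e => Nat.card_congr (Equiv.subtypeEquivRight fun v =>
        ⟨fun hv => hv ▸ hsq v, fun hv => (huniq v e hv).symm⟩)
    intro e he
    letI := Fintype.ofFinite E
    letI := Fintype.ofFinite P
    have hsum : Nat.card P = ∑ e' : E, Nat.card {v : P // sq v = e'} := by
      rw [← Nat.card_sigma]; exact Nat.card_congr (Equiv.sigmaFiberEquiv sq).symm
    rw [← Finset.add_sum_erase _ _ (Finset.mem_univ 1),
      Finset.sum_congr rfl fun e' he' => (hcnt e').trans ((hequal e' e'.2 e e.2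
        (fun e1 => (Finset.mem_erase.1 he').1 (Subtype.ext e1)) (fun e1 => he (Subtype.ext e1))).trans
        (hcnt e).symm), Finset.sum_const, Finset.card_erase_of_mem (Finset.mem_univ _), smul_eq_mul,
      Finset.card_univ, ← Nat.card_eq_fintype_card, hcard] at hsum
    have h1 : Nat.card {v : P // sq v = 1} = Nat.card W :=
      Nat.card_congr ((Equiv.subtypeEquivRight hKW).trans
        ⟨fun v => ⟨v.1, v.2⟩, fun w => ⟨⟨w.1, hWP w.2⟩, w.2⟩, fun _ => rfl, fun _ => rfl⟩)
    rw [h1, pow_two, mul_assoc, ← hWc] at hsum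
    have hq : 1 < Nat.card E := by rw [h.res.card_grp]; have := h.two_le; omega
    obtain ⟨q, hq'⟩ : ∃ q, Nat.card E = q + 1 := ⟨Nat.card E - 1, by omega⟩
    rw [hq', Nat.add_sub_cancel, add_mul, one_mul, add_comm] at hsum
    exact (Nat.eq_of_mul_eq_mul_left (by omega) (Nat.add_left_cancel hsum)).symm
  intro u hu v hv e he hu' hv'
  suffices hW' : u⁻¹ * v ∈ W from hWdec _ hW'
  have hu2 := huniq ⟨u, hu⟩ ⟨e, he⟩ hu'
  have hv2 := huniq ⟨v, hv⟩ ⟨e, he⟩ hv'
  by_cases he1 : (⟨e, he⟩ : E) = 1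
  · exact mul_mem (inv_mem ((hKW ⟨u, hu⟩).1 (hu2.symm.trans he1))) ((hKW ⟨v, hv⟩).1 (hv2.symm.trans he1))
  -- the coset of `u` is the whole fibre
  have hmem : ∀ w ∈ W, ∀ hw : u * w ∈ P, sq ⟨u * w, hw⟩ = ⟨e, he⟩ := fun w hw hwP => by
    refine (huniq _ _ ?_).symm
    show e * (u * w * (u * w)) ∈ K
    have huw : Commute u w := by
      obtain ⟨f, hf, hfk⟩ := hWdec w hw
      have h1 := (h.reg_comm_grp hS hloc hx hxp hap hxa hP hf hu).mul_left
        (h.ker_comm_reg hS hloc hx hxp hap hxa hP hfk hu)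
      rw [← mul_assoc, h.res.grp_sq hf, one_mul] at h1
      exact h1.symm
    rw [huw.symm.mul_mul_mul_comm, ← mul_assoc]
    exact mul_mem hu' (hWK w hw)
  let φ : W → {v : P // sq v = ⟨e, he⟩} := fun w =>
    ⟨⟨u * w, mul_mem hu (hWP w.2)⟩, hmem w w.2 _⟩
  have hφ : Function.Bijective φ := (Nat.bijective_iff_injective_and_card φ).2
    ⟨fun w w' hh => Subtype.ext (mul_left_cancel (congrArg (fun r : {v : P // sq v = ⟨e, he⟩} => (r.1 : G)) hh)),
      (hfib _ he1).symm⟩
  obtain ⟨w, hw⟩ := hφ.2 ⟨⟨v, hv⟩, hv2.symm⟩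
  rw [← show u * (w : G) = v from congrArg (fun r : {v : P // sq v = ⟨e, he⟩} => (r.1 : G)) hw,
    inv_mul_cancel_left]
  exact w.2

end EqRes

end CfsgLib.SECrit.Eq
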