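import Cfsg.Agent.Lib.Invol.SECriterion.EqType.Big.Frame
import Cfsg.Agent.Lib.Invol.SECriterion.Shape.KernelCount
import Mathlib.GroupTheory.Perm.Cycle.Type

/-!
# The strong embedding criterion, equal type: the fixed points of an element of the two-group of a pair

`t` lies in the two-group of a pair of fixed points of `x` and `t ^ 2` fixes all of them.  Every pair moved
by `t` has one swap centralizing `x` and `t`, so the common fixed points divide those of `x`: `t` fixes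
all of them, or `q + 1` of `q ^ 3 + 1`.
-/

set_option autoImplicit false
set_option linter.style.haveILetI false
set_option linter.unusedSectionVars false
set_option linter.ambiguousOpen false

namespace CfsgLib.SECrit.Eq.EqRes

open CfsgLib.Invol Small Subgroup

universe u

variable {G : Type u} [Group G] [Finite G] {M : Subgroup G} {z : G}

theorem ptwise_fix {x g : G} (hg : g ∈ ptwise M z x) {b : G ⧸ M} (hb : x • b = b) : g • b = b :=
  (mem_ptwise.1 hg).2.2 b hb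

theorem ptwise_comm {x g : G} (hg : g ∈ ptwise M z x) : Commute x g := (mem_ptwise.1 hg).1

theorem ptwise_loc {x g l : G} (hg : g ∈ ptwise M z x) (hl : l ∈ locGroup z x) : Commute g l :=
  ((mem_ptwise.1 hg).2.1 l hl).symm

theorem isPGroup_regTwo {x : G} {p : G ⧸ M} {P : Subgroup G} (hP : RegTwo M z x p P) : IsPGroup 2 P := fun g => by
  obtain ⟨-, -, k, hk⟩ := (hP.mem g).1 g.2
  exact ⟨k, Subtype.ext hk⟩

theorem regTwo_conj {x : G} {p : G ⧸ M} {P : Subgroup G} (hP : RegTwo M z x p P) {c g : G} (hxc : Commute x c)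
    (hcp : c • p = p) (hg : g ∈ P) : c * g * c⁻¹ ∈ P := by
  obtain ⟨hgL, hgp, k, hk⟩ := (hP.mem g).1 hg
  refine (hP.mem _).2 ⟨?_, by rw [mul_smul, mul_smul, inv_smul_eq_iff.2 hcp.symm, hgp, hcp], k,
    by rw [conj_pow, hk, mul_one, mul_inv_cancel]⟩
  clear hgp hg hk k
  induction hgL using closure_induction with
  | mem d hd => exact mem_locGroup (hd.1.trans (isConj_iff.2 ⟨c, rfl⟩)) ((hxc.mul_right hd.2).mul_right hxc.inv_right)
  | one => simp
  | mul a b _ _ iha ihb =>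
    rw [show c * (a * b) * c⁻¹ = c * a * c⁻¹ * (c * b * c⁻¹) by group]; exact mul_mem iha ihb
  | inv a _ iha => rw [show c * a⁻¹ * c⁻¹ = (c * a * c⁻¹)⁻¹ by group]; exact inv_mem iha

variable (h : EqRes M z) {x : G}
include h

theorem exists_card_grp : ∃ β : ℕ, 2 ≤ β ∧ deg M z + 1 = 2 ^ β := by
  haveI : Fact (Nat.Prime 2) := ⟨Nat.prime_two⟩
  obtain ⟨β, hβ⟩ := IsPGroup.iff_card.1 (h.res.isPGroup_grp (base M))
  rw [h.res.card_grp] at hβ
  refine ⟨β, ?_, hβ⟩
  have := h.two_le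
  rcases β with _ | _ | β <;> simp_all

theorem card_cat (hx : Bad z x) {p : G ⧸ M} (hp : x • p = p) :
    Nat.card (CAt z ({x} : Set G) p) = deg M z := h.full x p hx hp

theorem grp_mem_loc (hx : Bad z x) {p : G ⧸ M} (hp : x • p = p) {d : G} (hd : d ∈ h.res.grp p) :
    d ∈ locGroup z x := by
  rcases (show d = 1 ∨ _ from hd) with rfl | hd'
  · exact one_mem _
  · exact mem_locGroup hd'.1 (h.commute_grp hx hp hd)

theorem frame_ptwise_iff (hloc : ∀ x, IsBad M x → Local M z x) {a : G ⧸ M} {T : Subgroup G}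
    (hF : Frame M z x a T) {t : G} (ht : t ∈ T) :
    t ∈ ptwise M z x ↔ ∀ b : G ⧸ M, x • b = b → t • b = b := by
  refine ⟨fun hh b hb => ptwise_fix hh hb, fun hh => mem_ptwise.2 ⟨hF.cent t ht, fun l hl => ?_, hh⟩⟩
  have hxt := hF.cent t ht
  induction hl using closure_induction with
  | mem d hd =>
    have he : IsConj z (t * d * t⁻¹) := hd.1.trans (isConj_iff.2 ⟨t, rfl⟩)
    have hxe : Commute x (t * d * t⁻¹) := (hxt.mul_right hd.2).mul_right hxt.inv_right
    have h1 := (hloc x (h.isBad hF.bad)).eq_of_ker d (t * d * t⁻¹) hd.1 he hd.2 hxe (mem_locKer.2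
      ⟨mul_mem (inv_mem (mem_locGroup hd.1 hd.2)) (mem_locGroup he hxe), fun b hb => by
        rw [mul_smul, inv_smul_eq_iff, mul_smul, mul_smul, inv_smul_eq_iff.2 (hh b hb).symm,
          hh _ (smul_mem_fix hd.2 hb)]⟩)
    exact (mul_inv_eq_iff_eq_mul.1 h1.symm).symm
  | one => exact Commute.one_left t
  | mul a b _ _ iha ihb => exact iha.mul_left ihb
  | inv a _ iha => exact iha.inv_left

variable (hx : Bad z x)
include hx

/-- A swap centralizing `x` and an element keeping the pair. -/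
theorem exists_swap_pair {c c' : G ⧸ M} (hc : x • c = c) (hc' : x • c' = c') (hne : c ≠ c') {g : G}
    (hxg : Commute x g) (hg2 : g * g ∈ ptwise M z x)
    (hpair : (g • c = c ∧ g • c' = c') ∨ (g • c = c' ∧ g • c' = c)) :
    ∃ s : G, IsConj z s ∧ s • c = c' ∧ Commute x s ∧ Commute g s := by
  classical
  haveI : Fact (Nat.Prime 2) := ⟨Nat.prime_two⟩
  have hcr := h.res.crit
  let Sw := {s : G // IsConj z s ∧ s • c = c' ∧ Commute x s}
  obtain ⟨d, hd, hdc⟩ := hcr.exists_fixing c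
  have hxd : Commute x d := h.commute_grp hx hc (Or.inr ⟨hd, hdc⟩)
  have hcard : Nat.card Sw = Nat.card (DAt z c') := by
    refine Nat.card_eq_of_bijective (fun s => (⟨s.1 * d * s.1⁻¹, hd.trans (isConj_iff.2 ⟨s.1, rfl⟩), by
      rw [mul_smul, mul_smul, inv_smul_eq_iff.2 s.2.2.1.symm, hdc, s.2.2.1]⟩ : DAt z c')) ⟨?_, ?_⟩
    · intro s s' he
      exact Subtype.ext (hcr.midpoint_unique hd s.2.1 s'.2.1 hdc (by rw [s.2.2.1]; exact hne.symm)
        (congrArg Subtype.val he :))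
    · rintro ⟨e, he, hec⟩
      obtain ⟨k, hk, hke⟩ := hcr.exists_midpoint hd he hdc hec hne
      exact ⟨⟨k, hk, hcr.smul_eq_of_conj he hke hdc hec, hcr.commute_midpoint hd he hk hdc hec hne hke hxd
        (h.commute_grp hx hc' (Or.inr ⟨he, hec⟩))⟩, Subtype.ext hke⟩
  have hfix : ∀ s : Sw, (g * s.1 * g⁻¹) • c = c' := fun s => by
    have hs' : s.1 • c' = c := by
      have h1 : s.1 • s.1 • c = c := by rw [smul_smul, invol_mul_self (hcr.orderOf_conj s.2.1), one_smul]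
      rwa [s.2.2.1] at h1
    rcases hpair with ⟨h1, h2⟩ | ⟨h1, h2⟩
    · rw [mul_smul, mul_smul, inv_smul_eq_iff.2 h1.symm, s.2.2.1, h2]
    · rw [mul_smul, mul_smul, inv_smul_eq_iff.2 h2.symm, hs', h1]
  let f : Sw → Sw := fun s => ⟨g * s.1 * g⁻¹, s.2.1.trans (isConj_iff.2 ⟨g, rfl⟩), hfix s,
    (hxg.mul_right s.2.2.2).mul_right hxg.inv_right⟩
  have hf : Function.Involutive f := fun s => Subtype.ext (by
    show g * (g * s.1 * g⁻¹) * g⁻¹ = s.1
    rw [show g * (g * s.1 * g⁻¹) * g⁻¹ = g * g * s.1 * (g * g)⁻¹ by group,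
      (ptwise_loc hg2 (mem_locGroup s.2.1 s.2.2.2)).eq, mul_inv_cancel_right])
  letI := Fintype.ofFinite Sw
  obtain ⟨⟨s, hs1, hs2, hs3⟩, hs⟩ := Equiv.Perm.exists_fixed_point_of_prime (p := 2) (n := 1)
    (by
      rw [← Nat.card_eq_fintype_card, hcard, card_DAt]
      exact fun hh => Nat.not_even_iff_odd.2 hcr.odd_deg (even_iff_two_dvd.2 hh))
    (σ := hf.toPerm f) (by
      rw [pow_one, pow_two]
      exact Equiv.ext hf)
  exact ⟨s, hs1, hs2, hs3, mul_inv_eq_iff_eq_mul.1 (congrArg Subtype.val hs :)⟩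

/-- Centralizing the members at one of two fixed points is centralizing them at the other. -/
theorem commute_transport {c c' : G ⧸ M} (hc : x • c = c) (hc' : x • c' = c') {g : G} (hxg : Commute x g)
    (hg2 : g * g ∈ ptwise M z x) (hgc : g • c = c) (hgc' : g • c' = c')
    (hg : ∀ d ∈ h.res.grp c, Commute g d) : ∀ d ∈ h.res.grp c', Commute g d := by
  by_cases hne : c = c'
  · subst hne; exact hg
  obtain ⟨k, hk, hkc, -, hgk⟩ := h.exists_swap_pair hx hc hc' hne hxg hg2 (Or.inl ⟨hgc, hgc'⟩)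
  have hki : k • c' = c := by rw [← hkc, smul_smul, invol_mul_self (h.res.crit.orderOf_conj hk), one_smul]
  intro d hd
  have h1 := hg (k * d * k⁻¹) ?_
  · have h2 := (hgk.inv_right.mul_right h1).mul_right hgk
    rwa [show k⁻¹ * (k * d * k⁻¹) * k = d by group] at h2
  · rcases (show d = 1 ∨ _ from hd) with rfl | hd'
    · simp
    · exact Or.inr ⟨hd'.1.trans (isConj_iff.2 ⟨k, rfl⟩),
        by rw [mul_smul, mul_smul, inv_smul_eq_iff.2 hki.symm, hd'.2, hki]⟩

end CfsgLib.SECrit.Eq.EqRes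

namespace CfsgLib.SECrit.Shape

/-- `2 ^ l + 1` dividing `2 ^ k + 1` for `β ≤ l < k` and `k` one of `β`, `2 β`, `3 β`. -/
theorem fix_divisor_arith {β l k : ℕ} (h1 : β ≤ l) (h2 : l < k) (hk : k = β ∨ k = β * 2 ∨ k = β * 3)
    (h : 2 ^ l + 1 ∣ 2 ^ k + 1) : k = β * 3 ∧ l = β := by
  rcases hk with rfl | rfl | rfl
  · omega
  · obtain ⟨j, hj⟩ := Nat.exists_eq_add_of_le h2.le
    have hjl : j ≤ l := by omega
    rw [hj, pow_add] at h
    have hj1 := Nat.two_pow_pos j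
    have e : (2 ^ l * 2 ^ j + 1) + (2 ^ j - 1) = (2 ^ l + 1) * 2 ^ j := by
      rw [add_mul, one_mul]; omega
    have h3 : 2 ^ l + 1 ∣ 2 ^ j - 1 := (Nat.dvd_add_right h).1 (e ▸ dvd_mul_right _ _)
    rcases Nat.eq_zero_or_pos (2 ^ j - 1) with h0 | h0
    · have : j = 0 := by
        by_contra hne
        have := Nat.le_self_pow hne 2
        omega
      omega
    · have := Nat.le_of_dvd h0 h3
      have := Nat.pow_le_pow_right (n := 2) (by norm_num) hjl
      omega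
  · rcases root_fix_arith h1 h2.le h with e | e
    · exact ⟨rfl, e⟩
    · omega

end CfsgLib.SECrit.Shape

namespace CfsgLib.SECrit.Eq.EqRes

open CfsgLib.Invol Small Subgroup

universe u

variable {G : Type u} [Group G] [Finite G] {M : Subgroup G} {z : G}
variable (h : EqRes M z) (hS : Setup M z) (hloc : ∀ x, IsBad M x → Local M z x) {x : G} {a : G ⧸ M}
  {T P : Subgroup G} (hF : Frame M z x a T) (hP : RegTwo M z x (base M) P)
  (hTE : ∀ t ∈ T, ∀ e ∈ h.res.grp (base M), Commute t e)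
include h hS hloc hF hP hTE

/-- **The fixed points of an element of the two-group of the pair.** -/
theorem fix_count {t : G} (ht : t ∈ T) (ht2 : t * t ∈ ptwise M z x) (htW : t ∉ ptwise M z x) :
    fix M x = (deg M z + 1) ^ 3 + 1 ∧ Nat.card {b : G ⧸ M // x • b = b ∧ t • b = b} = deg M z + 2 := by
  classical
  haveI : Fact (Nat.Prime 2) := ⟨Nat.prime_two⟩
  have hx := hF.bad
  have hxt := hF.cent t ht
  have htp := (hF.fix_T t ht).1
  have hcr := h.res.crit
  have hxp := hF.fix_base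
  set F0 := {b : G ⧸ M // x • b = b ∧ t • b = b}
  have hF0E : ∀ o : F0, ∀ d ∈ h.res.grp o.1, Commute t d := fun o =>
    h.commute_transport hx hxp o.2.1 hxt ht2 htp o.2.2 (hTE t ht)
  -- a moved pair has one swap
  have hex : ∀ δ : G ⧸ M, x • δ = δ → t • δ ≠ δ →
      ∃! s : G, IsConj z s ∧ s • δ = t • δ ∧ Commute x s ∧ Commute t s := by
    intro δ hδ hne
    have hδ2 : t • t • δ = δ := by rw [smul_smul]; exact ptwise_fix ht2 hδ
    obtain ⟨s, hs, hsδ, hxs, hts⟩ := h.exists_swap_pair hx hδ (smul_mem_fix hxt hδ) hne.symm hxt ht2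
      (Or.inr ⟨rfl, hδ2⟩)
    have key : ∀ s : G, IsConj z s → s • δ = t • δ → Commute x s → Commute t s →
        ∀ d ∈ h.res.grp δ, s * d * s⁻¹ = t * d * t⁻¹ := by
      intro s hs hsδ hxs hts d hd
      obtain ⟨o, ho⟩ := hcr.fix_exists hs
      have hxo : x • o = o := hcr.smul_of_commute hs hxs ho
      have hto : t • o = o := hcr.smul_of_commute hs hts ho
      have hy2 : s * t * (s * t) ∈ ptwise M z x := by
        rwa [hts.mul_mul_mul_comm, invol_mul_self (hcr.orderOf_conj hs), one_mul]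
      have hyE : ∀ d ∈ h.res.grp o, Commute (s * t) d := fun d hd =>
        (h.res.grp_commute (Or.inr ⟨hs, ho⟩) hd).mul_left (hF0E ⟨o, hxo, hto⟩ d hd)
      have h1 := h.commute_transport hx hxo hδ (hxs.mul_right hxt) hy2 (by rw [mul_smul, hto, ho])
        (by rw [mul_smul, ← hsδ, smul_smul, invol_mul_self (hcr.orderOf_conj hs), one_smul]) hyE d hd
      have h2 : s * t * d * (s * t)⁻¹ = d := by rw [h1.eq, mul_inv_cancel_right]
      conv_lhs => rw [← h2]
      calc s * (s * t * d * (s * t)⁻¹) * s⁻¹ = s * s * (t * d * t⁻¹) * (s * s)⁻¹ := by group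
        _ = t * d * t⁻¹ := by rw [invol_mul_self (hcr.orderOf_conj hs), one_mul, inv_one, mul_one]
    refine ⟨s, ⟨hs, hsδ, hxs, hts⟩, fun s' hs' => ?_⟩
    obtain ⟨d, hd, hdδ⟩ := hcr.exists_fixing δ
    exact hcr.midpoint_unique hd hs'.1 hs hdδ (by rw [hs'.2.1]; exact hne)
      ((key s' hs'.1 hs'.2.1 hs'.2.2.1 hs'.2.2.2 d (Or.inr ⟨hd, hdδ⟩)).trans
        (key s hs hsδ hxs hts d (Or.inr ⟨hd, hdδ⟩)).symm)
  -- the moved points in one piece for each common fixed point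
  let Pc : G ⧸ M → Type u := fun o =>
    {δ : G ⧸ M // (x • δ = δ ∧ t • δ ≠ δ) ∧
      ∃ s : G, IsConj z s ∧ s • o = o ∧ Commute x s ∧ Commute t s ∧ s • δ = t • δ}
  have hpart : Nat.card {δ : G ⧸ M // x • δ = δ ∧ t • δ ≠ δ} = Nat.card (Σ o : F0, Pc o.1) := by
    refine (Nat.card_eq_of_bijective
      (fun q : Σ o : F0, Pc o.1 => (⟨q.2.1, q.2.2.1⟩ : {δ : G ⧸ M // x • δ = δ ∧ t • δ ≠ δ})) ⟨?_, ?_⟩).symm
    · rintro ⟨⟨o, ho⟩, ⟨δ, hδ, s, hs, hso, hxs, hts, hsδ⟩⟩ ⟨⟨o', ho'⟩, ⟨δ', hδ', s', hs', hso', hxs', hts', hsδ'⟩⟩ hh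
      simp only [Subtype.mk.injEq] at hh
      subst hh
      obtain rfl : s = s' :=
        (hex δ hδ.1 hδ.2).unique ⟨hs, hsδ, hxs, hts⟩ ⟨hs', hsδ', hxs', hts'⟩
      obtain rfl := hcr.fix_unique hs hso hso'
      rfl
    · rintro ⟨δ, hδ⟩
      obtain ⟨s, ⟨hs, hsδ, hxs, hts⟩, -⟩ := hex δ hδ.1 hδ.2
      obtain ⟨o, ho⟩ := hcr.fix_exists hs
      exact ⟨⟨⟨o, hcr.smul_of_commute hs hxs ho, hcr.smul_of_commute hs hts ho⟩,
        ⟨δ, hδ, s, hs, ho, hxs, hts, hsδ⟩⟩, rfl⟩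
  have hPc : ∀ o : F0, Nat.card (Pc o.1) = Nat.card (Pc (base M)) := by
    intro o
    by_cases hop : o.1 = base M
    · rw [hop]
    obtain ⟨w, hw, hwo, hxw, htw⟩ := h.exists_swap_pair hx o.2.1 hxp hop hxt ht2 (Or.inl ⟨o.2.2, htp⟩)
    have hwp : w • base M = o.1 := by rw [← hwo, smul_smul, invol_mul_self (hcr.orderOf_conj hw), one_smul]
    have key : ∀ (o' o'' : G ⧸ M), w • o' = o'' → ∀ δ : G ⧸ M,
        ((x • δ = δ ∧ t • δ ≠ δ) ∧
          ∃ s : G, IsConj z s ∧ s • o' = o' ∧ Commute x s ∧ Commute t s ∧ s • δ = t • δ) →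
        ((x • w • δ = w • δ ∧ t • w • δ ≠ w • δ) ∧
          ∃ s : G, IsConj z s ∧ s • o'' = o'' ∧ Commute x s ∧ Commute t s ∧ s • w • δ = t • w • δ) := by
      rintro o' o'' hoo δ ⟨⟨hδ, hne⟩, s, hs, hso, hxs, hts, hsδ⟩
      have e : t • w • δ = w • t • δ := by rw [smul_smul, htw.eq, mul_smul]
      exact ⟨⟨smul_mem_fix hxw hδ, fun e1 => hne (smul_left_cancel w (e ▸ e1))⟩, w * s * w⁻¹,
        hs.trans (isConj_iff.2 ⟨w, rfl⟩), by rw [← hoo, mul_smul, mul_smul, inv_smul_smul, hso],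
        (hxw.mul_right hxs).mul_right hxw.inv_right, (htw.mul_right hts).mul_right htw.inv_right,
        by rw [mul_smul, mul_smul, inv_smul_smul, hsδ, e]⟩
    refine Nat.card_congr ⟨fun δ => ⟨w • δ.1, key o.1 _ hwo δ.1 δ.2⟩, fun δ => ⟨w • δ.1, key _ o.1 hwp δ.1 δ.2⟩,
      fun δ => Subtype.ext ?_, fun δ => Subtype.ext ?_⟩ <;>
    · show w • w • δ.1 = δ.1
      rw [smul_smul, invol_mul_self (hcr.orderOf_conj hw), one_smul]
  have hsum : Nat.card {δ : G ⧸ M // x • δ = δ ∧ t • δ ≠ δ} + Nat.card F0 = fix M x := by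
    rw [fix, ← Nat.card_sum]
    exact Nat.card_congr
      { toFun := Sum.elim (fun δ => ⟨δ.1, δ.2.1⟩) (fun δ => ⟨δ.1, δ.2.1⟩)
        invFun := fun δ => if hh : t • δ.1 = δ.1 then Sum.inr ⟨δ.1, δ.2, hh⟩ else Sum.inl ⟨δ.1, δ.2, hh⟩
        left_inv := fun δ => by rcases δ with δ | δ <;> simp [δ.2.2]
        right_inv := fun δ => by by_cases hh : t • δ.1 = δ.1 <;> simp [hh] }
  letI := Fintype.ofFinite F0
  rw [Nat.card_sigma, Finset.sum_congr rfl fun o _ => hPc o, Finset.sum_const, smul_eq_mul,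
    Finset.card_univ, ← Nat.card_eq_fintype_card] at hpart
  have hdvd : Nat.card F0 ∣ fix M x := hsum ▸ hpart ▸ ⟨Nat.card (Pc (base M)) + 1, by ring⟩
  -- the common fixed points, apart from the base point, are an orbit
  have hPx : ∀ g ∈ P, Commute x g := fun g hg => commute_of_mem_locGroup ((hP.mem g).1 hg).1
  have hPp : ∀ g ∈ P, g • base M = base M := fun g hg => ((hP.mem g).1 hg).2.1
  let C' : Subgroup P :=
    { carrier := {k | ∀ b : G ⧸ M, x • b = b → t • (k : G) • b = (k : G) • t • b}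
      one_mem' := fun b _ => by simp
      mul_mem' := fun {k k'} hk hk' b hb => by
        show t • ((k : G) * k') • b = ((k : G) * k') • t • b
        rw [mul_smul, mul_smul, hk _ (smul_mem_fix (hPx k' k'.2) hb), hk' b hb]
      inv_mem' := fun {k} hk b hb => by
        show t • (k : G)⁻¹ • b = (k : G)⁻¹ • t • b
        rw [eq_inv_smul_iff, ← hk _ (smul_mem_fix (hPx k k.2).inv_right hb), smul_inv_smul] }
  obtain ⟨l, hl⟩ := ((isPGroup_regTwo hP).to_subgroup C').index (MulAction.stabilizer C' a)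
  have horb : MulAction.orbit C' a = {b : G ⧸ M | (x • b = b ∧ t • b = b) ∧ b ≠ base M} := by
    ext b
    constructor
    · rintro ⟨k, rfl⟩
      refine ⟨⟨smul_mem_fix (hPx _ k.1.2) hF.fix_pt, ?_⟩,
        fun e => hF.ne (smul_left_cancel ((k : P) : G) (e.trans (hPp _ k.1.2).symm))⟩
      show t • ((k : P) : G) • a = ((k : P) : G) • a
      rw [k.2 a hF.fix_pt, (hF.fix_T t ht).2]
    · rintro ⟨⟨hxb, htb⟩, hbp⟩
      obtain ⟨k, hk, hkb⟩ := hP.trans a b hF.fix_pt hxb hF.ne hbp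
      refine ⟨⟨⟨k, hk⟩, fun c hc => ?_⟩, hkb⟩
      have hk' : t * k * t⁻¹ ∈ P := regTwo_conj hP hxt htp hk
      have h1 : (k⁻¹ * (t * k * t⁻¹)) • a = a := by
        rw [mul_smul, mul_smul, mul_smul, inv_smul_eq_iff.2 (hF.fix_T t ht).2.symm, hkb, htb,
          inv_smul_eq_iff, hkb]
      have h2 := (mem_locKer.1 (hP.free _ (mul_mem (inv_mem hk) hk') a hF.fix_pt hF.ne h1)).2 (t • c)
        (smul_mem_fix hxt hc)
      rw [mul_smul, inv_smul_eq_iff, mul_smul, mul_smul, inv_smul_smul] at h2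
      exact h2
  rw [MulAction.index_stabilizer, horb, ← Nat.card_coe_set_eq] at hl
  have hF0c : Nat.card F0 = 2 ^ l + 1 := by
    rw [← hl, ← Nat.card_congr (Equiv.optionSubtypeNe (⟨base M, hxp, htp⟩ : F0)), Finite.card_option]
    exact congrArg (· + 1) (Nat.card_congr
      ⟨fun b => ⟨b.1.1, b.1.2, fun e => b.2 (Subtype.ext e)⟩,
        fun b => ⟨⟨b.1, b.2.1⟩, fun e => b.2.2 (congrArg Subtype.val e)⟩, fun _ => rfl, fun _ => rfl⟩)
  obtain ⟨β, hβ2, hβ⟩ := h.exists_card_grp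
  have hβl : β ≤ l := by
    refine (Nat.pow_le_pow_iff_right (a := 2) (by norm_num)).1 ?_
    rw [← hβ, ← h.res.card_grp (base M), ← hl]
    refine Nat.card_le_card_of_injective (fun e => ⟨(e : G) • a, ⟨h.fix_mul_mem hx hxp e.2 hF.fix_pt, ?_⟩,
      fun hh => hF.ne (smul_left_cancel (e : G) (hh.trans (h.res.grp_smul e.2).symm))⟩) fun e e' he => ?_
    · rw [smul_smul, (hTE t ht e e.2).eq, mul_smul, (hF.fix_T t ht).2]
    · have h1 : ((e' : G)⁻¹ * e) • a = a := by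
        rw [mul_smul, show (e : G) • a = (e' : G) • a from congrArg Subtype.val he, inv_smul_smul]
      exact Subtype.ext (inv_mul_eq_one.1
        (h.eq_one_of_grp_fix (mul_mem (inv_mem e'.2) e.2) hF.ne h1)).symm
  have hlc := hloc x (h.isBad hx)
  obtain ⟨⟨d, hd, hdp, hdx⟩, ⟨e, he, hep, hex'⟩, hne0⟩ :=
    (Finite.one_lt_card_iff_nontrivial.1 (show 1 < Nat.card (CAt z ({x} : Set G) (base M)) by
      rw [h.card_cat hx hxp]; exact h.two_le)).exists_pair_ne
  have hne : d ≠ e := fun e1 => hne0 (Subtype.ext e1)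
  have hxd := h.commute_grp hx hxp (Or.inr ⟨hd, hdp⟩)
  have hxe := h.commute_grp hx hxp (Or.inr ⟨he, hep⟩)
  obtain ⟨k, hk⟩ := hlc.card_fix ⟨d, e, hd, he, hxd, hxe, hlc.comm_at d e _ hd he hxd hxe hdp hep, hne⟩
    hF.ne.symm hxp hF.fix_pt
  have hcat := h.card_cat hx hxp
  have hshape := hS.fix_shape hlc (h.isBad hx) hxp (by rw [hcat]; exact h.two_le) (by rw [hcat]; exact hβ) hk
  obtain ⟨δ, hδ, hne'⟩ : ∃ δ : G ⧸ M, x • δ = δ ∧ t • δ ≠ δ := by
    by_contra hh
    push Not at hh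
    exact htW ((h.frame_ptwise_iff hloc hF ht).2 hh)
  haveI : Nonempty {δ : G ⧸ M // x • δ = δ ∧ t • δ ≠ δ} := ⟨⟨δ, hδ, hne'⟩⟩
  have hpos : 0 < Nat.card {δ : G ⧸ M // x • δ = δ ∧ t • δ ≠ δ} := Nat.card_pos
  have hlk : l < k := by
    refine (Nat.pow_lt_pow_iff_right (a := 2) (by norm_num)).1 ?_
    have hk' : fix M x = 2 ^ k + 1 := hk
    omega
  obtain ⟨e1, e2⟩ := Shape.fix_divisor_arith hβl hlk hshape (hF0c ▸ (show fix M x = 2 ^ k + 1 from hk) ▸ hdvd)
  refine ⟨?_, by rw [hF0c, e2, ← hβ]⟩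
  rw [show fix M x = 2 ^ k + 1 from hk, e1, hβ, ← pow_mul]

end CfsgLib.SECrit.Eq.EqRes
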