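import Cfsg.Agent.Lib.Invol.SECriterion.EqType.Big.CentPencil
import Cfsg.Agent.Lib.Invol.SECriterion.EqType.Big.Fixed
import Cfsg.Agent.Lib.Invol.SECriterion.EqType.Big.Twist

/-!
# The strong embedding criterion, equal type with many fixed points: one involution fixing two points

Translations all move the members.  An involution `y` centralizing `x` and two of its fixed points fixes
them all; times a member it fixes the fixed points of each `d x`, and this member is an image of `d` under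
one element of the torus.  These elements form a normalized group, so they are trivial and `y` is `x`.
-/

set_option autoImplicit false
set_option linter.style.haveILetI false
set_option linter.unusedSectionVars false

namespace CfsgLib.SECrit.Eq

open CfsgLib.Invol Small Subgroup

universe u

variable {G : Type u} [Group G] [Finite G] {M : Subgroup G} {z : G}

theorem NoTrans.translate {h : EqRes M z} {x : G} (hx : Bad z x) (hxp : x • base M = base M)
    (hb : NoTrans h x) {d : G} (hd : d ∈ h.res.grp (base M)) : NoTrans h (d * x) := by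
  intro n hnp hn2 hnE hnx
  have hnd : Commute n d := hnE d hd
  have h1 : n * (d * x) * n⁻¹ * (d * x) = n * x * n⁻¹ * x := by
    have hdx : Commute d x := (h.commute_grp hx hxp hd).symm
    have hnxd : Commute (n * x * n⁻¹) d := by
      have := (hdx.symm).conj n
      rwa [show n * d * n⁻¹ = d by rw [hnd.eq, mul_inv_cancel_right]] at this
    calc n * (d * x) * n⁻¹ * (d * x) = n * d * n⁻¹ * (n * x * n⁻¹) * d * x := by group
      _ = d * (n * x * n⁻¹) * d * x := by rw [hnd.eq, mul_inv_cancel_right]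
      _ = _ := by rw [mul_assoc d, hnxd.eq, ← mul_assoc d d, h.res.grp_sq hd, one_mul]
  exact hnd.mul_right (hb n hnp hn2 hnE (h1 ▸ hnx))

namespace EqRes

variable (h : EqRes M z)
include h

/-- An involution fixing two fixed points of `x` is bad. -/
theorem bad_of_fix_two {y : G} (hy : orderOf y = 2) {a : G ⧸ M} (hap : a ≠ base M)
    (hyp : y • base M = base M) (hya : y • a = a) : Bad z y :=
  ⟨hy, fun hh => hap (h.res.crit.fix_unique hh hya hyp)⟩

/-- An element fixing every fixed point of `x` centralizes the group of `x`. -/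
theorem commute_loc_of_fix (hloc : ∀ x : G, IsBad M x → Local M z x) {x t : G} (hx : Bad z x)
    (hxt : Commute x t) (hh : ∀ b : G ⧸ M, x • b = b → t • b = b) {l : G} (hl : l ∈ locGroup z x) :
    Commute t l := by
  induction hl using closure_induction with
  | mem d hd =>
    have he : IsConj z (t * d * t⁻¹) := hd.1.trans (isConj_iff.2 ⟨t, rfl⟩)
    have hxe : Commute x (t * d * t⁻¹) := (hxt.mul_right hd.2).mul_right hxt.inv_right
    have h1 := (hloc x (h.isBad hx)).eq_of_ker d (t * d * t⁻¹) hd.1 he hd.2 hxe (mem_locKer.2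
      ⟨mul_mem (inv_mem (mem_locGroup hd.1 hd.2)) (mem_locGroup he hxe), fun b hb => by
        rw [mul_smul, inv_smul_eq_iff, mul_smul, mul_smul, inv_smul_eq_iff.2 (hh b hb).symm,
          hh _ (smul_mem_fix hd.2 hb)]⟩)
    exact mul_inv_eq_iff_eq_mul.1 h1.symm
  | one => exact Commute.one_right t
  | mul a b _ _ iha ihb => exact iha.mul_right ihb
  | inv a _ iha => exact iha.inv_right

/-- Bad involutions, one fixing the fixed points of the other: the same fixed points. -/
theorem fix_of_le {x y : G} (hx : Bad z x) (hy : Bad z y) (hle : ∀ b : G ⧸ M, x • b = b → y • b = b)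
    {b : G ⧸ M} (hb : y • b = b) : x • b = b := by
  have h1 : {c : G ⧸ M | x • c = c} = {c | y • c = c} := by
    refine Set.eq_of_subset_of_ncard_le hle (le_of_eq ?_) (Set.toFinite _)
    rw [← Nat.card_coe_set_eq, ← Nat.card_coe_set_eq]
    exact h.fix_eq hy hx
  show b ∈ {c : G ⧸ M | x • c = c}
  rw [h1]; exact hb

variable (hS : Setup M z) (hloc : ∀ x : G, IsBad M x → Local M z x) {x : G} (hx : Bad z x)
  (hxp : x • base M = base M) (hm : fix M x = (deg M z + 1) ^ 2 + 1 ∨ fix M x = (deg M z + 1) ^ 3 + 1)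
  (hb : NoTrans h x)
include hS hloc hx hxp hm hb

/-- An involution centralizing `x` and fixing two of its fixed points fixes all of them. -/
theorem fix_all_of_invol {y : G} (hy : orderOf y = 2) (hxy : Commute x y) {a : G ⧸ M} (hap : a ≠ base M)
    (hxa : x • a = a) (hyp : y • base M = base M) (hya : y • a = a) {b : G ⧸ M} (hb' : x • b = b) :
    y • b = b := by
  by_contra hyb
  have hyb' := h.bad_of_fix_two hy hap hyp hya
  obtain ⟨c, hyc, hxc⟩ : ∃ c : G ⧸ M, y • c = c ∧ x • c ≠ c := by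
    by_contra hh
    push Not at hh
    exact hyb (h.fix_of_le hyb' hx hh hb')
  obtain ⟨v, hvp, hv2, hvE, d, hd, hd1, hvx⟩ := h.exists_translation_of_twist hS hloc hx hyb' hxy hap hxp
    hxa hyp hya (by rwa [h.fix_eq hyb' hx]) hyc hxc
  have h1 : Commute v x := hb v hvp hv2 hvE (by
    rw [hvx, mul_assoc, invol_mul_self hx.invol, mul_one]; exact hd)
  rw [h1.eq, mul_inv_cancel_right, right_eq_mul] at hvx
  exact hd1 hvx

/-- The member carrying `y` to the fixed points of `d x`. -/
theorem exists_carrier {y : G} (hy : orderOf y = 2) (hxy : Commute x y)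
    (hyE : ∀ e ∈ h.res.grp (base M), Commute y e) (hyp : y • base M = base M) {a : G ⧸ M}
    (hap : a ≠ base M) (hxa : x • a = a) (hyfix : ∀ b : G ⧸ M, x • b = b → y • b = b)
    {d : G} (hd : d ∈ h.res.grp (base M)) (hd1 : d ≠ 1) {a' : G ⧸ M} (ha' : (d * x) • a' = a')
    (ha'p : a' ≠ base M) :
    ∃ e ∈ h.res.grp (base M), e ≠ 1 ∧ (∀ b : G ⧸ M, (d * x) • b = b → (y * e) • b = b) ∧
      ∀ e' ∈ h.res.grp (base M), (∀ b : G ⧸ M, (d * x) • b = b → (y * e') • b = b) → e' = e := by
  have hyy := invol_mul_self hy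
  have hyb := h.bad_of_fix_two hy hap hyp (hyfix a hxa)
  have hxx := invol_mul_self hx.invol
  have hdx : Commute d x := (h.commute_grp hx hxp hd).symm
  have hdxo : orderOf (d * x) = 2 := by
    refine invol_iff.2 ⟨?_, fun e1 => ?_⟩
    · rw [hdx.symm.mul_mul_mul_comm, h.res.grp_sq hd, hxx, one_mul]
    · have : x = d := by
        rw [eq_inv_of_mul_eq_one_right e1, inv_eq_of_mul_eq_one_right (h.res.grp_sq hd)]
      exact hx.not_conj (this ▸ (hd.resolve_left hd1).1)
  have hdxp : (d * x) • base M = base M := by rw [mul_smul, hxp, h.res.grp_smul hd]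
  have hdb := h.bad_of_fix_two hdxo ha'p hdxp ha'
  have hyd : Commute (d * x) y := (hyE d hd).symm.mul_left hxy
  have hcom : ∀ o : G ⧸ M, x • o = o → (d * x) • o = o → o = base M := fun o h1 h2 => by
    rw [mul_smul, h1] at h2
    exact h.eq_of_grp_fix hd hd1 h2
  obtain ⟨e, he, hea⟩ : ∃ e ∈ h.res.grp (base M), (y * e) • a' = a' := by
    by_cases hh : y • a' = a'
    · exact ⟨1, one_mem _, by rwa [mul_one]⟩
    obtain ⟨s, hs, hsa, hxs, hys⟩ := h.exists_swap_pair hdb ha' (smul_mem_fix hyd ha') (Ne.symm hh) hyd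
      (by rw [hyy]; exact one_mem _) (Or.inr ⟨rfl, by rw [smul_smul, hyy, one_smul]⟩)
    obtain ⟨o, ho⟩ := h.res.crit.fix_exists hs
    have ho1 : o = base M := hcom o (h.fix_of_le hx hyb hyfix (h.res.crit.smul_of_commute hs hys ho))
      (h.res.crit.smul_of_commute hs hxs ho)
    exact ⟨s, Or.inr ⟨hs, ho1 ▸ ho⟩, by rw [mul_smul, hsa, smul_smul, hyy, one_smul]⟩
  have he1 : e ≠ 1 := fun e1 => by
    rw [e1, mul_one] at hea
    exact ha'p (hcom a' (h.fix_of_le hx hyb hyfix hea) ha')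
  refine ⟨e, he, he1, fun b hb' => ?_, fun e' he' hh => ?_⟩
  · have hye : Commute y e := hyE e he
    have h2 : (y * e) * (y * e) = 1 := by rw [hye.symm.mul_mul_mul_comm, hyy, h.res.grp_sq he, one_mul]
    by_cases h3 : y * e = 1
    · rw [h3, one_smul]
    · have hdE : ∀ f ∈ h.res.grp (base M), Commute (d * x) f := fun f hf =>
        (h.res.grp_commute hd hf).mul_left (h.commute_grp hx hxp hf)
      exact h.fix_all_of_invol hS hloc hdb hdxp (by rwa [h.fix_eq hdb hx]) (NoTrans.translate hx hxp hb hd)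
        (invol_iff.2 ⟨h2, h3⟩) (hyd.mul_right (hdE e he)) ha'p ha'
        (by rw [mul_smul, h.res.grp_smul he, hyp]) hea hb'
  · have h1 := hh a' ha'
    rw [mul_smul] at h1 hea
    have h2 : (e⁻¹ * e') • a' = a' := by
      rw [mul_smul, inv_smul_eq_iff]
      exact smul_left_cancel y (h1.trans hea.symm)
    exact (inv_mul_eq_one.1 (h.eq_one_of_grp_fix (mul_mem (inv_mem he) he') ha'p h2)).symm

/-- **The only one is `x`.** -/
theorem eq_of_invol {y : G} (hy : orderOf y = 2) (hxy : Commute x y) {a : G ⧸ M} (hap : a ≠ base M)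
    (hxa : x • a = a) (hyp : y • base M = base M) (hya : y • a = a) : y = x := by
  classical
  by_contra hne
  obtain ⟨C, β, hC, hCle, hCloc, -, -, -, hcent, hnorm⟩ := h.exists_pencil hS hloc hx hxp hb
  set E := h.res.grp (base M) with hE
  set ρ := h.conjE.rangeRestrict with hρ
  have hxx := invol_mul_self hx.invol
  -- a point of each translate
  have hpt : ∀ d ∈ E, ∃ τ : M, (τ : G) * x * (τ : G)⁻¹ = d * x := fun d hd => by
    obtain ⟨k, hk, hkx⟩ := hS.exists_translate hloc (h.isBad hx) hxp (by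
      rw [show Nat.card (CAt z ({x} : Set G) (base M)) = deg M z from h.full x _ hx hxp]
      exact h.two_le) (show d ∈ lineGrp z x (base M) by rw [h.lineGrp_eq hx hxp]; exact hd)
    exact ⟨⟨k, smul_base_iff.1 hk⟩, hkx⟩
  choose τ hτ using hpt
  have hτa : ∀ d, ∀ hd : d ∈ E, (d * x) • ((τ d hd : G) • a) = (τ d hd : G) • a ∧
      (τ d hd : G) • a ≠ base M := fun d hd =>
    ⟨by rw [← hτ d hd, smul_smul, inv_mul_cancel_right, mul_smul, hxa],
      fun e => hap (smul_left_cancel (τ d hd : G) (e.trans (smul_base_iff.2 (τ d hd).2).symm))⟩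
  -- the involutions fixing all the fixed points
  let W : G → Prop := fun w => orderOf w = 2 ∧ Commute x w ∧ (∀ e ∈ E, Commute w e) ∧
    w • base M = base M ∧ ∀ b : G ⧸ M, x • b = b → w • b = b
  have hW : ∀ w : G, orderOf w = 2 → Commute x w → w • base M = base M → w • a = a → W w :=
    fun w hw hxw hwp hwa => ⟨hw, hxw, hcent w 1 (by rw [pow_one, pow_two, invol_mul_self hw]) hwp hxw.symm, hwp,
      fun b hb' => h.fix_all_of_invol hS hloc hx hxp hm hb hw hxw hap hxa hwp hwa hb'⟩
  let Q : G → E → E → Prop := fun w d e => ∀ b : G ⧸ M, ((d : G) * x) • b = b → (w * (e : G)) • b = b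
  have hcar : ∀ w, W w → ∀ d : E, d ≠ 1 → ∃ e : E, e ≠ 1 ∧ Q w d e ∧ ∀ e', Q w d e' → e' = e := by
    intro w hw d hd
    obtain ⟨h1, h2⟩ := hτa d d.2
    obtain ⟨e, he, he1, hQ, hu⟩ := h.exists_carrier hS hloc hx hxp hm hb hw.1 hw.2.1 hw.2.2.1 hw.2.2.2.1 hap
      hxa hw.2.2.2.2 d.2 (fun e1 => hd (Subtype.ext e1)) h1 h2
    exact ⟨⟨e, he⟩, fun e1 => he1 (congrArg Subtype.val e1), hQ, fun e' hQ' => Subtype.ext (hu e' e'.2 hQ')⟩
  obtain ⟨d₀', e₀', hd₀, -, hd₀p, -, -⟩ := h.exists_two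
  set d₀ : E := ⟨d₀', Or.inr ⟨hd₀, hd₀p⟩⟩
  have hd₀1 : d₀ ≠ 1 := fun e1 => invol_ne_one (h.res.crit.orderOf_conj hd₀) (congrArg Subtype.val e1)
  let Cy : G → h.conjE.range → Prop := fun w c => c ∈ C ∧ ∀ d : E, d ≠ 1 → Q w d (c • d)
  have hCy : ∀ w, W w → ∃ c, Cy w c := by
    intro w hw
    obtain ⟨e, he1, hQ, -⟩ := hcar w hw d₀ hd₀1
    obtain ⟨c, hc, hce⟩ := hC.trans d₀ e hd₀1 he1
    refine ⟨c, hc, fun d hd => ?_⟩
    obtain ⟨k, hk, hkd⟩ := hC.trans d₀ d hd₀1 hd
    obtain ⟨m, hmL, hmk⟩ := hCloc k hk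
    have hwm : Commute w (m : G) := h.commute_loc_of_fix hloc hx hw.2.1 hw.2.2.2.2 hmL
    have hxm : Commute x (m : G) := commute_of_mem_locGroup hmL
    rw [← hkd, smul_smul, hC.comm c hc k hk, mul_smul, hce, ← hmk]
    intro b hb'
    show (w * ((m : G) * e * (m : G)⁻¹)) • b = b
    have hb2 : ((d₀ : G) * x) • ((m : G)⁻¹ • b) = (m : G)⁻¹ • b := by
      rw [eq_inv_smul_iff, smul_smul, smul_smul]
      have e1 : (m : G) * ((d₀ : G) * x) * (m : G)⁻¹ = (m : G) * d₀ * (m : G)⁻¹ * x := by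
        calc (m : G) * ((d₀ : G) * x) * (m : G)⁻¹ = (m : G) * d₀ * (m : G)⁻¹ * ((m : G) * x * (m : G)⁻¹) := by
              group
          _ = _ := by rw [← hxm.eq, mul_inv_cancel_right]
      rw [e1]
      exact hb'
    have h3 := hQ _ hb2
    rw [eq_inv_smul_iff, smul_smul, smul_smul] at h3
    rwa [show w * ((m : G) * e * (m : G)⁻¹) = (m : G) * (w * e) * (m : G)⁻¹ by
      rw [← mul_assoc, ← mul_assoc, hwm.eq]; group]
  -- their group is normalized
  set Γ := closure {c | ∃ w, W w ∧ Cy w c} with hΓ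
  have hΓC : Γ ≤ C := (closure_le _).2 fun c ⟨_, _, hc⟩ => hc.1
  have hΓbot : Γ = ⊥ := hnorm Γ hΓC fun g hg γ hγ => by
    induction hγ using closure_induction with
    | one => simp
    | mul a b _ _ iha ihb =>
      rw [show ρ g * (a * b) * (ρ g)⁻¹ = ρ g * a * (ρ g)⁻¹ * (ρ g * b * (ρ g)⁻¹) by group]
      exact mul_mem iha ihb
    | inv a _ iha =>
      rw [show ρ g * a⁻¹ * (ρ g)⁻¹ = (ρ g * a * (ρ g)⁻¹)⁻¹ by group]
      exact inv_mem iha
    | mem c hc =>
      obtain ⟨w, hw, hc⟩ := hc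
      have hgp : (g : G) • base M = base M := smul_base_iff.2 g.2
      set t₀ : E := ⟨(g : G) * x * (g : G)⁻¹ * x, hg⟩
      have hgx : (g : G) * x * (g : G)⁻¹ = (t₀ : G) * x := by
        show _ = (g : G) * x * (g : G)⁻¹ * x * x
        rw [mul_assoc _ x x, hxx, mul_one]
      set y₁ := (g : G) * w * (g : G)⁻¹
      have hy₁ : orderOf y₁ = 2 := invol_conj hw.1 (g : G)
      have hy₁p : y₁ • base M = base M := by
        rw [mul_smul, mul_smul, inv_smul_eq_iff.2 hgp.symm, hw.2.2.2.1, hgp]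
      have hy₁E : ∀ e ∈ E, Commute y₁ e := fun e he => by
        have h1 := (hw.2.2.1 _ (h.res.grp_conj (inv_smul_eq_iff.2 hgp.symm) he)).conj (g : G)
        rwa [show (g : G) * ((g : G)⁻¹ * e * (g : G)⁻¹⁻¹) * (g : G)⁻¹ = e by group] at h1
      have hfix₁ : ∀ b : G ⧸ M, ((t₀ : G) * x) • b = b → y₁ • b = b := fun b hb' => by
        rw [← hgx, mul_smul, mul_smul, ← eq_inv_smul_iff] at hb'
        rw [mul_smul, mul_smul, hw.2.2.2.2 _ hb', smul_inv_smul]
      have ht₀x : Commute x y₁ := by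
        have h1 : Commute ((t₀ : G) * x) y₁ := hgx ▸ hw.2.1.conj (g : G)
        have h2 := (hy₁E _ t₀.2).symm.inv_left.mul_left h1
        rwa [inv_mul_cancel_left] at h2
      have hga : ((t₀ : G) * x) • ((g : G) • a) = (g : G) • a ∧ (g : G) • a ≠ base M :=
        ⟨by rw [← hgx, smul_smul, inv_mul_cancel_right, mul_smul, hxa],
          fun e => hap (smul_left_cancel (g : G) (e.trans hgp.symm))⟩
      obtain ⟨e₁, hy'', hQ₁⟩ : ∃ e₁ : E, W (y₁ * e₁) ∧ (t₀ = 1 → e₁ = 1) := by
        suffices hh : ∃ e₁ : E, (∀ b : G ⧸ M, x • b = b → (y₁ * e₁) • b = b) ∧ (t₀ = 1 → e₁ = 1) by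
          obtain ⟨e₁, h1, h1'⟩ := hh
          have h2 : Commute y₁ e₁ := hy₁E _ e₁.2
          have h3 : y₁ * e₁ * (y₁ * e₁) = 1 := by
            rw [h2.symm.mul_mul_mul_comm, invol_mul_self hy₁, h.res.grp_sq e₁.2, one_mul]
          have h4 : y₁ * (e₁ : G) ≠ 1 := fun e => by
            have h5 : y₁ = e₁ := by
              rw [eq_inv_of_mul_eq_one_left e, inv_eq_of_mul_eq_one_right (h.res.grp_sq e₁.2)]
            have h6 : (e₁ : G) ∈ E := e₁.2
            rcases (show (e₁ : G) = 1 ∨ _ from h6) with h7 | h7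
            · exact invol_ne_one hy₁ (h5.trans h7)
            · exact hga.2 (h.res.crit.fix_unique (h5 ▸ h7.1) (hfix₁ _ hga.1) hy₁p)
          exact ⟨e₁, ⟨invol_iff.2 ⟨h3, h4⟩, ht₀x.mul_right (h.commute_grp hx hxp e₁.2),
            fun f hf => (hy₁E f hf).mul_left (h.res.grp_commute e₁.2 hf),
            by rw [mul_smul, h.res.grp_smul e₁.2, hy₁p], h1⟩, h1'⟩
        by_cases ht : t₀ = 1
        · refine ⟨1, fun b hb' => ?_, fun _ => rfl⟩
          rw [show ((1 : E) : G) = 1 from rfl, mul_one]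
          exact hfix₁ b (by rw [ht]; simpa using hb')
        have htx : orderOf ((t₀ : G) * x) = 2 := hgx ▸ invol_conj hx.invol (g : G)
        have htp : ((t₀ : G) * x) • base M = base M := by rw [mul_smul, hxp, h.res.grp_smul t₀.2]
        have htb := h.bad_of_fix_two htx hga.2 htp hga.1
        have hxa' : ((t₀ : G) * ((t₀ : G) * x)) • a = a := by
          rw [← mul_assoc, h.res.grp_sq t₀.2, one_mul, hxa]
        obtain ⟨e, he, -, hQe, -⟩ := h.exists_carrier hS hloc htb htp (by rwa [h.fix_eq htb hx])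
          (NoTrans.translate hx hxp hb t₀.2) hy₁ ((hy₁E _ t₀.2).symm.mul_left ht₀x) hy₁E hy₁p hga.2 hga.1
          hfix₁ t₀.2 (fun e1 => ht (Subtype.ext e1)) hxa' hap
        exact ⟨⟨e, he⟩, fun b hb' => hQe b (by rw [← mul_assoc, h.res.grp_sq t₀.2, one_mul, hb']),
          fun e1 => absurd e1 ht⟩
      obtain ⟨c', hc'⟩ := hCy _ hy''
      suffices heq : ρ g * c * (ρ g)⁻¹ = c' from heq ▸ subset_closure ⟨_, hy'', hc'⟩
      refine mul_inv_eq_iff_eq_mul.2 (inv_mul_eq_one.1 (hC.faith _ fun d => ?_)).symm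
      rw [mul_smul, inv_smul_eq_iff]
      by_cases hd : d = 1
      · rw [hd, smul_one, smul_one]
      rw [mul_smul, mul_smul]
      have hQ : Q w d (c • d) := hc.2 d hd
      have hgd : ∀ f : E, (((ρ g • f : E) : G)) = (g : G) * f * (g : G)⁻¹ := fun f => rfl
      have hQ1 : Q y₁ (ρ g • d * t₀) (ρ g • (c • d)) := fun b hb' => by
        have h1 : ((d : G) * x) • ((g : G)⁻¹ • b) = (g : G)⁻¹ • b := by
          rw [eq_inv_smul_iff, smul_smul, smul_smul]
          convert hb' using 2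
          rw [Subgroup.coe_mul, hgd, mul_assoc ((g : G) * d * (g : G)⁻¹), ← hgx]
          group
        have h2 := hQ _ h1
        rw [eq_inv_smul_iff, smul_smul, smul_smul] at h2
        rw [hgd]
        convert h2 using 2
        simp only [y₁]
        group
      have key : c' • t₀ = e₁ := by
        by_cases ht : t₀ = 1
        · rw [ht, smul_one, hQ₁ ht]
        obtain ⟨e, -, -, hu⟩ := hcar _ hy'' t₀ ht
        refine (hu _ (hc'.2 t₀ ht)).trans (hu _ fun b hb' => ?_).symm
        rw [mul_assoc, h.res.grp_sq e₁.2, mul_one]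
        exact hfix₁ b hb'
      by_cases hd' : ρ g • d * t₀ = 1
      · have h2 : ρ g • (c • d) = e₁ := by
          have h1 : ∀ b : G ⧸ M, x • b = b → (y₁ * ((ρ g • (c • d) : E) : G)) • b = b := fun b hb' =>
            hQ1 b (by rw [hd']; simpa using hb')
          have h3 := hy''.2.2.2.2 a hxa
          have h4 := h1 a hxa
          rw [mul_smul] at h3 h4
          refine (inv_mul_eq_one.1 (Subtype.ext (h.eq_one_of_grp_fix
            (SetLike.coe_mem ((e₁ : E)⁻¹ * ρ g • (c • d))) hap ?_))).symm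
          rw [Subgroup.coe_mul, Subgroup.coe_inv, mul_smul, inv_smul_eq_iff]
          exact smul_left_cancel y₁ (h4.trans h3.symm)
        have h5 : ρ g • d = t₀ := (eq_inv_of_mul_eq_one_left hd').trans
          (inv_eq_of_mul_eq_one_right (hC.sq t₀))
        rw [h2, h5, key]
      · obtain ⟨e, -, -, hu⟩ := hcar _ hy'' _ hd'
        have h1 := hu _ (hc'.2 _ hd')
        have h2 := hu (e₁ * ρ g • (c • d)) fun b hb' => by
          rw [Subgroup.coe_mul, ← mul_assoc, mul_assoc y₁, h.res.grp_sq e₁.2, mul_one]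
          exact hQ1 b hb'
        rw [← h2, smul_mul', key, hC.mul_comm' e₁, mul_left_inj] at h1
        exact h1.symm
  -- the contradiction
  have hy' : W y := hW y hy hxy hyp hya
  obtain ⟨c, hc⟩ := hCy y hy'
  have hc1 : c = 1 := mem_bot.1 (hΓbot ▸ subset_closure ⟨y, hy', hc⟩)
  have hw : orderOf (y * x) = 2 := by
    refine invol_iff.2 ⟨?_, fun e1 => hne ?_⟩
    · rw [hxy.mul_mul_mul_comm, invol_mul_self hy, hxx, one_mul]
    · rw [eq_inv_of_mul_eq_one_left e1, invol_inv hx.invol]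
  have hwW := hW (y * x) hw (hxy.mul_right (Commute.refl x)) (by rw [mul_smul, hxp, hyp])
    (by rw [mul_smul, hxa, hya])
  have h1 := hc.2 d₀ hd₀1
  rw [hc1, one_smul] at h1
  obtain ⟨h2, h3⟩ := hτa d₀ d₀.2
  have h4 := h1 _ h2
  have h5 : ∀ b : G ⧸ M, ((d₀ : G) * x) • b = b → (y * x) • b = (y * (d₀ : G)) • b := fun b hb' => by
    rw [mul_smul] at hb'
    rw [mul_smul, mul_smul]
    congr 1
    calc x • b = ((d₀ : G) * d₀) • x • b := by rw [h.res.grp_sq d₀.2, one_smul]
      _ = _ := by rw [mul_smul, hb']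
  have h6 := h.fix_of_le hx (h.bad_of_fix_two hw hap (by rw [mul_smul, hxp, hyp]) (by rw [mul_smul, hxa, hya]))
    hwW.2.2.2.2 ((h5 _ h2).trans h4)
  rw [mul_smul, h6] at h2
  exact h3 (h.eq_of_grp_fix d₀.2 (fun e1 => hd₀1 (Subtype.ext e1)) h2)

end EqRes

end CfsgLib.SECrit.Eq
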