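import Cfsg.Agent.Lib.Invol.SECriterion.EqType.Big.Sylo
import Cfsg.Agent.Lib.Invol.SECriterion.EqType.Big.Torus
import Cfsg.Agent.Lib.Invol.SECriterion.EqType.Pencil.Main

/-!
# The strong embedding criterion, equal type with many fixed points: translations all moving the members

If no translation of `x` centralizes the members, the stabilizer of the coset of `x` acts on them as on a
pencil of `q` points.  So the dimension is odd, the two-elements centralizing `x` centralize the members,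
and a commutative normalized subgroup of the torus is trivial.
-/

set_option autoImplicit false
set_option linter.style.haveILetI false

namespace CfsgLib.SECrit.Eq

open CfsgLib.Invol Small Subgroup

universe u

variable {G : Type u} [Group G] [Finite G] {M : Subgroup G} {z : G}

/-- No two-element centralizing the members moves `x` inside its coset. -/
def NoTrans (h : EqRes M z) (x : G) : Prop :=
  ∀ n : G, n • base M = base M → (∃ k : ℕ, n ^ 2 ^ k = 1) → (∀ e ∈ h.res.grp (base M), Commute n e) →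
    n * x * n⁻¹ * x ∈ h.res.grp (base M) → Commute n x

namespace EqRes

variable (h : EqRes M z)
include h

/-- Then no element at all does. -/
theorem commute_of_noTrans {x : G} (hx : Bad z x) (hxp : x • base M = base M) (hb : NoTrans h x) {n : G}
    (hnp : n • base M = base M) (hnE : ∀ e ∈ h.res.grp (base M), Commute n e)
    (hnx : n * x * n⁻¹ * x ∈ h.res.grp (base M)) : Commute n x := by
  set d := n * x * n⁻¹ * x with hd
  have hxx := invol_mul_self hx.invol
  have e1 : n * x * n⁻¹ = d * x := by rw [hd, mul_assoc _ x x, hxx, mul_one]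
  have h2 : Commute (n * n) x := by
    refine mul_inv_eq_iff_eq_mul.1 ?_
    calc n * n * x * (n * n)⁻¹ = n * (n * x * n⁻¹) * n⁻¹ := by group
      _ = n * d * (n⁻¹ * n) * x * n⁻¹ := by rw [e1]; group
      _ = n * d * n⁻¹ * (n * x * n⁻¹) := by group
      _ = x := by rw [(hnE d hnx).eq, mul_inv_cancel_right, e1, ← mul_assoc, h.res.grp_sq hnx, one_mul]
  obtain ⟨i, μ, ⟨w, rfl⟩, hord⟩ := Nat.exists_eq_two_pow_mul_odd (orderOf_pos n).ne'
  have hH : n ^ (2 * w + 1) ∈ h.cosetStab hx hxp :=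
    pow_mem (show n ∈ h.cosetStab hx hxp from ⟨hnp, hnx⟩) _
  have h1 := hb (n ^ (2 * w + 1)) hH.1
    ⟨i, by rw [← pow_mul, mul_comm, ← hord, pow_orderOf_eq_one]⟩ (fun e he => (hnE e he).pow_left _) hH.2
  have h3 := (h2.pow_left w).inv_left.mul_left h1
  rwa [show ((n * n) ^ w)⁻¹ * n ^ (2 * w + 1) = n by
    rw [← pow_two, ← pow_mul, inv_mul_eq_iff_eq_mul, pow_succ]] at h3

variable (hS : Setup M z) (hloc : ∀ x : G, IsBad M x → Local M z x) {x : G} (hx : Bad z x)
  (hxp : x • base M = base M) (hb : NoTrans h x)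
include hS hloc hx hxp hb

/-- **The pencil.** -/
theorem exists_pencil : ∃ (C : Subgroup h.conjE.range) (β : ℕ),
    Pencil.Singer h.conjE.range (h.res.grp (base M)) C ∧ C ≤ h.centImage x ∧
    (∀ c ∈ C, ∃ m : M, (m : G) ∈ locGroup z x ∧ h.conjE.rangeRestrict m = c) ∧
    Odd β ∧ 3 ≤ β ∧ deg M z + 1 = 2 ^ β ∧
    (∀ (g : G) (k : ℕ), g ^ 2 ^ k = 1 → g • base M = base M → Commute g x →
      ∀ e ∈ h.res.grp (base M), Commute g e) ∧
    (∀ Γ : Subgroup h.conjE.range, Γ ≤ C → (∀ g : M, (g : G) * x * (g : G)⁻¹ * x ∈ h.res.grp (base M) →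
      ∀ γ ∈ Γ, h.conjE.rangeRestrict g * γ * (h.conjE.rangeRestrict g)⁻¹ ∈ Γ) → Γ = ⊥) := by
  classical
  haveI : Fact (Nat.Prime 2) := ⟨Nat.prime_two⟩
  obtain ⟨C, hC, hCcyc, hCle, hCn, hCloc⟩ := h.exists_torus_group_loc hS hloc hx hxp
  obtain ⟨β, hβ2, hβ⟩ := h.exists_deg_pow
  set E := h.res.grp (base M) with hE
  set ρ := h.conjE.rangeRestrict with hρ
  set Λ := h.centImage x with hΛ
  have hxx := invol_mul_self hx.invol
  set H := h.cosetStab hx hxp with hH
  have hEc : Nat.card E = 2 ^ β := (h.res.card_grp _).trans hβ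
  set L := (H.subgroupOf M).map ρ with hL
  have hΛL : Λ ≤ L := by
    intro l hl
    obtain ⟨m, hm, rfl⟩ := h.mem_centImage.1 hl
    refine ⟨m, mem_subgroupOf.2 ⟨smul_base_iff.2 m.2, ?_⟩, rfl⟩
    rw [hm.eq, mul_inv_cancel_right, hxx]
    exact one_mem _
  set Λ' := Λ.subgroupOf L with hΛ'
  set C' := C.subgroupOf L with hC'
  let x₀ : L ⧸ Λ' := QuotientGroup.mk 1
  have hx₀ : ∀ g : L, g • x₀ = QuotientGroup.mk g := fun g => by
    show QuotientGroup.mk (g * 1) = _
    rw [mul_one]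
  have hfix₀ : ∀ g : L, g • x₀ = x₀ ↔ (g : h.conjE.range) ∈ Λ := fun g => by
    rw [hx₀, QuotientGroup.eq, mul_one, inv_mem_iff, mem_subgroupOf]
  -- the class of an element of the coset stabilizer
  let cl : H.subgroupOf M → L ⧸ Λ' := fun g => QuotientGroup.mk ⟨ρ g, g, g.2, rfl⟩
  have hcl : ∀ g k : H.subgroupOf M, cl g = cl k ↔ (g : G) * x * (g : G)⁻¹ = (k : G) * x * (k : G)⁻¹ := by
    intro g k
    have hgk : ∀ y : G, Commute ((g : G)⁻¹ * (k : G)) y ↔
        (g : G)⁻¹ * ((k : G) * y * (k : G)⁻¹) * g = y := fun y => by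
      show (g : G)⁻¹ * (k : G) * y = y * ((g : G)⁻¹ * (k : G)) ↔ _
      rw [← mul_inv_eq_iff_eq_mul]
      simp [mul_assoc]
    show QuotientGroup.mk _ = QuotientGroup.mk _ ↔ _
    rw [QuotientGroup.eq, mem_subgroupOf]
    constructor
    · intro hh
      obtain ⟨m, hmx, hm⟩ := h.mem_centImage.1 (show ρ ((g : M)⁻¹ * (k : M)) ∈ Λ by rw [map_mul, map_inv]; exact hh)
      set n : M := m⁻¹ * ((g : M)⁻¹ * (k : M)) with hn
      have hnE := (h.conjE_eq_one_iff (m := n)).1 (congrArg Subtype.val (show ρ n = 1 by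
        rw [hn, map_mul, map_inv, hm, inv_mul_cancel]))
      have hnH : (n : G) ∈ H := mul_mem (inv_mem ⟨smul_base_iff.2 m.2, by
        rw [hmx.eq, mul_inv_cancel_right, hxx]; exact one_mem _⟩)
        (mul_mem (inv_mem (mem_subgroupOf.1 g.2)) (mem_subgroupOf.1 k.2))
      have h1 := h.commute_of_noTrans hx hxp hb hnH.1 hnE hnH.2
      have h2 : Commute ((g : G)⁻¹ * (k : G)) x := by
        have := hmx.mul_left h1
        rwa [show (m : G) * (n : G) = (g : G)⁻¹ * (k : G) by rw [hn]; simp] at this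
      have h3 := (hgk x).1 h2
      calc (g : G) * x * (g : G)⁻¹ = (g : G) * ((g : G)⁻¹ * ((k : G) * x * (k : G)⁻¹) * g) * (g : G)⁻¹ := by rw [h3]
        _ = _ := by group
    · intro hh
      refine h.mem_centImage.2 ⟨(g : M)⁻¹ * (k : M), (hgk x).2 (by rw [← hh]; group), ?_⟩
      rw [map_mul, map_inv]
      rfl
  -- translations
  have htr : ∀ e : E, ∃ g : H.subgroupOf M, (g : G) * x * (g : G)⁻¹ = e * x := fun e => by
    obtain ⟨k, hk, hkx⟩ := hS.exists_translate hloc (h.isBad hx) hxp (by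
      rw [show Nat.card (CAt z ({x} : Set G) (base M)) = deg M z from h.full x _ hx hxp]
      exact h.two_le) (show (e : G) ∈ lineGrp z x (base M) by rw [h.lineGrp_eq hx hxp]; exact e.2)
    refine ⟨⟨⟨k, smul_base_iff.1 hk⟩, mem_subgroupOf.2 ⟨hk, ?_⟩⟩, hkx⟩
    rw [hkx, mul_assoc, hxx, mul_one]
    exact e.2
  choose τ hτ using htr
  let f : E → L ⧸ Λ' := fun e => cl (τ e)
  have hsurj : Function.Surjective f := by
    intro q
    obtain ⟨⟨l, g, hg, rfl⟩, rfl⟩ := QuotientGroup.mk_surjective q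
    refine ⟨⟨(g : G) * x * (g : G)⁻¹ * x, (mem_subgroupOf.1 hg).2⟩, (hcl _ ⟨g, hg⟩).2 ?_⟩
    rw [hτ]
    show (g : G) * x * (g : G)⁻¹ * x * x = _
    rw [mul_assoc _ x x, hxx, mul_one]
  have hinj : Function.Injective f := fun e e' hee => by
    have h1 := (hcl _ _).1 hee
    rw [hτ, hτ] at h1
    exact Subtype.ext (mul_right_cancel h1)
  have hf1 : f 1 = x₀ := by
    refine ((hcl (τ 1) 1).2 ?_).trans (congrArg QuotientGroup.mk (Subtype.ext (map_one ρ)))
    rw [hτ]; simp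
  have hequi : ∀ c : L, (c : h.conjE.range) ∈ C → ∀ e : E, f ((c : h.conjE.range) • e) = c • f e := by
    intro c hc e
    obtain ⟨m, hmx, hmc⟩ := h.mem_centImage.1 (hCle hc)
    have hmH : m ∈ H.subgroupOf M := mem_subgroupOf.2 ⟨smul_base_iff.2 m.2, by
      rw [hmx.eq, mul_inv_cancel_right, hxx]; exact one_mem _⟩
    refine ((hcl _ (⟨m, hmH⟩ * τ e)).2 ?_).trans ?_
    · rw [hτ, ← hmc]
      show (m : G) * e * (m : G)⁻¹ * x = (m : G) * (τ e : G) * x * ((m : G) * (τ e : G))⁻¹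
      calc (m : G) * e * (m : G)⁻¹ * x = (m : G) * e * (m : G)⁻¹ * ((m : G) * x * (m : G)⁻¹) := by
            rw [hmx.eq, mul_inv_cancel_right]
        _ = (m : G) * ((e : G) * x) * (m : G)⁻¹ := by group
        _ = _ := by rw [← hτ]; group
    · show QuotientGroup.mk _ = c • QuotientGroup.mk _
      rw [MulAction.Quotient.smul_mk, smul_eq_mul]
      refine congrArg QuotientGroup.mk (Subtype.ext ?_)
      show ρ (m * (τ e : M)) = (c : h.conjE.range) * ρ (τ e : M)
      rw [map_mul, hmc]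
  have hcard : Nat.card (L ⧸ Λ') = 2 ^ β := by
    rw [← hEc]
    exact (Nat.card_eq_of_bijective f ⟨hinj, hsurj⟩).symm
  have hsing : Pencil.Singer L E C' :=
    { sq := hC.sq
      comm := fun a ha b hb' => Subtype.ext (hC.comm _ (mem_subgroupOf.1 ha) _ (mem_subgroupOf.1 hb'))
      trans := fun e e' he he' => by
        obtain ⟨c, hc, hce⟩ := hC.trans e e' he he'
        exact ⟨⟨c, hΛL (hCle hc)⟩, mem_subgroupOf.2 hc, hce⟩
      faith := fun g hg => Subtype.ext (hC.faith _ hg) }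
  haveI : IsCyclic C := hCcyc
  have hset : Pencil.Setting L E (L ⧸ Λ') C' x₀ β :=
    { singer := hsing
      cyclic := isCyclic_of_surjective (subgroupOfEquivOfLe (hCle.trans hΛL)).symm.toMonoidHom
        (subgroupOfEquivOfLe (hCle.trans hΛL)).symm.surjective
      card_E := hEc
      card_X := hcard
      two_le := hβ2
      trans_X := fun a => by
        obtain ⟨g, rfl⟩ := QuotientGroup.mk_surjective a
        exact ⟨g, hx₀ g⟩
      fix := fun c hc => (hfix₀ c).2 (hCle (mem_subgroupOf.1 hc))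
      norm := fun g hg c hc => mem_subgroupOf.2 (hCn _ ((hfix₀ g).1 hg) _ (mem_subgroupOf.1 hc))
      trans_off := fun a b ha hb' => by
        obtain ⟨e, rfl⟩ := hsurj a
        obtain ⟨e', rfl⟩ := hsurj b
        obtain ⟨c, hc, rfl⟩ := hC.trans e e' (fun e1 => ha (e1 ▸ hf1)) (fun e1 => hb' (e1 ▸ hf1))
        exact ⟨⟨c, hΛL (hCle hc)⟩, mem_subgroupOf.2 hc, (hequi ⟨c, hΛL (hCle hc)⟩ hc e).symm⟩ }
  have hodd := hset.odd_dim
  have h3 : 3 ≤ β := by
    rcases hodd with ⟨w, rfl⟩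
    omega
  -- the centralizer of `x` has odd image
  have hΛodd : Odd (Nat.card Λ) := by
    obtain ⟨e₀, he₀⟩ := hset.exists_ne
    obtain ⟨d, hdβ, -, hst, -⟩ := hset.exists_order he₀
    have hst0 : MulAction.stabilizer L x₀ = Λ' := Subgroup.ext fun g => by
      rw [MulAction.mem_stabilizer_iff, hfix₀, mem_subgroupOf]
    rw [hst0, hset.card_C, Nat.card_congr (subgroupOfEquivOfLe hΛL).toEquiv] at hst
    rw [hst]
    refine Nat.odd_mul.2 ⟨⟨2 ^ (β - 1) - 1, ?_⟩, hodd.of_dvd_nat hdβ⟩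
    obtain ⟨w, rfl⟩ : ∃ w, β = w + 1 := ⟨β - 1, by omega⟩
    have := Nat.one_le_two_pow (n := w)
    rw [Nat.add_sub_cancel, pow_succ]
    omega
  refine ⟨C, β, hC, hCle, hCloc, hodd, h3, hβ, fun g k hgk hgp hgx e he => ?_, fun Γ hΓ hnorm => ?_⟩
  · set m : M := ⟨g, smul_base_iff.1 hgp⟩
    have hm : ρ m ∈ Λ := h.mem_centImage.2 ⟨m, hgx, rfl⟩
    have h1 : orderOf (ρ m) ∣ 2 ^ k := orderOf_dvd_of_pow_eq_one (by
      rw [← map_pow, show m ^ 2 ^ k = 1 from Subtype.ext hgk, map_one])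
    have h2 : orderOf (ρ m) ∣ Nat.card Λ := orderOf_mk (ρ m) hm ▸ orderOf_dvd_natCard _
    have h4 : ρ m = 1 := orderOf_eq_one_iff.1
      (Nat.eq_one_of_dvd_coprimes ((Nat.coprime_two_right.2 hΛodd).symm.pow_left k) h1 h2)
    exact h.conjE_eq_one_iff.1 (congrArg Subtype.val h4) e he
  · haveI : (Γ.subgroupOf L).Normal := ⟨fun γ hγ l => by
      obtain ⟨l, g, hg, rfl⟩ := l
      exact mem_subgroupOf.2 (hnorm g (mem_subgroupOf.1 hg).2 _ (mem_subgroupOf.1 hγ))⟩
    have h1 := hset.eq_bot_of_comm (Γ.subgroupOf L) fun a ha b hb' =>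
      Subtype.ext (hC.comm _ (hΓ (mem_subgroupOf.1 ha)) _ (hΓ (mem_subgroupOf.1 hb')))
    rw [subgroupOf_eq_bot] at h1
    exact disjoint_self.1 (h1.mono_right (hΓ.trans (hCle.trans hΛL)))

end EqRes

end CfsgLib.SECrit.Eq
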