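import Cfsg.Agent.Lib.Invol.SECriterion.EqType.Big.CentForm
import Cfsg.Agent.Lib.Invol.SECriterion.Shape.KernelPart
import Cfsg.Agent.Lib.Invol.SECriterion.Cube.Coset
import Cfsg.Agent.Lib.Invol.SECriterion.Cube.NotMem

/-!
# The strong embedding criterion, equal type with many fixed points: only `x` fixes two points

Translations all move the members.  The two-elements centralizing `x` and fixing two of its fixed points
are `1` and `x`; with `q ^ 3 + 1` fixed points this contradicts the regular group, and with `q ^ 2 + 1`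
the squares of the regular group lie in the members.
-/

set_option autoImplicit false
set_option linter.style.haveILetI false
set_option linter.unusedSectionVars false

namespace CfsgLib.SECrit.Eq

open CfsgLib.Invol Small Subgroup

universe u

variable {G : Type u} [Group G] [Finite G] {M : Subgroup G} {z : G}

namespace EqRes

variable (h : EqRes M z) (hS : Setup M z) (hgen : normalClosure ({z} : Set G) = ⊤)
  (hloc : ∀ x : G, IsBad M x → Local M z x) {x : G} {a : G ⧸ M} {T : Subgroup G} (hF : Frame M z x a T)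
  (hm : fix M x = (deg M z + 1) ^ 2 + 1 ∨ fix M x = (deg M z + 1) ^ 3 + 1) (hb : NoTrans h x)
include h hS hgen hloc hF hm hb

/-- A two-element moving the members, with square centralizing `x` and them. -/
theorem exists_line_mover : ∃ P S : Subgroup G, RegTwo M z x (base M) P ∧
    (∀ g ∈ S, Commute x g → ∃ v ∈ P, ∃ t ∈ T, g = v * t) ∧ P ≤ S ∧ T ≤ S ∧
    (∀ g ∈ S, g • base M = base M) ∧ (∀ g ∈ S, g * x * g⁻¹ * x ∈ h.res.grp (base M)) ∧
    ∃ g ∈ S, (∃ k : ℕ, g ^ 2 ^ k = 1) ∧ (∃ e ∈ h.res.grp (base M), ¬ Commute g e) ∧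
      (∀ e ∈ h.res.grp (base M), Commute (g * g) e) ∧ Commute (g * g) x := by
  classical
  obtain ⟨P, S, hP, hS2, hPS, hTS, -, hSp, hco, hsu, hdec, -, -⟩ := h.exists_block hS hloc hF hm
  refine ⟨P, S, hP, hdec, hPS, hTS, hSp, hco, ?_⟩
  obtain ⟨d, -, hd, -, hdp, -, -⟩ := h.exists_two
  have hd1 : d ≠ 1 := invol_ne_one (h.res.crit.orderOf_conj hd)
  obtain ⟨g₀, hg₀, hg₀x⟩ := hsu d (Or.inr ⟨hd, hdp⟩)
  have hxx := invol_mul_self hF.bad.invol
  have htwo : ∀ g ∈ S, ∃ k : ℕ, g ^ 2 ^ k = 1 := fun g hg => by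
    obtain ⟨k, hk⟩ := hS2 ⟨g, hg⟩
    exact ⟨k, congrArg Subtype.val hk⟩
  have hmove : ¬ ∀ e ∈ h.res.grp (base M), Commute g₀ e := fun hE => by
    have h1 := hb g₀ (hSp g₀ hg₀) (htwo g₀ hg₀) hE (hco g₀ hg₀)
    rw [h1.eq, mul_inv_cancel_right, right_eq_mul] at hg₀x
    exact hd1 hg₀x
  obtain ⟨k, hk⟩ := htwo g₀ hg₀
  obtain ⟨j, hj, hj1⟩ : ∃ j, (¬ ∀ e ∈ h.res.grp (base M), Commute (g₀ ^ 2 ^ j) e) ∧
      ∀ e ∈ h.res.grp (base M), Commute (g₀ ^ 2 ^ (j + 1)) e := by
    by_contra hh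
    push Not at hh
    have : ∀ j, ∃ e ∈ h.res.grp (base M), ¬ Commute (g₀ ^ 2 ^ j) e := fun j => by
      induction j with
      | zero => push Not at hmove; simpa using hmove
      | succ j ih => exact hh j ih
    obtain ⟨e, -, hne⟩ := this k
    exact hne (hk ▸ Commute.one_left e)
  rw [pow_succ, pow_mul, pow_two] at hj1
  push Not at hj
  have hg : g₀ ^ 2 ^ j ∈ S := pow_mem hg₀ _
  exact ⟨_, hg, htwo _ hg, hj, hj1, h.commute_of_noTrans hF.bad hF.fix_base hb
    (by rw [mul_smul, hSp _ hg, hSp _ hg]) hj1 (hco _ (mul_mem hg hg))⟩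

/-- The involutions centralizing `x` and fixing two of its fixed points. -/
theorem klein_two {c : G ⧸ M} (hc : c ≠ base M) (hxc : x • c = c) {y : G} (hyy : y * y = 1)
    (hy : y ∈ twoPt x (base M) c) : y = 1 ∨ y = x := by
  by_cases h1 : y = 1
  · exact Or.inl h1
  exact Or.inr (h.eq_of_invol hS hloc hF.bad hF.fix_base hm hb (invol_iff.2 ⟨hyy, h1⟩)
    (Commute.symm (mem_centralizer_singleton_iff.1 hy.1.1 : Commute y x)) hc hxc
    (MulAction.mem_stabilizer_iff.1 hy.1.2) (MulAction.mem_stabilizer_iff.1 hy.2))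

/-- **No cube.** -/
theorem fix_sq : fix M x = (deg M z + 1) ^ 2 + 1 := by
  classical
  refine hm.resolve_right fun hfix => ?_
  have hx := hF.bad
  have hxp := hF.fix_base
  have hb' := h.isBad hx
  obtain ⟨β, hβ2, hβ⟩ := h.exists_deg_pow
  have hca : Nat.card (CAt z ({x} : Set G) (base M)) = deg M z := h.full x _ hx hxp
  have hk : Nat.card {c : G ⧸ M // x • c = c} = 2 ^ (β * 3) + 1 := by
    show fix M x = _
    rw [hfix, hβ, ← pow_mul]
  have ha : 2 ≤ Nat.card (CAt z ({x} : Set G) (base M)) := by rw [hca]; exact h.two_le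
  have hβ' : Nat.card (CAt z ({x} : Set G) (base M)) + 1 = 2 ^ β := by rw [hca, hβ]
  obtain ⟨P, hd⟩ := hS.exists_regData (hloc x hb') hb' hxp hβ' hβ2 hk
  have htwo : ∀ (g : G) (k : ℕ), g ^ 2 ^ k = 1 → g ∈ twoPt x (base M) a → g = 1 ∨ g = x :=
    hS.two_elem_le_of_klein hgen hloc hb' hxp ha hβ' hβ2 hk hF.ne hF.fix_pt
      (fun c hc hxc y hyy hy => h.klein_two hS hgen hloc hF hm hb hc hxc hyy hy) hF.ne hF.fix_pt
  have hxP := hS.cube_notMem hloc hb' hxp hF.ne hF.fix_pt ha hβ2 hk hd htwo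
  obtain ⟨-, S, -, -, -, -, hSp, hco, g, hg, ⟨k, hgk⟩, ⟨e, he, hge⟩, -, hg2⟩ :=
    h.exists_line_mover hS hgen hloc hF hm hb
  have hline := h.lineGrp_eq hx hxp
  refine hS.false_of_move_line hloc hb' hxp hF.ne hF.fix_pt hβ' hβ2 hd htwo hxP (g := g) ?_ hgk
    ⟨e, by rwa [hline], hge⟩ hg2.symm
  refine ⟨hSp g hg, fun d => ?_, ?_⟩
  · rw [hline]
    refine ⟨fun hd => h.res.grp_conj (hSp g hg) hd, fun hd => ?_⟩
    have h1 := h.res.grp_conj (inv_smul_eq_iff.2 (hSp g hg).symm) hd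
    rwa [show g⁻¹ * (g * d * g⁻¹) * g⁻¹⁻¹ = d by group] at h1
  · rw [hline, invol_inv hx.invol]; exact hco g hg

/-- The elements of `T` fix every fixed point of `x`. -/
theorem fix_all_T {t : G} (ht : t ∈ T) {b : G ⧸ M} (hb' : x • b = b) : t • b = b := by
  obtain ⟨C, β, -, -, -, -, -, -, hcent, -⟩ := h.exists_pencil hS hloc hF.bad hF.fix_base hb
  have hTE : ∀ t ∈ T, ∀ e ∈ h.res.grp (base M), Commute t e := fun t ht => by
    obtain ⟨k, hk⟩ := hF.two ⟨t, ht⟩
    exact hcent t k (congrArg Subtype.val hk) (hF.fix_T t ht).1 (hF.cent t ht).symm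
  obtain ⟨P, hP⟩ := h.exists_reg hS hloc hF.bad hF.fix_base hm
  obtain ⟨k, hk⟩ := hF.two ⟨t, ht⟩
  suffices hall : ∀ k, ∀ t ∈ T, t ^ 2 ^ k = 1 → t ∈ ptwise M z x from
    ptwise_fix (hall k t ht (congrArg Subtype.val hk)) hb'
  intro k
  induction k with
  | zero =>
    intro t _ h1
    rw [pow_zero, pow_one] at h1
    rw [h1]; exact one_mem _
  | succ k ih =>
    intro t ht h1
    by_contra htW
    have h2 := (h.fix_count hS hloc hF hP hTE ht (ih _ (mul_mem ht ht)
      (by rwa [← pow_two, ← pow_mul, ← pow_succ'])) htW).1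
    have h3 := h.fix_sq hS hgen hloc hF hm hb
    obtain ⟨β, hβ2, hβ⟩ := h.exists_deg_pow
    rw [h3, hβ, ← pow_mul, ← pow_mul, Nat.add_right_cancel_iff] at h2
    have := Nat.pow_right_injective le_rfl h2
    omega

/-- **Only `x` centralizes `x` and fixes two points.** -/
theorem T_trivial : ∀ t ∈ T, t = 1 ∨ t = x := by
  classical
  have hx := hF.bad
  have hxp := hF.fix_base
  have hxx := invol_mul_self hx.invol
  have hfix := h.fix_sq hS hgen hloc hF hm hb
  obtain ⟨P, S, hP, hdec, hPS, hTS, hSp, hco, g, hg, -, ⟨eg, heg, hne⟩, -, -⟩ :=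
    h.exists_line_mover hS hgen hloc hF hm hb
  obtain ⟨C, β, -, -, -, -, -, -, hcent, -⟩ := h.exists_pencil hS hloc hx hxp hb
  set E := h.res.grp (base M) with hE
  set d := g * x * g⁻¹ * x with hd
  have hdE : d ∈ E := hco g hg
  have hgx : g * x * g⁻¹ = d * x := by rw [hd, mul_assoc _ x x, hxx, mul_one]
  have hd1 : d ≠ 1 := fun e1 => by
    rw [e1, one_mul, mul_inv_eq_iff_eq_mul] at hgx
    obtain ⟨k, hk⟩ : ∃ k : ℕ, g ^ 2 ^ k = 1 := by
      obtain ⟨P', S', -, hS2, -⟩ := h.exists_block hS hloc hF hm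
      obtain ⟨k, hk⟩ : ∃ k : ℕ, g ^ 2 ^ k = 1 := by
        obtain ⟨v, hv, t, ht, rfl⟩ := hdec g hg (show Commute x g from hgx.symm)
        have hU := (h.sup_props hS hloc hF hP).1 ⟨v * t, mul_mem_sup hv ht⟩
        exact hU.imp fun k hk => congrArg Subtype.val hk
      exact ⟨k, hk⟩
    exact hne (hcent g k hk (hSp g hg) hgx eg heg)
  have hfixT := fun t (ht : t ∈ T) (b : G ⧸ M) (hb' : x • b = b) =>
    h.fix_all_T hS hgen hloc hF hm hb ht hb'
  have hTP : ∀ t ∈ T, ∀ v ∈ P, Commute t v := fun t ht v hv =>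
    h.commute_loc_of_fix hloc hx (hF.cent t ht) (hfixT t ht) ((hP.mem v).1 hv).1
  have hTinv : ∀ t ∈ T, t * t = 1 → t = 1 ∨ t = x := fun t ht htt =>
    h.klein_two hS hgen hloc hF hm hb hF.ne hF.fix_pt htt
      ⟨⟨mem_centralizer_singleton_iff.2 (hF.cent t ht).symm.eq, MulAction.mem_stabilizer_iff.2 (hF.fix_T t ht).1⟩,
        MulAction.mem_stabilizer_iff.2 (hF.fix_T t ht).2⟩
  have hEcent : ∀ t ∈ T, ∀ e ∈ E, Commute t e := fun t ht => by
    obtain ⟨k, hk⟩ := hF.two ⟨t, ht⟩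
    exact hcent t k (congrArg Subtype.val hk) (hF.fix_T t ht).1 (hF.cent t ht).symm
  -- the translate of an element of `T`
  have htrans : ∀ t ∈ T, ∃ u ∈ P, ∃ w ∈ T, g * t * g⁻¹ = u * w := fun t ht => by
    refine hdec _ (mul_mem (mul_mem hg (hTS ht)) (inv_mem hg)) ?_
    have h1 : Commute (d * x) (g * t * g⁻¹) := hgx ▸ (hF.cent t ht).conj g
    have hgi : g⁻¹ • base M = base M := inv_smul_eq_iff.2 (hSp g hg).symm
    have h2 : Commute d (g * t * g⁻¹) := by
      have h3 := (hEcent t ht _ (h.res.grp_conj hgi hdE)).symm.conj g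
      rwa [show g * (g⁻¹ * d * g⁻¹⁻¹) * g⁻¹ = d by group] at h3
    have h4 := h2.inv_left.mul_left h1
    rwa [inv_mul_cancel_left] at h4
  have hsq : ∀ u ∈ P, ∃ e ∈ E, e * (u * u) ∈ locKer M z x := fun u hu => by
    obtain ⟨e, he, hek⟩ := hP.sq u hu
    exact ⟨e, by rwa [h.lineGrp_eq hx hxp] at he, hek⟩
  -- the squares are `1` or `x`
  have hT2 : ∀ t ∈ T, t * t = 1 ∨ t * t = x := by
    intro t ht
    by_cases h1 : t * t = 1
    · exact Or.inl h1
    obtain ⟨k, hk⟩ := hF.two ⟨t * t, mul_mem ht ht⟩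
    obtain ⟨i, hile, hi⟩ := (Nat.dvd_prime_pow Nat.prime_two).1
      (orderOf_dvd_of_pow_eq_one (show (t * t) ^ 2 ^ k = 1 from congrArg Subtype.val hk))
    rcases i with - | i
    · exact absurd (orderOf_eq_one_iff.1 (by rw [hi, pow_zero])) h1
    have h2 : (t * t) ^ 2 ^ i = x := by
      refine (hTinv _ (pow_mem (mul_mem ht ht) _) ?_).resolve_left fun e1 => ?_
      · rw [← pow_add, ← two_mul, ← pow_succ', ← hi, pow_orderOf_eq_one]
      · have := Nat.le_of_dvd (Nat.two_pow_pos i) (hi ▸ orderOf_dvd_of_pow_eq_one e1)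
        have := Nat.pow_lt_pow_right (a := 2) (by norm_num) (Nat.lt_succ_self i)
        omega
    rcases Nat.eq_zero_or_pos i with rfl | hi0
    · exact Or.inr (by simpa using h2)
    exfalso
    obtain ⟨u, hu, w, hw, he⟩ := htrans t ht
    obtain ⟨e, he', hek⟩ := hsq u hu
    set w' := e * (u * u) * (w * w) with hw'
    have e1 : g * (t * t) * g⁻¹ = e * w' := by
      rw [hw', show e * (e * (u * u) * (w * w)) = e * e * (u * u) * (w * w) by group, h.res.grp_sq he', one_mul,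
        show g * (t * t) * g⁻¹ = g * t * g⁻¹ * (g * t * g⁻¹) by group, he, (hTP w hw u hu).mul_mul_mul_comm]
    have hw'a : w' • a = a := by
      rw [hw', mul_smul, hfixT _ (mul_mem hw hw) a hF.fix_pt,
        (mem_locKer.1 hek).2 a hF.fix_pt]
    have hew : Commute e w' := (h.reg_comm_grp hS hloc hx hxp hF.ne hF.fix_pt hP he'
      (mul_mem (mul_mem (h.grp_le_reg hS hloc hx hxp hP he') hu) hu |> fun hh => by rwa [mul_assoc] at hh)).mul_right
      ((hEcent w hw e he').symm.mul_right (hEcent w hw e he').symm)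
    have h3 : g * (t * t) ^ 2 ^ i * g⁻¹ = g * x * g⁻¹ := by rw [h2]
    rw [← conj_pow, e1, hew.mul_pow, hgx] at h3
    obtain ⟨i', rfl⟩ : ∃ i', i = i' + 1 := ⟨i - 1, by omega⟩
    rw [pow_succ' 2 i', pow_mul e, pow_two, h.res.grp_sq he', one_pow, one_mul] at h3
    have h4 : (d * x) • a = a := by
      rw [← h3]
      exact MulAction.mem_stabilizer_iff.1 (pow_mem (MulAction.mem_stabilizer_iff.2 hw'a) _)
    rw [mul_smul, hF.fix_pt] at h4
    exact hd1 (h.eq_one_of_grp_fix hdE hF.ne h4)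
  intro r hr
  rcases hT2 r hr with h1 | h1
  · exact hTinv r hr h1
  exfalso
  -- a root
  obtain ⟨u, hu, w, hw, he⟩ := htrans r hr
  obtain ⟨e, he', hek⟩ := hsq u hu
  have hed : e = d := by
    have h2 : u * u * (w * w) = d * x := by
      rw [← (hTP w hw u hu).mul_mul_mul_comm, ← he, ← hgx, ← h1]; group
    have h3 : (e * d) * x = e * (u * u) * (w * w) := by rw [mul_assoc, ← h2, mul_assoc e]
    have h4 : (e * d) • a = a := by
      have h5 : (e * d * x) • a = (e * (u * u) * (w * w)) • a := by rw [h3]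
      rwa [mul_smul (e * d) x, hF.fix_pt, mul_smul (e * (u * u)), hfixT _ (mul_mem hw hw) a hF.fix_pt,
        (mem_locKer.1 hek).2 a hF.fix_pt] at h5
    exact (eq_inv_of_mul_eq_one_left (h.eq_one_of_grp_fix (mul_mem he' hdE) hF.ne h4)).trans
      (inv_eq_of_mul_eq_one_right (h.res.grp_sq hdE))
  rw [hed] at hek
  have hu1 : (u * u) ∉ locKer M z x := fun hh => hd1 (h.eq_one_of_locKer hx hxp hF.ne hF.fix_pt hP hdE (by
    simpa [mul_assoc] using mul_mem hek (inv_mem hh)))
  have hsU := h.sqUnique hS hloc hx hxp hF.ne hF.fix_pt hfix hP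
  have hucomm : ∀ v ∈ P, Commute u v := by
    intro v hv
    have hgi : g⁻¹ • base M = base M := inv_smul_eq_iff.2 (hSp g hg).symm
    have hPE := fun e (he : e ∈ E) => (h.reg_comm_grp hS hloc hx hxp hF.ne hF.fix_pt hP he hv).symm
    -- the translate back of `v`
    obtain ⟨v', hv', t', ht', hvt⟩ := hdec (g⁻¹ * v * g)
      (mul_mem (mul_mem (inv_mem hg) (hPS hv)) hg) (by
        set d' := g⁻¹ * d * g with hd'
        have hd'E : d' ∈ E := by simpa [hd'] using h.res.grp_conj hgi hdE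
        have h2 : g⁻¹ * x * g = d'⁻¹ * x := by
          rw [hd', hd]; group
          simp only [zpow_neg_one, invol_inv hx.invol]
        have h3 : Commute (d'⁻¹ * x) (g⁻¹ * v * g) := by
          rw [← h2]
          simpa using (RegTwo_commute hP hv).conj g⁻¹
        have h4 : Commute d' (g⁻¹ * v * g) := by
          rw [hd']
          simpa using (hPE d hdE).symm.conj g⁻¹
        have h5 := h4.mul_left h3
        rwa [mul_inv_cancel_left] at h5)
    have hc : v' * r * (v'⁻¹ * r⁻¹) = 1 := by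
      rw [← mul_assoc, (hTP r hr v' hv').symm.eq, mul_inv_cancel_right, mul_inv_cancel]
    have hrt : r * t' * r⁻¹ * t'⁻¹ = 1 ∨ r * t' * r⁻¹ * t'⁻¹ = x := by
      have hrt2 := hT2 (r * t') (mul_mem hr ht')
      have ht2 := hT2 t' ht'
      have hri : r⁻¹ = x * r := by
        refine inv_eq_of_mul_eq_one_left ?_
        rw [mul_assoc, h1, hxx]
      have hti : ∀ s : G, (s = 1 ∨ s = x) → s⁻¹ = s := fun s hs => by
        rcases hs with rfl | rfl
        exacts [inv_one, invol_inv hx.invol]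
      have e1 : r * t' * r⁻¹ * t'⁻¹ = x * (r * t' * (r * t')) * (t' * t')⁻¹ := by
        rw [hri, show r * t' * (x * r) = r * (t' * x) * r by group, ← (hF.cent t' ht').eq,
          show r * (x * t') * r = r * x * t' * r by group, ← (hF.cent r hr).eq]
        group
      rw [e1, hti _ ht2]
      rcases hrt2 with e2 | e2 <;> rcases ht2 with e3 | e3 <;> rw [e2, e3] <;> simp [hxx]
    have key : u * v * u⁻¹ * v⁻¹ = 1 ∨ u * v * u⁻¹ * v⁻¹ = d * x := by
      have e1 : u * v * u⁻¹ * v⁻¹ = u * w * v * (u * w)⁻¹ * v⁻¹ := by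
        rw [mul_inv_rev, ← mul_assoc, show u * w * v * w⁻¹ = u * (w * v * w⁻¹) by group,
          (hTP w hw v hv).eq, mul_inv_cancel_right]
      rw [e1, ← he]
      have e2 : v = g * (v' * t') * g⁻¹ := by rw [← hvt]; group
      rw [e2, show g * r * g⁻¹ * (g * (v' * t') * g⁻¹) * (g * r * g⁻¹)⁻¹ * (g * (v' * t') * g⁻¹)⁻¹ =
        g * (r * v' * (t' * r⁻¹ * t'⁻¹) * v'⁻¹) * g⁻¹ by group, (hTP r hr v' hv').eq]
      have e3 : v' * r * (t' * r⁻¹ * t'⁻¹) * v'⁻¹ = r * t' * r⁻¹ * t'⁻¹ := by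
        rw [show v' * r * (t' * r⁻¹ * t'⁻¹) * v'⁻¹ = v' * (r * t' * r⁻¹ * t'⁻¹) * v'⁻¹ by group]
        have hmem : r * t' * r⁻¹ * t'⁻¹ ∈ T :=
          mul_mem (mul_mem (mul_mem hr ht') (inv_mem hr)) (inv_mem ht')
        rw [← (hTP _ hmem v' hv').eq, mul_inv_cancel_right]
      rw [e3]
      rcases hrt with e4 | e4 <;> rw [e4]
      · exact Or.inl (by group)
      · exact Or.inr hgx
    rcases key with h2 | h2
    · exact mul_inv_eq_iff_eq_mul.1 (mul_inv_eq_one.1 h2)
    exfalso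
    -- the square of the product
    obtain ⟨ev, hev, hevk⟩ := hsq v hv
    have hdxu : Commute u (d * x) :=
      ((h.reg_comm_grp hS hloc hx hxp hF.ne hF.fix_pt hP hdE hu).symm.mul_right (RegTwo_commute hP hu).symm)
    have huv2 : ev * (u * v * (u * v)) ∈ locKer M z x := by
      have hvu : v * u = (d * x) * (u * v) := by
        have h3 : u * v = d * x * (v * u) := by rw [← h2]; group
        have h4 : d * x * (d * x) = 1 := by
          rw [(h.commute_grp hx hxp hdE).mul_mul_mul_comm, h.res.grp_sq hdE, hxx, one_mul]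
        rw [h3, ← mul_assoc, h4, one_mul]
      have h5 : u * v * (u * v) = d * (u * u) * (x * (v * v)) := by
        rw [show u * v * (u * v) = u * (v * u) * v by group, hvu,
          show u * (d * x * (u * v)) * v = u * (d * x) * (u * (v * v)) by group, hdxu.eq,
          show d * x * u * (u * (v * v)) = d * (x * (u * u)) * (v * v) by group,
          ((RegTwo_commute hP hu).mul_right (RegTwo_commute hP hu)).eq]
        group
      rw [h5]
      have hxK : x ∈ locKer M z x := by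
        have hdxP : d * x ∈ P := by
          rw [← h2]; exact mul_mem (mul_mem (mul_mem hu hv) (inv_mem hu)) (inv_mem hv)
        have h6 := mul_mem (h.grp_le_reg hS hloc hx hxp hP hdE) hdxP
        rw [← mul_assoc, h.res.grp_sq hdE, one_mul] at h6
        exact mem_locKer.2 ⟨((hP.mem x).1 h6).1, fun b hb' => hb'⟩
      rw [← mul_assoc, (h.reg_comm_grp hS hloc hx hxp hF.ne hF.fix_pt hP hev
        (mul_mem (mul_mem (h.grp_le_reg hS hloc hx hxp hP hdE) hu) hu |> fun hh => by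
          rwa [mul_assoc] at hh)).eq, mul_assoc]
      refine mul_mem hek ?_
      rw [← mul_assoc, ← (h.commute_grp hx hxp hev).eq, mul_assoc]
      exact mul_mem hxK hevk
    obtain ⟨f, hf, hfk⟩ := hsU (u * v) (mul_mem hu hv) v hv ev hev huv2 hevk
    rw [show (u * v)⁻¹ * v = v⁻¹ * u⁻¹ * v by group] at hfk
    have h3 : f * u⁻¹ ∈ locKer M z x := by
      have hk1 := h.ker_comm_reg hS hloc hx hxp hF.ne hF.fix_pt hP hfk hv
      have hfv := h.reg_comm_grp hS hloc hx hxp hF.ne hF.fix_pt hP hf hv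
      have e : f * u⁻¹ = v * (f * (v⁻¹ * u⁻¹ * v)) * v⁻¹ := by
        rw [← mul_assoc v f, ← hfv.eq]; group
      rw [e, ← hk1.eq, mul_inv_cancel_right]
      exact hfk
    have h4 := mul_mem h3 h3
    rw [((h.reg_comm_grp hS hloc hx hxp hF.ne hF.fix_pt hP hf (inv_mem hu)).symm).mul_mul_mul_comm,
      h.res.grp_sq hf, one_mul, ← mul_inv_rev] at h4
    exact hu1 (inv_mem_iff.1 h4)
  obtain ⟨f, hf, hfk⟩ := hP.center u hu fun v hv => by
    rw [(hucomm v hv).eq, mul_inv_cancel_right, mul_inv_cancel]; exact one_mem _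
  rw [h.lineGrp_eq hx hxp] at hf
  have h4 := mul_mem hfk hfk
  rw [((h.reg_comm_grp hS hloc hx hxp hF.ne hF.fix_pt hP hf hu).symm).mul_mul_mul_comm,
    h.res.grp_sq hf, one_mul] at h4
  exact hu1 h4

end EqRes

end CfsgLib.SECrit.Eq
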