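import Cfsg.Agent.Lib.Invol.SECriterion.EqType.SEq.Count
import Cfsg.Agent.Lib.Invol.SECriterion.Cube.Regular

/-!
# The strong embedding criterion, equal type with many fixed points: the frame

`x` is a bad involution at the base point with a further fixed point `a`, `T` a two-group of the elements
centralizing `x` and fixing both, as large as the two-groups fixing two points get; `S` is a Sylow two-group
of `M` keeping the coset of `x`, `P` the regular two-group of `x`, `c` a torus element normalizing `S`.
-/

set_option autoImplicit false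
set_option linter.style.haveILetI false

namespace CfsgLib.SECrit.Eq

open CfsgLib.Invol Small Subgroup

universe u

variable {G : Type u} [Group G] {M : Subgroup G} {z : G}

/-- The elements fixing every fixed point of `x` and centralizing `x` and the members commuting with it. -/
def ptwise (M : Subgroup G) (z x : G) : Subgroup G :=
  centralizer (insert x (locGroup z x : Set G)) ⊓ ⨅ b : {b : G ⧸ M // x • b = b}, MulAction.stabilizer G b.1

theorem mem_ptwise {x g : G} : g ∈ ptwise M z x ↔
    Commute x g ∧ (∀ l ∈ locGroup z x, Commute l g) ∧ ∀ b : G ⧸ M, x • b = b → g • b = b := by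
  simp only [ptwise, Subgroup.mem_inf, Subgroup.mem_iInf, Subgroup.mem_centralizer_iff, Set.forall_mem_insert,
    MulAction.mem_stabilizer_iff, Subtype.forall, SetLike.mem_coe, and_assoc]
  rfl

variable [Finite G]

/-- The two-group of a pair of points. -/
structure Frame (M : Subgroup G) (z x : G) (a : G ⧸ M) (T : Subgroup G) : Prop where
  /-- the involution -/
  bad : Bad z x
  /-- it fixes the base point -/
  fix_base : x • base M = base M
  /-- and `a` -/
  fix_pt : x • a = a
  /-- another point -/
  ne : a ≠ base M
  /-- a two-group -/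
  two : IsPGroup 2 T
  /-- centralizing `x` -/
  cent : ∀ t ∈ T, Commute x t
  /-- fixing both points -/
  fix_T : ∀ t ∈ T, t • base M = base M ∧ t • a = a
  /-- holding `x` -/
  self : x ∈ T
  /-- of largest order -/
  max : ∀ (U : Subgroup G) (c : G ⧸ M), IsPGroup 2 U → c ≠ base M →
    (∀ g ∈ U, g • base M = base M ∧ g • c = c) → Nat.card U ≤ Nat.card T

namespace EqRes

/-- A Sylow two-group of `M` keeping the coset of `x`. -/
structure Sylo (h : EqRes M z) (x : G) (a : G ⧸ M) (T P S : Subgroup G) : Prop where
  /-- the frame -/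
  frame : Frame M z x a T
  /-- the regular two-group -/
  reg : RegTwo M z x (base M) P
  /-- a two-group -/
  two : IsPGroup 2 S
  /-- at the base point -/
  smul : ∀ g ∈ S, g • base M = base M
  /-- centralizing the members there -/
  centE : ∀ g ∈ S, ∀ e ∈ h.res.grp (base M), Commute g e
  /-- holding them -/
  grp_le : h.res.grp (base M) ≤ S
  /-- holding the regular group -/
  reg_le : P ≤ S
  /-- holding `T` -/
  T_le : T ≤ S
  /-- keeping the coset of `x` -/
  coset : ∀ g ∈ S, g * x * g⁻¹ * x ∈ h.res.grp (base M)
  /-- transitive on it -/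
  surj : ∀ e ∈ h.res.grp (base M), ∃ g ∈ S, g * x * g⁻¹ = e * x
  /-- the centralizer of `x` in it -/
  decomp : ∀ g ∈ S, Commute x g → ∃ v ∈ P, ∃ t ∈ T, g = v * t
  /-- a Sylow two-group -/
  max : ∀ U : Subgroup G, IsPGroup 2 U → (∀ g ∈ U, g • base M = base M) → Nat.card U ≤ Nat.card S

/-- A torus element normalizing it. -/
structure Tor (h : EqRes M z) (x : G) (T S : Subgroup G) (c : G) : Prop where
  /-- at the base point -/
  smul : c • base M = base M
  /-- centralizing `x` -/
  comm : Commute c x
  /-- of odd order -/
  odd : Odd (orderOf c)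
  /-- normalizing `S` -/
  norm : ∀ g ∈ S, c * g * c⁻¹ ∈ S
  /-- transitive on the members at the base point -/
  trans : ∀ e ∈ h.res.grp (base M), ∀ f ∈ h.res.grp (base M), e ≠ 1 → f ≠ 1 →
    ∃ i : ℕ, c ^ i * e * (c ^ i)⁻¹ = f
  /-- centralizing the pointwise part of `T` modulo the members -/
  centW : ∀ t ∈ T, t ∈ ptwise M z x → c * t * c⁻¹ * t⁻¹ ∈ h.res.grp (base M)

variable (h : EqRes M z)
include h

/-- The line of a bad involution at a fixed point is the whole group at it. -/
theorem lineGrp_eq {x : G} (hx : Bad z x) {p : G ⧸ M} (hp : x • p = p) : lineGrp z x p = h.res.grp p := by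
  refine le_antisymm ((closure_le _).2 fun d hd => Or.inr ⟨hd.1, hd.2.1⟩) fun d hd => ?_
  rcases (show d = 1 ∨ _ from hd) with rfl | hd'
  · exact one_mem _
  · exact subset_closure ⟨hd'.1, hd'.2, h.commute_grp hx hp hd⟩

theorem isBad {x : G} (hx : Bad z x) : IsBad M x := by
  obtain ⟨p, q, hpq, hp, hq⟩ := h.res.exists_pair hx
  exact ⟨hx.invol, p, q, hpq, hp, hq⟩

end EqRes

end CfsgLib.SECrit.Eq
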