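import Cfsg.Agent.Lib.Invol.SECriterion.EqType.Big.Basic
import Cfsg.Agent.Lib.Invol.SECriterion.Shape.CosetSq

/-!
# The strong embedding criterion, equal type with many fixed points: half of the centralizer of `x`

In a subgroup `S₁` of `S` where `C(x)` is `P ∪ P x`, the elements `u⁻¹ c u c⁻¹ e` form a group `Q` not holding
`x`, of index two in that centralizer, invariant under the torus: the data of the coset lemma.
-/

set_option autoImplicit false
set_option linter.style.haveILetI false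

namespace CfsgLib.SECrit.Eq

open CfsgLib.Invol Small Subgroup

universe u

variable {G : Type u} [Group G] [Finite G] {M : Subgroup G} {z : G}

namespace EqRes.Sylo

variable {h : EqRes M z} {x : G} {a : G ⧸ M} {T P S : Subgroup G} (hY : h.Sylo x a T P S)
include hY

/-- A member fixed by the torus is trivial. -/
theorem eq_one_of_tor_fix {c : G} (hc : h.Tor x T S c) {e : G} (he : e ∈ h.res.grp (base M))
    (hfix : c * e * c⁻¹ = e) : e = 1 := by
  by_contra he1
  obtain ⟨f, hf, hf1, hfe⟩ := h.exists_other e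
  obtain ⟨i, hi⟩ := hc.trans e he f hf he1 hf1
  have hpow : ∀ n : ℕ, c ^ n * e * (c ^ n)⁻¹ = e := fun n => by
    induction n with
    | zero => simp
    | succ n ih => rw [pow_succ, show c ^ n * c * e * (c ^ n * c)⁻¹ = c ^ n * (c * e * c⁻¹) * (c ^ n)⁻¹ by group, hfix, ih]
  exact hfe (hi.symm.trans (hpow i))

/-- An element of `P` with trivial square modulo the kernel and kernel part in `{1, x}`. -/
theorem mem_or_mul_of_sq {v : G} (hv : v ∈ P) (hv2 : v * v = 1)
    (hPK : ∀ w ∈ P, w ∈ locKer M z x → w = 1 ∨ w = x) :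
    v ∈ h.res.grp (base M) ∨ v * x ∈ h.res.grp (base M) := by
  obtain ⟨e, he, hev⟩ := hY.reg.invol v hv (by rw [hv2]; exact one_mem _)
  have he' : e ∈ h.res.grp (base M) := h.lineGrp_eq hY.frame.bad hY.frame.fix_base ▸ he
  rcases hPK _ (mul_mem (hY.reg.line_le he) hv) hev with h1 | h1
  · left
    rw [show v = e⁻¹ from eq_inv_of_mul_eq_one_right h1]
    exact inv_mem he'
  · right
    have h2 : v = e * x := by rw [← h1, ← mul_assoc, h.res.grp_sq he', one_mul]
    rw [h2, mul_assoc, invol_mul_self hY.frame.bad.invol, mul_one]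
    exact he'

/-- A square fixed by the torus modulo the members. -/
theorem mem_of_tor_fix {c : G} (hc : h.Tor x T S c) {v : G} (hv : v ∈ P)
    (hsq : v * v ∈ h.res.grp (base M)) (hfix : c * v * c⁻¹ * v⁻¹ ∈ h.res.grp (base M))
    (hPK : ∀ w ∈ P, w ∈ locKer M z x → w = 1 ∨ w = x) :
    v ∈ h.res.grp (base M) ∨ v * x ∈ h.res.grp (base M) := by
  refine hY.mem_or_mul_of_sq hv (hY.eq_one_of_tor_fix hc hsq ?_) hPK
  have hcv := hY.centE v (hY.reg_le hv) _ hfix
  have h1 : c * v * c⁻¹ = c * v * c⁻¹ * v⁻¹ * v := (inv_mul_cancel_right _ _).symm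
  calc c * (v * v) * c⁻¹ = (c * v * c⁻¹) * (c * v * c⁻¹) := by group
    _ = (c * v * c⁻¹ * v⁻¹) * v * ((c * v * c⁻¹ * v⁻¹) * v) := by rw [← h1]
    _ = v * v := by
      generalize c * v * c⁻¹ * v⁻¹ = f at hfix hcv
      calc f * v * (f * v) = f * (v * f) * v := by group
        _ = v * v := by rw [hcv.eq, ← mul_assoc, h.res.grp_sq hfix, one_mul]

variable {S₁ : Subgroup G}

theorem mem_cent_cases (hP : P ≤ S₁) (hx : x ∈ S₁)
    (hcent : ∀ g ∈ S₁, Commute x g → ∃ v ∈ P, g = v ∨ g = v * x) {g : G} :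
    g ∈ S₁ ⊓ Subgroup.centralizer ({x} : Set G) ↔ ∃ v ∈ P, g = v ∨ g = v * x := by
  constructor
  · exact fun hg => hcent g hg.1 (mem_centralizer_singleton_iff.1 hg.2).symm
  · rintro ⟨v, hv, rfl | rfl⟩
    · exact ⟨hP hv, mem_centralizer_singleton_iff.2 (hY.commute_reg hv).symm.eq⟩
    · exact ⟨mul_mem (hP hv) hx,
        mem_centralizer_singleton_iff.2 (((hY.commute_reg hv).symm).mul_left (Commute.refl x)).eq⟩

/-- **Half of the centralizer of `x`.** -/
theorem exists_half {c : G} (hc : h.Tor x T S c) (hS₁ : S₁ ≤ S) (hP : P ≤ S₁) (hx : x ∈ S₁)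
    (hinv : ∀ g ∈ S₁, c * g * c⁻¹ ∈ S₁) (hcent : ∀ g ∈ S₁, Commute x g → ∃ v ∈ P, g = v ∨ g = v * x)
    (hsqP : ∀ g ∈ S₁, Commute x g → g * g ∈ h.res.grp (base M))
    (hPK : ∀ v ∈ P, v ∈ locKer M z x → v = 1 ∨ v = x) :
    ∃ Q : Subgroup G, h.res.grp (base M) ≤ Q ∧ x ∉ Q ∧ (∀ v ∈ Q, v ∈ S₁ ∧ Commute x v) ∧
      (∀ g ∈ S₁, Commute x g → ∃ v ∈ Q, g = v ∨ g = v * x) ∧ (∀ v ∈ Q, c * v * c⁻¹ ∈ Q) ∧
      (∀ v ∈ Q, v * v = 1 → v ∈ h.res.grp (base M)) := by
  classical
  set E := h.res.grp (base M) with hE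
  set C₁ := S₁ ⊓ Subgroup.centralizer ({x} : Set G) with hC₁
  have hmem : ∀ g : G, g ∈ C₁ ↔ g ∈ S₁ ∧ Commute x g := fun g => by
    rw [hC₁, Subgroup.mem_inf, mem_centralizer_singleton_iff]; exact ⟨fun hg => ⟨hg.1, hg.2.symm⟩, fun hg => ⟨hg.1, hg.2.symm⟩⟩
  have hEC : E ≤ C₁ := fun e he => by
    have h1 : e ∈ lineGrp z x (base M) := by rw [h.lineGrp_eq hY.frame.bad hY.frame.fix_base]; exact he
    exact (hmem e).2 ⟨hP (hY.reg.line_le h1), h.commute_grp hY.frame.bad hY.frame.fix_base he⟩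
  have hcC : ∀ g ∈ C₁, c * g * c⁻¹ ∈ C₁ := fun g hg => by
    obtain ⟨h1, h2⟩ := (hmem g).1 hg
    exact (hmem _).2 ⟨hinv g h1, (hc.comm.symm.mul_right h2).mul_right hc.comm.symm.inv_right⟩
  -- the quotient by the members
  have hsqC : ∀ g ∈ C₁, g * g ∈ E := fun g hg => hsqP g ((hmem g).1 hg).1 ((hmem g).1 hg).2
  set N := E.subgroupOf C₁ with hN
  haveI : N.Normal := ⟨fun e he g => by
    rw [hN, mem_subgroupOf]
    show (g : G) * e * (g : G)⁻¹ ∈ E
    rw [(hY.centE g (hS₁ ((hmem g).1 g.2).1) (e : G) (mem_subgroupOf.1 he)).eq, mul_inv_cancel_right]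
    exact he⟩
  let V := C₁ ⧸ N
  have hV : ∀ u : V, u * u = 1 := fun u => by
    induction u using QuotientGroup.induction_on with
    | H g => rw [← QuotientGroup.mk_mul, QuotientGroup.eq_one_iff]; exact hsqC g g.2
  have hVc : ∀ u v : V, u * v = v * u := fun u v => by
    calc u * v = (u * v)⁻¹ := (inv_eq_of_mul_eq_one_left (hV _)).symm
      _ = v * u := by rw [mul_inv_rev, inv_eq_of_mul_eq_one_left (hV u), inv_eq_of_mul_eq_one_left (hV v)]
  letI : CommGroup V := { (inferInstance : Group V) with mul_comm := hVc }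
  let φ : C₁ →* C₁ :=
    { toFun := fun g => ⟨c * g * c⁻¹, hcC g g.2⟩
      map_one' := Subtype.ext (by show c * 1 * c⁻¹ = 1; group)
      map_mul' := fun g k => Subtype.ext (by show c * (g * k) * c⁻¹ = c * g * c⁻¹ * (c * k * c⁻¹); group) }
  have hφN : N ≤ N.comap φ := fun e he => h.conj_mem hc.smul he
  let ψ : V →* V := QuotientGroup.map N N φ hφN
  let δ : V →* V := ψ * MonoidHom.id V
  set Q : Subgroup G := (δ.range.comap (QuotientGroup.mk' N)).map C₁.subtype with hQ
  have hQmem : ∀ g : C₁, (g : G) ∈ Q ↔ ∃ u : V, ψ u * u = (g : V) := fun g => by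
    constructor
    · rintro ⟨k, hk, hkg⟩
      rw [Subtype.ext hkg] at hk
      exact hk
    · exact fun hu => ⟨g, hu, rfl⟩
  have hQC : ∀ v ∈ Q, v ∈ C₁ := by rintro _ ⟨k, -, rfl⟩; exact k.2
  -- fixed elements
  have hfixed : ∀ g : C₁, ψ (g : V) = (g : V) → (g : G) ∈ E ∨ (g : G) * x ∈ E := by
    intro g hg
    have h1 : c * (g : G) * c⁻¹ * (g : G)⁻¹ ∈ E := by
      have h2 := QuotientGroup.eq.1 hg.symm
      rw [hN, mem_subgroupOf] at h2
      have h3 : (g : G)⁻¹ * (c * g * c⁻¹) ∈ E := h2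
      have h4 := hY.centE g (hS₁ ((hmem g).1 g.2).1) _ h3
      rw [show c * (g : G) * c⁻¹ * (g : G)⁻¹ = g * ((g : G)⁻¹ * (c * g * c⁻¹)) * (g : G)⁻¹ by group, h4.eq,
        mul_inv_cancel_right]
      exact h3
    obtain ⟨v, hv, e1 | e1⟩ := hcent g ((hmem g).1 g.2).1 ((hmem g).1 g.2).2
    · rw [e1] at h1 ⊢
      exact hY.mem_of_tor_fix hc hv (hsqP v (hP hv) (hY.commute_reg hv)) h1 hPK
    · rw [e1] at h1 ⊢
      have h5 : c * v * c⁻¹ * v⁻¹ ∈ E := by
        rwa [show c * (v * x) * c⁻¹ * (v * x)⁻¹ = c * v * (x * c⁻¹ * x⁻¹) * v⁻¹ by group,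
          hc.comm.inv_left.symm.eq, mul_inv_cancel_right] at h1
      rw [mul_assoc, invol_mul_self hY.frame.bad.invol, mul_one]
      exact (hY.mem_of_tor_fix hc hv (hsqP v (hP hv) (hY.commute_reg hv)) h5 hPK).symm
  -- averaging
  have hpow : ∀ (n : ℕ) (g : C₁), ψ^[n] (g : V) = ((⟨c ^ n * g * (c ^ n)⁻¹, by
      induction n with
      | zero => simp
      | succ n ih =>
        rw [pow_succ', show c * c ^ n * (g : G) * (c * c ^ n)⁻¹ = c * (c ^ n * g * (c ^ n)⁻¹) * c⁻¹ by group]
        exact hcC _ ih⟩ : C₁) : V) := by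
    intro n g
    induction n with
    | zero => simp
    | succ n ih =>
      rw [Function.iterate_succ_apply', ih]
      refine congrArg QuotientGroup.mk (Subtype.ext ?_)
      show c * (c ^ n * (g : G) * (c ^ n)⁻¹) * c⁻¹ = c ^ (n + 1) * (g : G) * (c ^ (n + 1))⁻¹
      simp only [pow_succ', mul_inv_rev, mul_assoc]
  have hodd := hc.odd
  obtain ⟨k, hk⟩ := hodd
  have hord : ∀ u : V, ψ^[2 * k + 1] u = u := fun u => by
    induction u using QuotientGroup.induction_on with
    | H g =>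
      rw [hpow]
      exact congrArg QuotientGroup.mk (Subtype.ext (by
        show c ^ (2 * k + 1) * (g : G) * (c ^ (2 * k + 1))⁻¹ = g
        rw [← hk, pow_orderOf_eq_one]; simp))
  let σ : ℕ → V → V := fun n u => Nat.rec 1 (fun i r => r * ψ^[i] u) n
  have hσsucc : ∀ n u, σ (n + 1) u = σ n u * ψ^[n] u := fun n u => rfl
  have hσfix : ∀ n u, ψ (σ n u) * u = σ n u * ψ^[n] u := fun n u => by
    induction n with
    | zero => simp [σ]
    | succ n ih =>
      rw [hσsucc, map_mul, mul_right_comm, ih, ← Function.iterate_succ_apply' ψ n u]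
  have hσdiff : ∀ n u, ∃ w, σ n u * u ^ n = ψ w * w := fun n u => by
    induction n with
    | zero => exact ⟨1, by simp [σ]⟩
    | succ n ih =>
      obtain ⟨w, hw⟩ := ih
      have h1 : ∀ i : ℕ, ∃ r, ψ^[i] u * u = ψ r * r := fun i => by
        induction i with
        | zero => exact ⟨1, by rw [Function.iterate_zero_apply, map_one, one_mul, hV]⟩
        | succ i ihi =>
          obtain ⟨r, hr⟩ := ihi
          refine ⟨ψ^[i] u * r, ?_⟩
          calc ψ^[i + 1] u * u = ψ^[i + 1] u * (ψ^[i] u * ψ^[i] u) * u := by rw [hV, mul_one]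
            _ = ψ^[i + 1] u * (ψ^[i] u * (ψ^[i] u * u)) := by rw [mul_assoc, mul_assoc]
            _ = ψ^[i + 1] u * (ψ^[i] u * (ψ r * r)) := by rw [hr]
            _ = ψ (ψ^[i] u * r) * (ψ^[i] u * r) := by
              rw [map_mul, ← Function.iterate_succ_apply' ψ i u, mul_mul_mul_comm (ψ^[i + 1] u) (ψ r),
                mul_assoc (ψ^[i + 1] u) (ψ^[i] u)]
      obtain ⟨r, hr⟩ := h1 n
      exact ⟨w * r, by rw [hσsucc, pow_succ, mul_mul_mul_comm, hw, hr, map_mul, mul_mul_mul_comm]⟩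
  refine ⟨Q, fun e he => (hQmem ⟨e, hEC he⟩).2 ⟨1, ?_⟩, ?_, fun v hv => (hmem v).1 (hQC v hv), ?_, ?_, ?_⟩
  · rw [map_one, one_mul]; exact ((QuotientGroup.eq_one_iff (⟨e, hEC he⟩ : C₁)).2 (show (⟨e, hEC he⟩ : C₁) ∈ N from he)).symm
  · -- `x` is not a difference
    intro hxQ
    have hxC : x ∈ C₁ := (hmem x).2 ⟨hx, Commute.refl x⟩
    obtain ⟨u, hu⟩ := (hQmem ⟨x, hxC⟩).1 hxQ
    have hψx : ψ ((⟨x, hxC⟩ : C₁) : V) = ((⟨x, hxC⟩ : C₁) : V) :=
      congrArg QuotientGroup.mk (Subtype.ext (by show c * x * c⁻¹ = x; rw [hc.comm.eq, mul_inv_cancel_right]))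
    have h1 : ∀ n, ψ^[n] u = u * ((⟨x, hxC⟩ : C₁) : V) ^ n := fun n => by
      induction n with
      | zero => simp
      | succ n ih =>
        rw [Function.iterate_succ_apply', ih, map_mul, map_pow, hψx,
          show ψ u = u * ((⟨x, hxC⟩ : C₁) : V) by rw [← hu, mul_comm (ψ u), ← mul_assoc, hV, one_mul],
          mul_assoc, ← pow_succ']
    have h2 := (h1 (2 * k + 1)).symm.trans (hord u)
    rw [mul_eq_left, pow_succ, pow_mul, pow_two, hV, one_pow, one_mul, QuotientGroup.eq_one_iff] at h2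
    exact h.bad_notMem hY.frame.bad (show x ∈ E from h2)
  · -- the cover
    intro g hg hgx
    set gC : C₁ := ⟨g, (hmem g).2 ⟨hg, hgx⟩⟩ with hgC
    set u : V := (gC : V) with hu
    set f := σ (2 * k + 1) u with hf
    have hff : ψ f = f := by
      have h3 := hσfix (2 * k + 1) u
      rw [hord] at h3
      exact mul_right_cancel h3
    obtain ⟨w, hw⟩ := hσdiff (2 * k + 1) u
    rw [pow_succ, pow_mul, pow_two, hV, one_pow, one_mul, ← hf] at hw
    obtain ⟨fC, hfC⟩ := QuotientGroup.mk_surjective f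
    rcases hfixed fC (by rw [hfC]; exact hff) with h1 | h1
    · refine ⟨g, (hQmem gC).2 ⟨w, ?_⟩, Or.inl rfl⟩
      rw [← hw, ← hu, show f = 1 by rw [← hfC, QuotientGroup.eq_one_iff]; exact h1, one_mul]
    · have hxC : x ∈ C₁ := (hmem x).2 ⟨hx, Commute.refl x⟩
      refine ⟨g * x, (hQmem (gC * ⟨x, hxC⟩)).2 ⟨w, ?_⟩, Or.inr (by
        rw [mul_assoc, invol_mul_self hY.frame.bad.invol, mul_one])⟩
      rw [← hw, QuotientGroup.mk_mul, ← hu, mul_comm f u]
      refine congrArg (u * ·) ?_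
      rw [← hfC, QuotientGroup.eq]
      rw [hN, mem_subgroupOf]
      show (fC : G)⁻¹ * x ∈ E
      have h6 : (fC : G)⁻¹ * x = ((fC : G) * x) := by
        have h7 : Commute (fC : G) x := ((hmem fC).1 fC.2).2.symm
        have h8 := h.res.grp_sq h1
        rw [show (fC : G) * x * ((fC : G) * x) = (fC : G) * (x * fC) * x by group, ← h7.eq,
          show (fC : G) * ((fC : G) * x) * x = (fC : G) * fC * (x * x) by group,
          invol_mul_self hY.frame.bad.invol, mul_one] at h8
        rw [inv_eq_of_mul_eq_one_right h8]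
      rw [h6]
      exact h1
  · intro v hv
    obtain ⟨w, hw⟩ := (hQmem ⟨v, hQC v hv⟩).1 hv
    exact (hQmem ⟨c * v * c⁻¹, hcC v (hQC v hv)⟩).2 ⟨ψ w, by
      rw [← map_mul, hw]; rfl⟩
  · intro v hv hv2
    obtain ⟨p, hp, e1⟩ := hcent v ((hmem v).1 (hQC v hv)).1 ((hmem v).1 (hQC v hv)).2
    have hnx : v * x ∉ h.res.grp (base M) := fun hh => by
      have hEQ : ∀ e ∈ E, e ∈ Q := fun e he => (hQmem ⟨e, hEC he⟩).2 ⟨1, by
        rw [map_one, one_mul]; exact ((QuotientGroup.eq_one_iff (⟨e, hEC he⟩ : C₁)).2 (show (⟨e, hEC he⟩ : C₁) ∈ N from he)).symm⟩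
      have hxC : x ∈ C₁ := (hmem x).2 ⟨hx, Commute.refl x⟩
      have hxQ : x ∈ Q := by
        have := Q.mul_mem (Q.inv_mem hv) (hEQ _ hh)
        rwa [inv_mul_cancel_left] at this
      obtain ⟨u, hu⟩ := (hQmem ⟨x, hxC⟩).1 hxQ
      have hψx : ψ ((⟨x, hxC⟩ : C₁) : V) = ((⟨x, hxC⟩ : C₁) : V) :=
        congrArg QuotientGroup.mk (Subtype.ext (by show c * x * c⁻¹ = x; rw [hc.comm.eq, mul_inv_cancel_right]))
      have h1 : ∀ n, ψ^[n] u = u * ((⟨x, hxC⟩ : C₁) : V) ^ n := fun n => by
        induction n with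
        | zero => simp
        | succ n ih =>
          rw [Function.iterate_succ_apply', ih, map_mul, map_pow, hψx,
            show ψ u = u * ((⟨x, hxC⟩ : C₁) : V) by rw [← hu, mul_comm (ψ u), ← mul_assoc, hV, one_mul],
            mul_assoc, ← pow_succ']
      have h2 := (h1 (2 * k + 1)).symm.trans (hord u)
      rw [mul_eq_left, pow_succ, pow_mul, pow_two, hV, one_pow, one_mul, QuotientGroup.eq_one_iff] at h2
      exact h.bad_notMem hY.frame.bad (show x ∈ E from h2)
    rcases e1 with rfl | rfl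
    · exact (hY.mem_or_mul_of_sq hp hv2 hPK).resolve_right hnx
    · have hc' := hY.commute_reg hp
      have hp2 : p * p = 1 := by
        rwa [show p * x * (p * x) = p * (x * p) * x by group, hc'.eq,
          show p * (p * x) * x = p * p * (x * x) by group, invol_mul_self hY.frame.bad.invol, mul_one] at hv2
      rw [mul_assoc, invol_mul_self hY.frame.bad.invol, mul_one] at hnx
      exact (hY.mem_or_mul_of_sq hp hp2 hPK).resolve_left hnx

/-- **Squares lie in the members.** -/
theorem sub_sq_mem (hbig : fix M x = (deg M z + 1) ^ 2 + 1 ∨ fix M x = (deg M z + 1) ^ 3 + 1) {c : G}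
    (hc : h.Tor x T S c) (hS₁ : S₁ ≤ S) (hP : P ≤ S₁) (hx : x ∈ S₁)
    (hinv : ∀ g ∈ S₁, c * g * c⁻¹ ∈ S₁) (hcent : ∀ g ∈ S₁, Commute x g → ∃ v ∈ P, g = v ∨ g = v * x)
    (hsqP : ∀ g ∈ S₁, Commute x g → g * g ∈ h.res.grp (base M))
    (hPK : ∀ v ∈ P, v ∈ locKer M z x → v = 1 ∨ v = x)
    (hcard : Nat.card (S₁ ⊓ Subgroup.centralizer ({x} : Set G) : Subgroup G) ≤ (fix M x - 1) * 2)
    (hsurj : ∀ e ∈ h.res.grp (base M), ∃ g ∈ S₁, g * x * g⁻¹ = e * x) :
    ∀ g ∈ S₁, g * g ∈ h.res.grp (base M) := by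
  classical
  obtain ⟨Q, hEQ, hxQ, hQ, hcov, hQc, hQinv⟩ := hY.exists_half hc hS₁ hP hx hinv hcent hsqP hPK
  set E := h.res.grp (base M) with hE
  have hES : E ≤ S₁ := fun e he => (hQ e (hEQ he)).1
  let φ : MulAut S₁ :=
    MulEquiv.ofBijective
      ({ toFun := fun g => ⟨c * g * c⁻¹, hinv g g.2⟩
         map_one' := Subtype.ext (by show c * 1 * c⁻¹ = 1; group)
         map_mul' := fun g k => Subtype.ext (by show c * (g * k) * c⁻¹ = c * g * c⁻¹ * (c * k * c⁻¹); group) } :
        S₁ →* S₁)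
      (Finite.injective_iff_bijective.1 fun g k hgk => Subtype.ext (by
        have h1 : c * (g : G) * c⁻¹ = c * k * c⁻¹ := congrArg Subtype.val hgk
        exact mul_left_cancel (mul_right_cancel h1)))
  have hφ : ∀ (n : ℕ) (g : S₁), (((φ ^ n) g : S₁) : G) = c ^ n * g * (c ^ n)⁻¹ := fun n => by
    induction n with
    | zero => intro g; simp
    | succ n ih =>
      intro g
      rw [pow_succ', MulAut.mul_apply]
      show c * (((φ ^ n) g : S₁) : G) * c⁻¹ = _
      rw [ih, pow_succ']; group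
  have hφQ : ∀ (n : ℕ), ∀ v ∈ Q, c ^ n * v * (c ^ n)⁻¹ ∈ Q := fun n => by
    induction n with
    | zero => intro v hv; simpa using hv
    | succ n ih =>
      intro v hv
      rw [pow_succ', show c * c ^ n * v * (c * c ^ n)⁻¹ = c * (c ^ n * v * (c ^ n)⁻¹) * c⁻¹ by group]
      exact hQc _ (ih v hv)
  have hsmn : ∀ n : ℕ, c ^ n • base M = base M := fun n => by
    induction n with
    | zero => simp
    | succ n ih => rw [pow_succ, mul_smul, hc.smul, ih]
  have hzp : ∀ α ∈ zpowers φ, ∃ n : ℕ, φ ^ n = α := fun α hα =>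
    (Submonoid.mem_powers_iff _ _).1 (mem_powers_iff_mem_zpowers.2 hα)
  have hx2 := invol_mul_self hY.frame.bad.invol
  have hcD : Shape.CosetData (E.subgroupOf S₁) (Q.subgroupOf S₁) (⟨x, hx⟩ : S₁) (zpowers φ) :=
    { two := hY.two.to_le hS₁
      four_le := by
        rw [Nat.card_congr (subgroupOfEquivOfLe hES).toEquiv, h.res.card_grp]
        obtain ⟨β, hβ2, hβ⟩ := h.exists_deg_pow
        rw [hβ]
        exact le_trans (by norm_num) (Nat.pow_le_pow_right (by norm_num) hβ2)
      card_le := by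
        rw [Nat.card_congr (subgroupOfEquivOfLe (fun v hv => (hQ v hv).1)).toEquiv,
          Nat.card_congr (subgroupOfEquivOfLe hES).toEquiv, h.res.card_grp]
        have h1 : Nat.card Q * 2 ≤ Nat.card (S₁ ⊓ Subgroup.centralizer ({x} : Set G) : Subgroup G) := by
          have h2 : Nat.card (Q × Bool) = Nat.card Q * 2 := by rw [Nat.card_prod]; simp
          rw [← h2]
          refine Nat.card_le_card_of_injective (fun q : Q × Bool =>
            (if q.2 then ⟨(q.1 : G) * x, Subgroup.mem_inf.2 ⟨mul_mem (hQ _ q.1.2).1 hx, mem_centralizer_singleton_iff.2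
              (((hQ _ q.1.2).2.symm).mul_left (Commute.refl x)).eq⟩⟩
            else ⟨q.1, Subgroup.mem_inf.2 ⟨(hQ _ q.1.2).1, mem_centralizer_singleton_iff.2 (hQ _ q.1.2).2.symm.eq⟩⟩ :
              (S₁ ⊓ Subgroup.centralizer ({x} : Set G) : Subgroup G))) ?_
          rintro ⟨u, s⟩ ⟨v, t⟩ huv
          have huv' := congrArg Subtype.val huv
          cases s <;> cases t <;> simp only [Bool.false_eq_true, if_false, if_true] at huv'
          · exact Prod.ext (Subtype.ext huv') rfl
          · exfalso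
            refine hxQ ?_
            rw [show x = (v : G)⁻¹ * u by rw [huv', inv_mul_cancel_left]]
            exact Q.mul_mem (Q.inv_mem v.2) u.2
          · exfalso
            refine hxQ ?_
            rw [show x = (u : G)⁻¹ * v by rw [← huv', inv_mul_cancel_left]]
            exact Q.mul_mem (Q.inv_mem u.2) v.2
          · exact Prod.ext (Subtype.ext (mul_right_cancel huv')) rfl
        have h3 : fix M x - 1 ≤ (deg M z + 1) ^ 3 := by
          rcases hbig with e | e <;> rw [e, Nat.add_sub_cancel]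
          exact Nat.pow_le_pow_right (Nat.succ_pos _) (by norm_num)
        omega
      central := fun e he => Subgroup.mem_center_iff.2 fun g => Subtype.ext (hY.centE g (hS₁ g.2) e he).eq
      elem := fun e he => Subtype.ext (h.res.grp_sq he)
      le := fun e he => hEQ he
      sq := fun v hv => hsqP v v.2 (hQ _ hv).2
      invol := fun v hv h1 => hQinv _ hv (congrArg Subtype.val h1)
      center_le := by
        intro v hv hcom
        have hvQ : (v : G) ∈ Q := hv
        obtain ⟨p, hp, e1⟩ := hcent v v.2 (hQ _ hvQ).2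
        have hcomP : ∀ w ∈ P, Commute (v : G) w := by
          intro w hw
          obtain ⟨q, hq, e2⟩ := hcov w (hP hw) (hY.commute_reg hw)
          have h1 : Commute (v : G) q := congrArg Subtype.val (hcom ⟨q, (hQ q hq).1⟩ hq).eq
          rcases e2 with rfl | rfl
          · exact h1
          · exact h1.mul_right (hQ _ hvQ).2.symm
        have hpv : ∀ w ∈ P, p * w * p⁻¹ * w⁻¹ ∈ locKer M z x := by
          intro w hw
          have h1 : Commute p w := by
            rcases e1 with e1 | e1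
            · rw [← e1]; exact hcomP w hw
            · have h2 := (hcomP w hw).mul_left (hY.commute_reg hw)
              rwa [e1, mul_assoc, hx2, mul_one] at h2
          rw [h1.eq, mul_inv_cancel_right, mul_inv_cancel]
          exact one_mem _
        obtain ⟨e, he, hek⟩ := hY.reg.center p hp hpv
        have he' : e ∈ E := by rwa [h.lineGrp_eq hY.frame.bad hY.frame.fix_base] at he
        have hpE : p ∈ E ∨ p * x ∈ E := by
          rcases hPK _ (mul_mem (hY.reg.line_le he) hp) hek with h1 | h1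
          · left
            rw [show p = e⁻¹ from eq_inv_of_mul_eq_one_right h1]
            exact inv_mem he'
          · right
            have h2 : p = e * x := by rw [← h1, ← mul_assoc, h.res.grp_sq he', one_mul]
            rw [h2, mul_assoc, hx2, mul_one]
            exact he'
        show (v : G) ∈ E
        have hnx : (v : G) * x ∉ E := fun hh => hxQ (by
          have := Q.mul_mem (Q.inv_mem hvQ) (hEQ hh)
          rwa [inv_mul_cancel_left] at this)
        rcases e1 with e1 | e1 <;> rw [e1] at hnx ⊢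
        · exact hpE.resolve_right hnx
        · rw [mul_assoc, hx2, mul_one] at hnx
          exact hpE.resolve_left hnx
      x_sq := Subtype.ext hx2
      x_notMem := fun hh => hxQ hh
      x_comm := fun v hv => Subtype.ext (hQ _ hv).2.eq
      cent := by
        intro g hg
        obtain ⟨v, hv, e1 | e1⟩ := hcov g g.2 (congrArg Subtype.val hg.symm.eq)
        · exact ⟨⟨v, (hQ v hv).1⟩, hv, Or.inl (Subtype.ext e1)⟩
        · exact ⟨⟨v, (hQ v hv).1⟩, hv, Or.inr (Subtype.ext e1)⟩
      translate := fun g => hY.coset g (hS₁ g.2)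
      surj := fun e he => by
        obtain ⟨g, hg, hgx⟩ := hsurj e he
        exact ⟨⟨g, hg⟩, Subtype.ext hgx⟩
      fix_x := fun α hα => by
        obtain ⟨n, rfl⟩ := hzp α hα
        refine Subtype.ext ?_
        rw [hφ]
        show c ^ n * x * (c ^ n)⁻¹ = x
        rw [(hc.comm.pow_left n).eq, mul_inv_cancel_right]
      stab_E := fun α hα e he => by
        obtain ⟨n, rfl⟩ := hzp α hα
        rw [mem_subgroupOf, hφ]
        exact h.conj_mem (hsmn n) he
      stab_Q := fun α hα v hv => by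
        obtain ⟨n, rfl⟩ := hzp α hα
        rw [mem_subgroupOf, hφ]
        exact hφQ n v hv
      trans := fun e he f hf he1 hf1 => by
        obtain ⟨i, hi⟩ := hc.trans e he f hf (fun e1 => he1 (Subtype.ext e1)) fun e1 => hf1 (Subtype.ext e1)
        exact ⟨φ ^ i, pow_mem (mem_zpowers φ) i, Subtype.ext (by rw [hφ]; exact hi)⟩ }
  intro g hg
  exact hcD.sq_mem ⟨g, hg⟩

end EqRes.Sylo

end CfsgLib.SECrit.Eq
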