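import Cfsg.Agent.Lib.Invol.SECriterion.EqType.Big.Fixed
import Cfsg.Agent.Lib.Invol.SECriterion.Shape.KernelPart
import Cfsg.Agent.Lib.Invol.SECriterion.Shape.Coset.Action

/-!
# The strong embedding criterion, equal type: the two-group of a pair on the regular two-group

`T` acts on the regular two-group modulo the members and the kernel, commuting with the products of two
swaps of the pair that centralize `T`, which move every member to every other.  So at most one element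
acts non-trivially: two elements of `T` outside the pointwise part multiply into it.
-/

set_option autoImplicit false
set_option linter.style.haveILetI false
set_option linter.unusedSectionVars false
set_option linter.ambiguousOpen false

namespace CfsgLib.SECrit.Eq.EqRes

open CfsgLib.Invol Small Subgroup

universe u

variable {G : Type u} [Group G] [Finite G] {M : Subgroup G} {z : G}
variable (h : EqRes M z) (hS : Setup M z) (hloc : ∀ x, IsBad M x → Local M z x) {x : G} {a : G ⧸ M}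
  {T P : Subgroup G} (hF : Frame M z x a T) (hP : RegTwo M z x (base M) P)
  (hTE : ∀ t ∈ T, ∀ e ∈ h.res.grp (base M), Commute t e)
include h hS hloc hF hP hTE

/-- Products of two swaps centralizing `T` move each member to each other. -/
theorem exists_torus_elem {e e' : G} (he : e ∈ h.res.grp (base M)) (he' : e' ∈ h.res.grp (base M))
    (h1 : e ≠ 1) (h1' : e' ≠ 1) :
    ∃ c : G, c • base M = base M ∧ (∀ t ∈ T, Commute t c) ∧ c * e * c⁻¹ = e' := by
  have hcr := h.res.crit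
  obtain ⟨hez, hep⟩ := he.resolve_left h1
  obtain ⟨he'z, he'p⟩ := he'.resolve_left h1'
  obtain ⟨k, hk, hka, hkT⟩ := hcr.exists_commuting_swap hF.two hF.ne.symm (fun t ht => (hF.fix_T t ht).1)
    fun t ht => (hF.fix_T t ht).2
  have hkk := invol_mul_self (hcr.orderOf_conj hk)
  have hka' : k • a = base M := by rw [← hka, smul_smul, hkk, one_smul]
  have hf : IsConj z (k * e * k⁻¹) := hez.trans (isConj_iff.2 ⟨k, rfl⟩)
  have hfa : (k * e * k⁻¹) • a = a := by
    rw [mul_smul, mul_smul, inv_smul_eq_iff.2 hka.symm, hep, hka]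
  obtain ⟨k', hk', hk'e⟩ := hcr.exists_midpoint he'z hf he'p hfa hF.ne.symm
  have hk'p : k' • base M = a := hcr.smul_eq_of_conj hf hk'e he'p hfa
  have hk'k := invol_mul_self (hcr.orderOf_conj hk')
  refine ⟨k' * k, by rw [mul_smul, hka, ← hk'p, smul_smul, hk'k, one_smul], fun t ht => ?_, ?_⟩
  · exact (hcr.commute_midpoint he'z hf hk' he'p hfa hF.ne.symm hk'e (hTE t ht e' he')
      (((hkT t ht).mul_right (hTE t ht e he)).mul_right (hkT t ht).inv_right)).mul_right (hkT t ht)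
  · calc k' * k * e * (k' * k)⁻¹ = k' * (k * e * k⁻¹) * k'⁻¹ := by group
      _ = (k' * k') * e' * (k' * k')⁻¹ := by rw [← hk'e]; group
      _ = e' := by rw [hk'k, one_mul, inv_one, mul_one]

theorem normal_regKer : ((locKer M z x).subgroupOf P).Normal :=
  ⟨fun n hn v => by
    rwa [show v * n * v⁻¹ = n from Subtype.ext (show (v : G) * n * (v : G)⁻¹ = n by
      rw [← ((hloc x (h.isBad hF.bad)).ker_comm n hn v ((hP.mem v).1 v.2).1).eq, mul_inv_cancel_right])]⟩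

theorem regData_of_fix (hfix : fix M x = (deg M z + 1) ^ 3 + 1) :
    RegData M z x (base M) P ∧ ∃ β : ℕ, 2 ≤ β ∧ Nat.card (CAt z ({x} : Set G) (base M)) + 1 = 2 ^ β := by
  obtain ⟨β, hβ2, hβ⟩ := h.exists_card_grp
  have hcat : Nat.card (CAt z ({x} : Set G) (base M)) + 1 = 2 ^ β := by
    rw [h.card_cat hF.bad hF.fix_base, hβ]
  obtain ⟨P', hP'⟩ := hS.exists_regData (hloc x (h.isBad hF.bad)) (h.isBad hF.bad) hF.fix_base hcat hβ2
    (show fix M x = _ by rw [hfix, hβ, ← pow_mul])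
  have e : P = P' := Subgroup.ext fun g => (hP.mem g).trans (hP'.mem g).symm
  exact ⟨e ▸ hP', β, hβ2, hcat⟩

/-- The image of the members in the regular two-group modulo the kernel. -/
theorem sqForm_pair (hfix : fix M x = (deg M z + 1) ^ 3 + 1) [((locKer M z x).subgroupOf P).Normal] :
    Shape.SqForm (((h.res.grp (base M)).subgroupOf P).map (QuotientGroup.mk' ((locKer M z x).subgroupOf P))) ∧
      Nat.card (((h.res.grp (base M)).subgroupOf P).map (QuotientGroup.mk' ((locKer M z x).subgroupOf P))) =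
        deg M z + 1 := by
  obtain ⟨hd, β, hβ2, hβ⟩ := h.regData_of_fix hS hloc hF hP hTE hfix
  have h1 := hS.sqForm_quot (hloc x (h.isBad hF.bad)) (h.isBad hF.bad) hF.fix_base hF.ne hF.fix_pt hd hβ hβ2
  rw [h.lineGrp_eq hF.bad hF.fix_base] at h1
  exact ⟨h1.1, by rw [h1.2, ← hβ, h.card_cat hF.bad hF.fix_base]⟩

theorem mem_line_image [((locKer M z x).subgroupOf P).Normal] (c : P) :
    QuotientGroup.mk' ((locKer M z x).subgroupOf P) c ∈
        ((h.res.grp (base M)).subgroupOf P).map (QuotientGroup.mk' ((locKer M z x).subgroupOf P)) ↔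
      ∃ e ∈ h.res.grp (base M), e * (c : G) ∈ locKer M z x := by
  have hle := hP.line_le
  rw [h.lineGrp_eq hF.bad hF.fix_base] at hle
  constructor
  · rintro ⟨⟨e, heP⟩, he, hec⟩
    refine ⟨e, he, ?_⟩
    have h1 : e⁻¹ * (c : G) ∈ locKer M z x := mem_subgroupOf.1 (QuotientGroup.eq.1 hec)
    rwa [inv_eq_of_mul_eq_one_right (h.res.grp_sq (show e ∈ h.res.grp (base M) from he))] at h1
  · rintro ⟨e, he, hec⟩
    refine ⟨⟨e, hle he⟩, he, QuotientGroup.eq.2 (mem_subgroupOf.2 ?_)⟩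
    show e⁻¹ * (c : G) ∈ locKer M z x
    rwa [inv_eq_of_mul_eq_one_right (h.res.grp_sq he)]

/-- The automorphism of an element of `T` on the regular two-group modulo the kernel. -/
theorem exists_pair_aut [((locKer M z x).subgroupOf P).Normal] {t : G} (ht : t ∈ T) (ht2 : t * t ∈ ptwise M z x)
    (htW : t ∉ ptwise M z x) :
    ∃ σ : P ⧸ (locKer M z x).subgroupOf P ≃* P ⧸ (locKer M z x).subgroupOf P,
      (∀ v : P, σ (QuotientGroup.mk' _ v) =
        QuotientGroup.mk' _ ⟨t * v * t⁻¹, regTwo_conj hP (hF.cent t ht) (hF.fix_T t ht).1 v.2⟩) ∧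
      (∀ w, σ (σ w) = w) ∧
      (∀ w ∈ ((h.res.grp (base M)).subgroupOf P).map (QuotientGroup.mk' ((locKer M z x).subgroupOf P)), σ w = w) ∧
      Nat.card {w // σ w = w} = deg M z + 1 := by
  classical
  obtain ⟨hfix, hcount⟩ := h.fix_count hS hloc hF hP hTE ht ht2 htW
  obtain ⟨hd, -⟩ := h.regData_of_fix hS hloc hF hP hTE hfix
  have hxt := hF.cent t ht
  obtain ⟨σ, hσ⟩ := hd.exists_bar_aut hxt (hF.fix_T t ht).1
  obtain ⟨f, hf⟩ := hd.exists_bar_equiv hF.ne hF.fix_pt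
  refine ⟨σ, hσ, fun w => ?_, ?_, ?_⟩
  · induction w using QuotientGroup.induction_on with | _ v => ?_
    show σ (σ (QuotientGroup.mk' _ v)) = QuotientGroup.mk' _ v
    rw [hσ, hσ]
    refine congrArg _ (Subtype.ext ?_)
    show t * (t * (v : G) * t⁻¹) * t⁻¹ = v
    rw [show t * (t * (v : G) * t⁻¹) * t⁻¹ = t * t * v * (t * t)⁻¹ by group,
      (ptwise_loc ht2 ((hP.mem v).1 v.2).1).eq, mul_inv_cancel_right]
  · rintro _ ⟨e, he, rfl⟩
    rw [hσ]
    refine congrArg _ (Subtype.ext ?_)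
    show t * (e : G) * t⁻¹ = e
    rw [(hTE t ht e he).eq, mul_inv_cancel_right]
  · have hfσ : ∀ w, (f (σ w)).1 = t • (f w).1 := by
      intro w
      induction w using QuotientGroup.induction_on with | _ v => ?_
      show (f (σ (QuotientGroup.mk' _ v))).1 = t • (f (QuotientGroup.mk' _ v)).1
      rw [hσ, hf, hf, mul_smul, mul_smul, inv_smul_eq_iff.2 (hF.fix_T t ht).2.symm]
    have h1 : Nat.card {w // σ w = w} + 1 = Nat.card {b : G ⧸ M // x • b = b ∧ t • b = b} := by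
      rw [← Finite.card_option, ← Nat.card_congr (Equiv.optionSubtypeNe
        (⟨base M, hF.fix_base, (hF.fix_T t ht).1⟩ : {b : G ⧸ M // x • b = b ∧ t • b = b}))]
      refine Nat.card_congr (Equiv.optionCongr ((Equiv.subtypeEquiv f (p := fun w => σ w = w)
        (q := fun b => t • b.1 = b.1) fun w => ?_).trans
        { toFun := fun b => ⟨⟨b.1.1, b.1.2.1, b.2⟩, fun e => b.1.2.2 (congrArg Subtype.val e)⟩
          invFun := fun b => ⟨⟨b.1.1, b.1.2.1, fun e => b.2 (Subtype.ext e)⟩, b.1.2.2⟩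
          left_inv := fun _ => rfl
          right_inv := fun _ => rfl }))
      rw [← hfσ w]
      exact ⟨fun e1 => by rw [e1], fun e1 => f.injective (Subtype.ext e1)⟩
    rw [hcount] at h1
    omega

/-- An element of `T` moves much of the regular two-group modulo the members and the kernel. -/
theorem exists_moved_of_sq {t : G} (ht : t ∈ T) (ht2 : t * t ∈ ptwise M z x) (htW : t ∉ ptwise M z x)
    (X : Subgroup G) (hX : ∀ u ∈ P, ∀ u' ∈ P, u ∉ X → u' ∉ X → u * u' ∈ X) :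
    ∃ u ∈ P, u ∈ X ∧ ¬ ∃ e ∈ h.res.grp (base M), e * (t * u * t⁻¹ * u⁻¹) ∈ locKer M z x := by
  classical
  by_contra hh
  push Not at hh
  haveI := h.normal_regKer hS hloc hF hP hTE
  obtain ⟨hfix, -⟩ := h.fix_count hS hloc hF hP hTE ht ht2 htW
  obtain ⟨hQ, hEc⟩ := h.sqForm_pair hS hloc hF hP hTE hfix
  obtain ⟨σ, hσ, -, hσE, hσc⟩ := h.exists_pair_aut hS hloc hF hP hTE ht ht2 htW
  set K' := (locKer M z x).subgroupOf P
  set π := QuotientGroup.mk' K' with hπ
  set Eb := ((h.res.grp (base M)).subgroupOf P).map π with hEb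
  have hle := hQ.card_moved_le σ hσE (hσc.trans hEc.symm)
  set Y := (X.subgroupOf P).map π with hY
  have hY1 : Nat.card Y ≤ Nat.card {w // w⁻¹ * σ w ∈ Eb} := by
    refine Nat.card_le_card_of_injective (fun y => ⟨y.1, ?_⟩) fun y y' e => Subtype.ext (congrArg (fun w : {w // w⁻¹ * σ w ∈ Eb} => w.1) e)
    obtain ⟨⟨u, hu⟩, huX, hy⟩ := y.2
    obtain ⟨e, he, hek⟩ := hh u hu huX
    have h1 : π (⟨t * u * t⁻¹, regTwo_conj hP (hF.cent t ht) (hF.fix_T t ht).1 hu⟩ * (⟨u, hu⟩ : P)⁻¹) ∈ Eb :=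
      (h.mem_line_image hS hloc hF hP hTE _).2 ⟨e, he, hek⟩
    rw [map_mul, map_inv, ← hσ ⟨u, hu⟩, hy] at h1
    rw [show y.1⁻¹ * σ y.1 = y.1⁻¹ * (σ y.1 * y.1⁻¹) * y.1 by group, hQ.comm_E h1, inv_mul_cancel_right]
    exact h1
  have hidx : Y.index ≤ 2 := by
    refine le_trans (Nat.le_of_dvd (Nat.pos_of_ne_zero index_ne_zero_of_finite)
      (index_map_dvd _ (QuotientGroup.mk'_surjective K'))) ?_
    refine le_trans (Nat.card_le_card_of_injective
      (fun q : P ⧸ X.subgroupOf P => decide (q.out ∈ X.subgroupOf P)) fun q q' e => ?_)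
      (show Nat.card Bool ≤ 2 by simp)
    rw [← QuotientGroup.out_eq' q, ← QuotientGroup.out_eq' q', QuotientGroup.eq]
    simp only [decide_eq_decide] at e
    by_cases hq : q.out ∈ X.subgroupOf P
    · exact mul_mem (inv_mem hq) (e.1 hq)
    · exact mem_subgroupOf.2 (hX _ (P.inv_mem q.out.2) _ q'.out.2
        (fun hh' => hq (mem_subgroupOf.2 (by simpa using hh')))
        fun hh' => hq (e.2 (mem_subgroupOf.2 hh')))
  have h3 := Y.index_mul_card
  rw [hQ.card_eq, hEc] at h3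
  rw [hEc] at hle
  have h4 : Y.index * Nat.card Y ≤ 2 * (deg M z + 1) ^ 2 := Nat.mul_le_mul hidx (hY1.trans hle)
  rw [h3] at h4
  have h2d := h.two_le
  nlinarith

/-- A power of an element outside the pointwise part whose square lies in it. -/
theorem exists_root_pow {t : G} (ht : t ∈ T) (htW : t ∉ ptwise M z x) :
    ∃ j : ℕ, t ^ 2 ^ j ∉ ptwise M z x ∧ t ^ 2 ^ j * t ^ 2 ^ j ∈ ptwise M z x := by
  classical
  obtain ⟨n, hn⟩ := hF.two ⟨t, ht⟩
  have hn' : t ^ 2 ^ n ∈ ptwise M z x := by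
    rw [show t ^ 2 ^ n = 1 from congrArg Subtype.val hn]; exact one_mem _
  clear hn
  induction n with
  | zero => exact absurd (by simpa using hn') htW
  | succ n ih =>
    by_cases h1 : t ^ 2 ^ n ∈ ptwise M z x
    · exact ih h1
    · exact ⟨n, h1, by rwa [← pow_add, ← two_mul, ← pow_succ']⟩

/-- **Two elements outside the pointwise part multiply into it.** -/
theorem mul_mem_ptwise {t₁ t₂ : G} (h1 : t₁ ∈ T) (h2 : t₂ ∈ T) (h1W : t₁ ∉ ptwise M z x)
    (h2W : t₂ ∉ ptwise M z x) : t₁ * t₂ ∈ ptwise M z x := by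
  classical
  by_contra h3W
  haveI hn := h.normal_regKer hS hloc hF hP hTE
  obtain ⟨j, hj1, hj2⟩ := h.exists_root_pow hS hloc hF hP hTE h1 h1W
  obtain ⟨hfix, -⟩ := h.fix_count hS hloc hF hP hTE (pow_mem h1 _) hj2 hj1
  obtain ⟨hQ, hEc⟩ := h.sqForm_pair hS hloc hF hP hTE hfix
  obtain ⟨hd, -⟩ := h.regData_of_fix hS hloc hF hP hTE hfix
  set K' := (locKer M z x).subgroupOf P
  set π := QuotientGroup.mk' K' with hπ
  set Eb := ((h.res.grp (base M)).subgroupOf P).map π with hEb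
  haveI hEn : Eb.Normal := ⟨fun e he g => by rwa [hQ.comm_E he g, mul_inv_cancel_right]⟩
  -- the automorphisms from `T`
  have haut : ∀ t : T, ∃ σ : (P ⧸ K') ⧸ Eb ≃* (P ⧸ K') ⧸ Eb, ∀ v : P, σ (π v : (P ⧸ K') ⧸ Eb) =
      (π ⟨(t : G) * v * (t : G)⁻¹, regTwo_conj hP (hF.cent t t.2) (hF.fix_T t t.2).1 v.2⟩ : (P ⧸ K') ⧸ Eb) := by
    intro t
    obtain ⟨σ, hσ⟩ := hd.exists_bar_aut (hF.cent t t.2) (hF.fix_T t t.2).1
    have hfixE : ∀ w ∈ Eb, σ w = w := by
      rintro _ ⟨e, he, rfl⟩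
      rw [hσ]
      refine congrArg _ (Subtype.ext ?_)
      show (t : G) * (e : G) * (t : G)⁻¹ = e
      rw [(hTE t t.2 e he).eq, mul_inv_cancel_right]
    refine ⟨QuotientGroup.congr Eb Eb σ (le_antisymm ?_ fun w hw => ⟨w, hw, hfixE w hw⟩), fun v => ?_⟩
    · rintro _ ⟨w, hw, rfl⟩
      show σ w ∈ Eb
      rwa [hfixE w hw]
    · rw [← hσ v]; rfl
  choose σ hσ using haut
  let ρ : T →* MulAut ((P ⧸ K') ⧸ Eb) :=
    { toFun := σ
      map_one' := MulEquiv.ext fun ξ => by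
        induction ξ using QuotientGroup.induction_on with | _ w => ?_
        obtain ⟨v, rfl⟩ := QuotientGroup.mk'_surjective K' w
        show σ 1 (π v : (P ⧸ K') ⧸ Eb) = _
        rw [hσ]
        exact congrArg (fun v : P => ((π v : P ⧸ K') : (P ⧸ K') ⧸ Eb)) (Subtype.ext (by simp))
      map_mul' := fun s t => MulEquiv.ext fun ξ => by
        induction ξ using QuotientGroup.induction_on with | _ w => ?_
        obtain ⟨v, rfl⟩ := QuotientGroup.mk'_surjective K' w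
        show σ (s * t) (π v : (P ⧸ K') ⧸ Eb) = σ s (σ t (π v : (P ⧸ K') ⧸ Eb))
        rw [hσ, hσ, hσ]
        exact congrArg (fun v : P => ((π v : P ⧸ K') : (P ⧸ K') ⧸ Eb)) (Subtype.ext (by simp [mul_assoc])) }
  -- only the pointwise part acts trivially
  have hker : ∀ t : T, (t : G) ∉ ptwise M z x → ρ t ≠ 1 := by
    intro t htW ht1
    obtain ⟨i, hi1, hi2⟩ := h.exists_root_pow hS hloc hF hP hTE t.2 htW
    obtain ⟨u, hu, -, hne⟩ := h.exists_moved_of_sq hS hloc hF hP hTE (pow_mem t.2 _) hi2 hi1 ⊤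
      (fun _ _ _ _ _ _ => mem_top _)
    have h4 : ρ (t ^ 2 ^ i) = 1 := by rw [map_pow, ht1, one_pow]
    have h5 : ρ (t ^ 2 ^ i) (π ⟨u, hu⟩ : (P ⧸ K') ⧸ Eb) = (π ⟨u, hu⟩ : (P ⧸ K') ⧸ Eb) := by rw [h4]; rfl
    have h6 := (hσ (t ^ 2 ^ i) ⟨u, hu⟩).symm.trans h5
    rw [eq_comm, QuotientGroup.eq, ← map_inv, ← map_mul, h.mem_line_image hS hloc hF hP hTE] at h6
    obtain ⟨e, he, hek⟩ := h6
    obtain ⟨e', he', hek'⟩ : ∃ e' ∈ h.res.grp (base M),
        e' * (((t ^ 2 ^ i : T) : G) * u * ((t ^ 2 ^ i : T) : G)⁻¹ * u⁻¹) ∈ locKer M z x := by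
      refine ⟨e, he, ?_⟩
      have hc : Commute u e := (hP.comm e (by rw [h.lineGrp_eq hF.bad hF.fix_base]; exact he) u hu).symm
      have hk := (hloc x (h.isBad hF.bad)).ker_comm _ hek u ((hP.mem u).1 hu).1
      have e1 : u * (e * (u⁻¹ * (((t ^ 2 ^ i : T) : G) * u * ((t ^ 2 ^ i : T) : G)⁻¹))) * u⁻¹ =
          e * (((t ^ 2 ^ i : T) : G) * u * ((t ^ 2 ^ i : T) : G)⁻¹ * u⁻¹) := by
        rw [← mul_assoc u e, hc.eq]; group
      rw [← e1]
      change Commute (e * (u⁻¹ * (((t ^ 2 ^ i : T) : G) * u * ((t ^ 2 ^ i : T) : G)⁻¹))) u at hk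
      rw [← hk.eq, mul_inv_cancel_right]
      exact hek
    exact hne ⟨e', he', by simpa using hek'⟩
  -- the square map
  have hsqw : ∀ w : P ⧸ K', ∀ d ∈ Eb, w * d * (w * d) = w * w := fun w d hd' => by
    rw [(show Commute w d from hQ.comm_E hd' w).symm.mul_mul_mul_comm, hQ.elem d hd', mul_one]
  let f : (P ⧸ K') ⧸ Eb → Eb := fun ξ =>
    Quotient.liftOn' ξ (fun w => (⟨w * w, hQ.sq w⟩ : Eb)) fun w w' hw => by
      refine Subtype.ext ?_
      have hd' := QuotientGroup.leftRel_apply.1 hw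
      show w * w = w' * w'
      rw [← hsqw w _ hd', mul_inv_cancel_left]
  have hf : ∀ w : P ⧸ K', f (w : (P ⧸ K') ⧸ Eb) = ⟨w * w, hQ.sq w⟩ := fun w => rfl
  have hEelem : ∀ e : Eb, e * e = 1 := fun e => Subtype.ext (hQ.elem _ e.2)
  have hV : ∀ ξ : (P ⧸ K') ⧸ Eb, ξ * ξ = 1 := fun ξ => by
    induction ξ using QuotientGroup.induction_on with | _ w => ?_
    exact (QuotientGroup.eq_one_iff _).2 (hQ.sq w)
  have hEbpos : 0 < Nat.card Eb := Nat.card_pos
  have hle : Nat.card ((P ⧸ K') ⧸ Eb) ≤ Nat.card Eb ^ 2 := by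
    have h4 := Eb.index_mul_card
    rw [hQ.card_eq] at h4
    rw [← index_eq_card]
    exact le_of_eq (Nat.eq_of_mul_eq_mul_right hEbpos (h4.trans (by ring)))
  have hzero : ∀ ξ, f ξ = 1 → ξ = 1 := fun ξ => by
    induction ξ using QuotientGroup.induction_on with | _ w => ?_
    exact fun e1 => (QuotientGroup.eq_one_iff _).2 (hQ.invol w (congrArg Subtype.val e1))
  have hdef : ∀ v w : P ⧸ K', Shape.defect f (v : (P ⧸ K') ⧸ Eb) w = hQ.br v w := fun v w => by
    have hc : ∀ a b : Eb, a * b = b * a := fun a b => Subtype.ext (hQ.comm_E b.2 a)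
    have e0 : ∀ a b c : Eb, a * (b * c) * a * b = c := fun a b c => by
      rw [hc a (b * c), mul_assoc (b * c) a a, hEelem, mul_one, hc b c, mul_assoc, hEelem, mul_one]
    show f ((v * w : P ⧸ K') : (P ⧸ K') ⧸ Eb) * f v * f w = _
    rw [hf, hf, hf, hQ.sq_mul]
    exact e0 _ _ _
  have hB : ∀ ξ η ζ, Shape.defect f (ξ * η) ζ = Shape.defect f ξ ζ * Shape.defect f η ζ := fun ξ η ζ => by
    induction ξ using QuotientGroup.induction_on with | _ v => ?_
    induction η using QuotientGroup.induction_on with | _ w => ?_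
    induction ζ using QuotientGroup.induction_on with | _ y => ?_
    rw [← QuotientGroup.mk_mul, hdef, hdef, hdef, hQ.br_mul_left]
  refine Shape.no_two_in_image (ρ := ρ) (f := f) hV hEelem hQ.four_le hle hzero hB hF.two ?_ ?_
    (g₁ := ⟨t₁, h1⟩) (g₂ := ⟨t₂, h2⟩) (hker _ h1W) (hker _ h2W) (hker _ h3W)
  · intro t ξ
    induction ξ using QuotientGroup.induction_on with | _ w => ?_
    obtain ⟨v, rfl⟩ := QuotientGroup.mk'_surjective K' w
    show f (σ t (π v : (P ⧸ K') ⧸ Eb)) = f (π v : (P ⧸ K') ⧸ Eb)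
    rw [hσ, hf, hf]
    refine Subtype.ext ?_
    show π _ * π _ = π v * π v
    rw [← map_mul, ← map_mul]
    obtain ⟨e, he, hek⟩ := hP.sq v v.2
    rw [h.lineGrp_eq hF.bad hF.fix_base] at he
    refine QuotientGroup.eq.2 (mem_subgroupOf.2 ?_)
    show ((t : G) * v * (t : G)⁻¹ * ((t : G) * v * (t : G)⁻¹))⁻¹ * ((v : G) * v) ∈ locKer M z x
    have hk' : (t : G) * (e * ((v : G) * v)) * (t : G)⁻¹ ∈ locKer M z x := by
      refine mem_locKer.2 ⟨?_, fun b hb => ?_⟩
      · exact ((hP.mem _).1 (regTwo_conj hP (hF.cent t t.2) (hF.fix_T t t.2).1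
          (mul_mem (hP.line_le (by rw [h.lineGrp_eq hF.bad hF.fix_base]; exact he)) (mul_mem v.2 v.2)))).1
      · rw [mul_smul, mul_smul, (mem_locKer.1 hek).2 _ (smul_mem_fix (hF.cent t t.2).inv_right hb),
          smul_inv_smul]
    have e1 : (t : G) * (e * ((v : G) * v)) * (t : G)⁻¹ = e * ((t : G) * v * (t : G)⁻¹ * ((t : G) * v * (t : G)⁻¹)) := by
      rw [← mul_assoc (t : G) e, (hTE t t.2 e he).eq]; group
    rw [e1] at hk'
    have := mul_mem (inv_mem hk') hek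
    rwa [mul_inv_rev, mul_assoc, inv_mul_cancel_left] at this
  · rintro ⟨_, ⟨e, he⟩, he', rfl⟩ ⟨_, ⟨e', he''⟩, he''', rfl⟩ hne hne'
    obtain ⟨c, hcp, hcT, hce⟩ := h.exists_torus_elem hS hloc hF hP hTE he' he'''
      (fun e1 => hne (Subtype.ext ((congrArg π (Subtype.ext e1 : (⟨e, he⟩ : P) = 1)).trans (map_one π))))
      (fun e1 => hne' (Subtype.ext ((congrArg π (Subtype.ext e1 : (⟨e', he''⟩ : P) = 1)).trans (map_one π))))
    have hxc : Commute x c := hcT x hF.self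
    obtain ⟨σc, hσc⟩ := hd.exists_bar_aut hxc hcp
    have hmap : Eb.map σc.toMonoidHom = Eb := by
      refine eq_of_le_of_card_ge ?_ (le_of_eq (card_map_of_injective σc.injective).symm)
      rintro _ ⟨_, ⟨d, hd', rfl⟩, rfl⟩
      show σc (π d) ∈ Eb
      rw [hσc]
      exact ⟨_, h.res.grp_conj hcp hd', rfl⟩
    refine ⟨QuotientGroup.congr Eb Eb σc hmap, (σc.subgroupMap Eb).trans (MulEquiv.subgroupCongr hmap), ?_, ?_, ?_, ?_⟩
    · intro ξ
      induction ξ using QuotientGroup.induction_on with | _ w => ?_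
      exact Subtype.ext (map_mul σc w w).symm
    · refine Subtype.ext ?_
      show σc (π ⟨e, he⟩) = π ⟨e', he''⟩
      rw [hσc]
      exact congrArg π (Subtype.ext hce)
    all_goals
      intro t
      refine ⟨t, fun ξ => ?_⟩
      induction ξ using QuotientGroup.induction_on with | _ w => ?_
      obtain ⟨v, rfl⟩ := QuotientGroup.mk'_surjective K' w
      show σ t (σc (π v) : (P ⧸ K') ⧸ Eb) = QuotientGroup.congr Eb Eb σc hmap (σ t (π v : (P ⧸ K') ⧸ Eb))
      rw [hσc, hσ, hσ]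
      show _ = ((σc (π _) : P ⧸ K') : (P ⧸ K') ⧸ Eb)
      rw [hσc]
      refine congrArg (fun v : P => ((π v : P ⧸ K') : (P ⧸ K') ⧸ Eb)) (Subtype.ext ?_)
      show (t : G) * (c * (v : G) * c⁻¹) * (t : G)⁻¹ = c * ((t : G) * v * (t : G)⁻¹) * c⁻¹
      have hc := hcT t t.2
      calc (t : G) * (c * (v : G) * c⁻¹) * (t : G)⁻¹ = (t : G) * c * v * ((t : G) * c)⁻¹ := by group
        _ = c * (t : G) * v * (c * (t : G))⁻¹ := by rw [hc.eq]
        _ = _ := by group

/-- An element of `T` outside the pointwise part moves much of the regular two-group. -/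
theorem exists_moved {t : G} (ht : t ∈ T) (htW : t ∉ ptwise M z x)
    (X : Subgroup G) (hX : ∀ u ∈ P, ∀ u' ∈ P, u ∉ X → u' ∉ X → u * u' ∈ X) :
    ∃ u ∈ P, u ∈ X ∧ ¬ ∃ e ∈ h.res.grp (base M), e * (t * u * t⁻¹ * u⁻¹) ∈ locKer M z x :=
  h.exists_moved_of_sq hS hloc hF hP hTE ht (h.mul_mem_ptwise hS hloc hF hP hTE ht ht htW htW) htW X hX

/-- **No twisted root of a member.** -/
theorem twist_eq_one {t v e : G} (ht : t ∈ T) (htW : t ∉ ptwise M z x) (hv : v ∈ P)
    (he : e ∈ h.res.grp (base M)) (hk : e * (v * (t * v * t⁻¹)) ∈ locKer M z x) : e = 1 := by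
  haveI := h.normal_regKer hS hloc hF hP hTE
  have ht2 := h.mul_mem_ptwise hS hloc hF hP hTE ht ht htW htW
  obtain ⟨hfix, -⟩ := h.fix_count hS hloc hF hP hTE ht ht2 htW
  obtain ⟨hQ, hEc⟩ := h.sqForm_pair hS hloc hF hP hTE hfix
  obtain ⟨σ, hσ, hσσ, hσE, hσc⟩ := h.exists_pair_aut hS hloc hF hP hTE ht ht2 htW
  have heP : e ∈ P := hP.line_le (by rw [h.lineGrp_eq hF.bad hF.fix_base]; exact he)
  set π := QuotientGroup.mk' ((locKer M z x).subgroupOf P) with hπ
  have h1 : π ⟨e, heP⟩ = 1 := by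
    refine hQ.twist_false σ hσσ hσE (hσc.trans hEc.symm) ⟨⟨e, heP⟩, he, rfl⟩ (v := π ⟨v, hv⟩) ?_
    rw [hσ, ← map_mul, eq_comm]
    refine QuotientGroup.eq.2 (mem_subgroupOf.2 ?_)
    show e⁻¹ * (v * (t * v * t⁻¹)) ∈ locKer M z x
    rwa [inv_eq_of_mul_eq_one_right (h.res.grp_sq he)]
  exact h.eq_one_of_grp_fix he hF.ne
    ((mem_locKer.1 (mem_subgroupOf.1 ((QuotientGroup.eq_one_iff _).1 h1))).2 a hF.fix_pt)

/-- Commuting with half of the regular two-group. -/
theorem mem_line_of_half (hfix : fix M x = (deg M z + 1) ^ 3 + 1) {v : G} (hv : v ∈ P) (X : Subgroup G)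
    (hX : ∀ u ∈ P, ∀ u' ∈ P, u ∉ X → u' ∉ X → u * u' ∈ X) (hvX : ∀ u ∈ P, u ∈ X → Commute v u) :
    ∃ e ∈ h.res.grp (base M), e * v ∈ locKer M z x := by
  classical
  haveI := h.normal_regKer hS hloc hF hP hTE
  obtain ⟨hQ, hEc⟩ := h.sqForm_pair hS hloc hF hP hTE hfix
  set π := QuotientGroup.mk' ((locKer M z x).subgroupOf P) with hπ
  set Eb := ((h.res.grp (base M)).subgroupOf P).map π
  have hbr1 : ∀ u : P, (u : G) ∈ X → hQ.br (π u) (π ⟨v, hv⟩) = 1 := fun u hu => Subtype.ext (by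
    show π u * π ⟨v, hv⟩ * (π u)⁻¹ * (π ⟨v, hv⟩)⁻¹ = 1
    rw [← map_inv, ← map_inv, ← map_mul, ← map_mul, ← map_mul, ← map_one π]
    refine congrArg π (Subtype.ext ?_)
    show (u : G) * v * (u : G)⁻¹ * v⁻¹ = 1
    rw [← (hvX u u.2 hu).eq, mul_inv_cancel_right, mul_inv_cancel])
  -- one value outside `X`
  obtain ⟨ε, hε⟩ : ∃ ε : Eb, ∀ u : P, hQ.br (π u) (π ⟨v, hv⟩) = 1 ∨ hQ.br (π u) (π ⟨v, hv⟩) = ε := by
    by_cases hall : ∀ u : P, (u : G) ∈ X
    · exact ⟨1, fun u => Or.inl (hbr1 u (hall u))⟩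
    push Not at hall
    obtain ⟨u₀, hu₀⟩ := hall
    refine ⟨hQ.br (π u₀) (π ⟨v, hv⟩), fun u => ?_⟩
    by_cases hu : (u : G) ∈ X
    · exact Or.inl (hbr1 u hu)
    · refine Or.inr ?_
      have h1 := hbr1 (u * u₀) (hX u u.2 u₀ u₀.2 hu hu₀)
      rw [map_mul, hQ.br_mul_left] at h1
      rw [eq_inv_of_mul_eq_one_left h1]
      exact Subtype.ext (hQ.inv_E (hQ.br (π u₀) (π ⟨v, hv⟩)).2)
  haveI : Nontrivial Eb := Finite.one_lt_card_iff_nontrivial.1 (by have := hQ.four_le; omega)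
  obtain ⟨ε', hε'1, hε'⟩ : ∃ ε' : Eb, ε' ≠ 1 ∧ ∀ u : P, hQ.br (π u) (π ⟨v, hv⟩) = 1 ∨ hQ.br (π u) (π ⟨v, hv⟩) = ε' := by
    by_cases h1 : ε = 1
    · obtain ⟨ε', hε'⟩ := exists_ne (1 : Eb)
      exact ⟨ε', hε', fun u => Or.inl ((hε u).elim id fun e1 => e1.trans h1)⟩
    · exact ⟨ε, h1, hε⟩
  obtain ⟨L, hL, hεL⟩ := hQ.exists_index_two hε'1
  refine (h.mem_line_image hS hloc hF hP hTE ⟨v, hv⟩).1 (hQ.rad_le hL fun w => ?_)
  obtain ⟨u, rfl⟩ := QuotientGroup.mk'_surjective _ w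
  rcases hε' u with e1 | e1 <;> rw [e1]
  · exact one_mem L
  · exact hεL

end CfsgLib.SECrit.Eq.EqRes
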