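import Cfsg.Agent.Lib.Invol.SECriterion.EqType.Big.Half
import Cfsg.Agent.Lib.Invol.SECriterion.EqType.OneClass
import Cfsg.Agent.S0205

/-!
# The strong embedding criterion, equal type with many fixed points: one central class

The elements of `S` central modulo `E` with squares in `E` form, modulo `E`, a space with the commutator as
form into `E`.  If only `E` and `E x` hold such involutions commuting with `x`, the orbit lemma shows that an
element normalizing `S` keeps the coset of `x`.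
-/

set_option autoImplicit false
set_option linter.style.haveILetI false

namespace CfsgLib.SECrit.Eq

open CfsgLib.Invol Small Subgroup

universe u

variable {G : Type u} [Group G] [Finite G] {M : Subgroup G} {z : G}

/-- A linear automorphism from an automorphism of a group of exponent two. -/
def linOfMulAut {V : Type*} [CommGroup V] [Module (ZMod 2) (Additive V)] :
    MulAut V →* (Additive V ≃ₗ[ZMod 2] Additive V) where
  toFun f := { MulEquiv.toAdditive f with map_smul' := ZMod.map_smul (MulEquiv.toAdditive f) }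
  map_one' := LinearEquiv.ext fun _ => rfl
  map_mul' _ _ := LinearEquiv.ext fun _ => rfl

/-- The elements at the point normalizing `S`. -/
def normS (M : Subgroup G) (S : Subgroup G) : Subgroup G where
  carrier := {r | r • base M = base M ∧ (∀ g ∈ S, r * g * r⁻¹ ∈ S) ∧ ∀ g ∈ S, r⁻¹ * g * r ∈ S}
  one_mem' := ⟨one_smul _ _, by simp, by simp⟩
  mul_mem' {r s} hr hs := ⟨by rw [mul_smul, hs.1, hr.1], fun g hg => by
      rw [show r * s * g * (r * s)⁻¹ = r * (s * g * s⁻¹) * r⁻¹ by group]; exact hr.2.1 _ (hs.2.1 g hg),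
    fun g hg => by
      rw [show (r * s)⁻¹ * g * (r * s) = s⁻¹ * (r⁻¹ * g * r) * s by group]; exact hs.2.2 _ (hr.2.2 g hg)⟩
  inv_mem' {r} hr := ⟨inv_smul_eq_iff.2 hr.1.symm, by simpa using hr.2.2, by simpa using hr.2.1⟩

namespace EqRes.Sylo

variable {h : EqRes M z} {x : G} {a : G ⧸ M} {T P S : Subgroup G} (hY : h.Sylo x a T P S)
include hY

/-- A two-element normalizing `S` at the point lies in it. -/
theorem mem_of_normalizes {r : G} (hrp : r • base M = base M) (hrS : ∀ g ∈ S, r * g * r⁻¹ ∈ S) {k : ℕ}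
    (hrk : r ^ 2 ^ k = 1) : r ∈ S := by
  haveI : Fact (Nat.Prime 2) := ⟨Nat.prime_two⟩
  have hmap : S.map (MulAut.conj r).toMonoidHom = S := eq_of_le_of_card_ge
    (by rintro _ ⟨g, hg, rfl⟩; exact hrS g hg) (card_map_of_injective (MulAut.conj r).injective).ge
  have hn : zpowers r ≤ normalizer (S : Set G) := zpowers_le.2 (mem_normalizer_iff_map_conj_eq.2 hmap)
  have h2 : IsPGroup 2 (zpowers r ⊔ S : Subgroup G) :=
    IsPGroup.to_sup_of_normal_right' (isPGroup_zpowers_two hrk) hY.two hn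
  have hfix : ∀ g ∈ zpowers r ⊔ S, g • base M = base M := fun g hg => MulAction.mem_stabilizer_iff.1
    ((_root_.sup_le (zpowers_le.2 (MulAction.mem_stabilizer_iff.2 hrp)) fun u hu =>
      MulAction.mem_stabilizer_iff.2 (hY.smul u hu)) hg)
  rw [eq_of_le_of_card_ge (le_sup_right : S ≤ zpowers r ⊔ S) (hY.max _ h2 hfix)]
  exact mem_sup_left (mem_zpowers r)

theorem mem_normS {r : G} (hrp : r • base M = base M) (hrS : ∀ g ∈ S, r * g * r⁻¹ ∈ S) : r ∈ normS M S := by
  refine ⟨hrp, hrS, fun g hg => ?_⟩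
  obtain ⟨k, hk⟩ := Finite.surjective_of_injective (f := fun u : S => (⟨r * u * r⁻¹, hrS u u.2⟩ : S))
    (fun u v huv => Subtype.ext (mul_left_cancel (mul_right_cancel (congrArg Subtype.val huv)))) ⟨g, hg⟩
  have h1 : r * (k : G) * r⁻¹ = g := congrArg Subtype.val hk
  rw [← h1, show r⁻¹ * (r * (k : G) * r⁻¹) * r = k by group]
  exact k.2

/-- **One central class.** -/
theorem fix_of_single (_hS : Setup M z) {c : G} (hc : h.Tor x T S c)
    (hsingle : ∀ y ∈ S, Commute x y → (∀ g ∈ S, g * y * g⁻¹ * y⁻¹ ∈ h.res.grp (base M)) →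
      ∃ v ∈ P, y = v ∨ y = v * x)
    (hPK : ∀ v ∈ P, v ∈ locKer M z x → v = 1 ∨ v = x) {m : G} (hm : m • base M = base M)
    (hmS : ∀ g ∈ S, m * g * m⁻¹ ∈ S) : m * x * m⁻¹ * x ∈ h.res.grp (base M) := by
  classical
  haveI : Fact (Nat.Prime 2) := ⟨Nat.prime_two⟩
  set E := h.res.grp (base M) with hE
  have hxb := hY.frame.bad
  have hx2 := invol_mul_self hxb.invol
  have hxi := invol_inv hxb.invol
  -- commutators with an element central modulo `E`
  let IsC : G → Prop := fun y => y ∈ S ∧ (∀ g ∈ S, g * y * g⁻¹ * y⁻¹ ∈ E) ∧ y * y ∈ E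
  have hcomE : ∀ y, IsC y → ∀ g ∈ S, g * y * g⁻¹ = g * y * g⁻¹ * y⁻¹ * y := fun y _ g _ =>
    (inv_mul_cancel_right _ _).symm
  let Z : Subgroup G :=
    { carrier := {y | IsC y}
      one_mem' := ⟨one_mem _, by simp, by simp⟩
      mul_mem' := by
        intro y w hy hw
        refine ⟨S.mul_mem hy.1 hw.1, fun g hg => ?_, ?_⟩
        · rw [show g * (y * w) * g⁻¹ * (y * w)⁻¹ = g * y * g⁻¹ * (g * w * g⁻¹ * w⁻¹) * y⁻¹ by group,
            mul_assoc _ _ y⁻¹, ← (hY.centE y⁻¹ (inv_mem hy.1) _ (hw.2.1 g hg)).eq, ← mul_assoc]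
          exact mul_mem (hy.2.1 g hg) (hw.2.1 g hg)
        · rw [show y * w * (y * w) = y * (w * y * w⁻¹ * y⁻¹) * y * (w * w) by group,
            (hY.centE y hy.1 _ (hy.2.1 w hw.1)).eq, mul_assoc (w * y * w⁻¹ * y⁻¹)]
          exact mul_mem (mul_mem (hy.2.1 w hw.1) hy.2.2) hw.2.2
      inv_mem' := by
        intro y hy
        refine ⟨inv_mem hy.1, fun g hg => ?_, ?_⟩
        · rw [show g * y⁻¹ * g⁻¹ * y⁻¹⁻¹ = y⁻¹ * (g * y * g⁻¹ * y⁻¹)⁻¹ * y by group,
            (hY.centE y⁻¹ (inv_mem hy.1) _ (inv_mem (hy.2.1 g hg))).eq, inv_mul_cancel_right]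
          exact inv_mem (hy.2.1 g hg)
        · rw [← mul_inv_rev]; exact inv_mem hy.2.2 }
  have hEZ : E ≤ Z := fun e he => ⟨hY.grp_le he, fun g hg => by
    rw [(hY.centE g hg e he).eq, mul_inv_cancel_right, mul_inv_cancel]; exact one_mem _,
    by rw [h.res.grp_sq he]; exact one_mem _⟩
  have hxZ : x ∈ Z := ⟨hY.T_le hY.frame.self, fun g hg => by rw [hxi]; exact hY.coset g hg,
    by rw [hx2]; exact one_mem _⟩
  set N0 := E.subgroupOf Z with hN0
  haveI : N0.Normal := ⟨fun e he g => by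
    rw [hN0, mem_subgroupOf]
    show (g : G) * e * (g : G)⁻¹ ∈ E
    rw [(hY.centE g g.2.1 (e : G) (mem_subgroupOf.1 he)).eq, mul_inv_cancel_right]
    exact mem_subgroupOf.1 he⟩
  let V := Z ⧸ N0
  have hV : ∀ u : V, u * u = 1 := fun u => by
    induction u using QuotientGroup.induction_on with
    | H g => rw [← QuotientGroup.mk_mul, QuotientGroup.eq_one_iff]; exact g.2.2.2
  have hVc : ∀ u v : V, u * v = v * u := fun u v => by
    calc u * v = (u * v)⁻¹ := (inv_eq_of_mul_eq_one_left (hV _)).symm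
      _ = v * u := by rw [mul_inv_rev, inv_eq_of_mul_eq_one_left (hV u), inv_eq_of_mul_eq_one_left (hV v)]
  letI : CommGroup V := { (inferInstance : Group V) with mul_comm := hVc }
  letI : CommGroup E := { (inferInstance : Group E) with
    mul_comm := fun e f => Subtype.ext (h.res.grp_commute e.2 f.2).eq }
  letI : Module (ZMod 2) (Additive V) := AddCommGroup.zmodModule fun u => by
    rw [two_nsmul]; exact congrArg Additive.ofMul (hV u.toMul)
  letI : Module (ZMod 2) (Additive E) := AddCommGroup.zmodModule fun u => by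
    rw [two_nsmul]; exact congrArg Additive.ofMul (Subtype.ext (h.res.grp_sq u.toMul.2))
  -- the form
  let β0 : Z → Z → E := fun y w => ⟨(y : G) * w * (y : G)⁻¹ * (w : G)⁻¹, w.2.2.1 y y.2.1⟩
  have hβl : ∀ y y' w : Z, β0 (y * y') w = β0 y w * β0 y' w := fun y y' w => Subtype.ext (by
    show (y : G) * y' * w * ((y : G) * y')⁻¹ * (w : G)⁻¹ = (β0 y w : G) * (β0 y' w : G)
    rw [show (y : G) * y' * w * ((y : G) * y')⁻¹ * (w : G)⁻¹ =
      (y : G) * (β0 y' w : G) * (y : G)⁻¹ * ((y : G) * w * (y : G)⁻¹ * (w : G)⁻¹) by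
        simp only [β0]; group]
    rw [(hY.centE y y.2.1 _ (β0 y' w).2).eq, mul_inv_cancel_right]
    exact (h.res.grp_commute (β0 y' w).2 (β0 y w).2).eq)
  have hβr : ∀ y w w' : Z, β0 y (w * w') = β0 y w * β0 y w' := fun y w w' => Subtype.ext (by
    show (y : G) * (w * w') * (y : G)⁻¹ * ((w : G) * w')⁻¹ = (β0 y w : G) * (β0 y w' : G)
    rw [show (y : G) * (w * w') * (y : G)⁻¹ * ((w : G) * w')⁻¹ =
      (y : G) * w * (y : G)⁻¹ * (β0 y w' : G) * (w : G)⁻¹ by simp only [β0]; group]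
    rw [mul_assoc _ _ (w : G)⁻¹, ← (hY.centE _ (inv_mem w.2.1) _ (β0 y w').2).eq, ← mul_assoc])
  have hβel : ∀ y w : Z, (y : G) ∈ E → β0 y w = 1 := fun y w hy => Subtype.ext (by
    show (y : G) * w * (y : G)⁻¹ * (w : G)⁻¹ = 1
    rw [← (hY.centE w w.2.1 _ hy).eq, mul_inv_cancel_right, mul_inv_cancel])
  have hβer : ∀ y w : Z, (w : G) ∈ E → β0 y w = 1 := fun y w hw => Subtype.ext (by
    show (y : G) * w * (y : G)⁻¹ * (w : G)⁻¹ = 1
    rw [(hY.centE y y.2.1 _ hw).eq, mul_inv_cancel_right, mul_inv_cancel])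
  let β1 : Z → V →* E := fun y => QuotientGroup.lift N0 (MonoidHom.mk' (β0 y) (hβr y))
    fun w hw => hβer y w (mem_subgroupOf.1 hw)
  have hβ1 : ∀ y w : Z, β1 y (w : V) = β0 y w := fun _ _ => rfl
  let β2 : V →* (V →* E) := QuotientGroup.lift N0
    (MonoidHom.mk' β1 fun y y' => MonoidHom.ext fun v => by
      induction v using QuotientGroup.induction_on with
      | H w => exact hβl y y' w)
    fun y hy => MonoidHom.ext fun v => by
      induction v using QuotientGroup.induction_on with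
      | H w => exact hβel y w (mem_subgroupOf.1 hy)
  have hβ2 : ∀ y w : Z, β2 (y : V) (w : V) = β0 y w := fun _ _ => rfl
  let B : Additive V →ₗ[ZMod 2] Additive V →ₗ[ZMod 2] Additive E :=
    AddMonoidHom.toZModLinearMap 2
      (AddMonoidHom.mk' (fun u => AddMonoidHom.toZModLinearMap 2 (MonoidHom.toAdditive (β2 u.toMul))) fun u v =>
        LinearMap.ext fun w => congrArg Additive.ofMul (DFunLike.congr_fun (map_mul β2 u.toMul v.toMul) w.toMul))
  have hBapp : ∀ y w : Z, B (Additive.ofMul (y : V)) (Additive.ofMul (w : V)) = Additive.ofMul (β0 y w) :=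
    fun _ _ => rfl
  -- the action of the normalizer
  set R := normS M S with hR
  have hRZ : ∀ (r : G), r ∈ R → ∀ y ∈ Z, r * y * r⁻¹ ∈ Z := fun r hr y hy => by
    refine ⟨hr.2.1 y hy.1, fun g hg => ?_, ?_⟩
    · have h1 := h.conj_mem hr.1 (hy.2.1 _ (hr.2.2 g hg))
      rwa [show r * (r⁻¹ * g * r * y * (r⁻¹ * g * r)⁻¹ * y⁻¹) * r⁻¹ =
        g * (r * y * r⁻¹) * g⁻¹ * (r * y * r⁻¹)⁻¹ by group] at h1
    · rw [show r * y * r⁻¹ * (r * y * r⁻¹) = r * (y * y) * r⁻¹ by group]
      exact h.conj_mem hr.1 hy.2.2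
  let cz : R → (Z →* Z) := fun r =>
    MonoidHom.mk' (fun y => ⟨(r : G) * y * (r : G)⁻¹, hRZ r r.2 y y.2⟩) fun y w => Subtype.ext (by
      show (r : G) * (y * w) * (r : G)⁻¹ = (r : G) * y * (r : G)⁻¹ * ((r : G) * w * (r : G)⁻¹); group)
  let cv : R → (V →* V) := fun r => QuotientGroup.map N0 N0 (cz r) fun e he =>
    show cz r e ∈ E.subgroupOf Z from mem_subgroupOf.2 (h.conj_mem r.2.1 (mem_subgroupOf.1 he))
  have hcv : ∀ (r : R) (y : Z), cv r (y : V) = ((cz r y : Z) : V) := fun _ _ => rfl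
  have hcv_mul : ∀ (r s : R) (v : V), cv (r * s) v = cv r (cv s v) := fun r s v => by
    induction v using QuotientGroup.induction_on with
    | H y =>
      rw [hcv, hcv, hcv]
      exact congrArg QuotientGroup.mk (Subtype.ext (by
        show ((r : G) * s) * y * ((r : G) * s)⁻¹ = (r : G) * ((s : G) * y * (s : G)⁻¹) * (r : G)⁻¹; group))
  have hcv_one : ∀ v : V, cv 1 v = v := fun v => by
    induction v using QuotientGroup.induction_on with
    | H y => rw [hcv]; exact congrArg QuotientGroup.mk (Subtype.ext (by show (1 : G) * y * (1 : G)⁻¹ = y; group))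
  let aV : R →* MulAut V :=
    { toFun := fun r =>
        { toFun := cv r
          invFun := cv r⁻¹
          left_inv := fun v => by rw [← hcv_mul, inv_mul_cancel, hcv_one]
          right_inv := fun v => by rw [← hcv_mul, mul_inv_cancel, hcv_one]
          map_mul' := map_mul _ }
      map_one' := MulEquiv.ext hcv_one
      map_mul' := fun r s => MulEquiv.ext (hcv_mul r s) }
  let aE : R →* MulAut E := h.conjE.comp
    (MonoidHom.mk' (fun r : R => (⟨(r : G), smul_base_iff.1 r.2.1⟩ : M)) fun _ _ => rfl)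
  have haE : ∀ (r : R) (e : E), ((aE r e : E) : G) = (r : G) * e * (r : G)⁻¹ := fun _ _ => rfl
  let Φ : R →* MulAut V × MulAut E := aV.prod aE
  set N := Φ.range with hN
  have hS1 : ∀ (r : R), (r : G) ∈ S → Φ r = 1 := fun r hr => Prod.ext
    (MulEquiv.ext fun v => by
      induction v using QuotientGroup.induction_on with
      | H y =>
        show cv r (y : V) = (y : V)
        rw [hcv, QuotientGroup.eq, hN0, mem_subgroupOf]
        have h1 := y.2.2.1 _ hr
        show ((r : G) * y * (r : G)⁻¹)⁻¹ * (y : G) ∈ E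
        rw [show ((r : G) * y * (r : G)⁻¹)⁻¹ * (y : G) = (y : G)⁻¹ * ((r : G) * y * (r : G)⁻¹ * (y : G)⁻¹)⁻¹ * y by
          group, (hY.centE _ (inv_mem y.2.1) _ (inv_mem h1)).eq, inv_mul_cancel_right]
        exact inv_mem h1)
    (MulEquiv.ext fun e => Subtype.ext (by
      show (r : G) * e * (r : G)⁻¹ = e
      rw [(hY.centE _ hr _ e.2).eq, mul_inv_cancel_right]))
  have hodd : Odd (Nat.card N) := by
    rw [← Nat.not_even_iff_odd, even_iff_two_dvd]
    intro h2
    haveI : Finite (MulAut V) := Finite.of_injective _ (DFunLike.coe_injective (F := V ≃* V))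
    haveI : Finite (MulAut E) := Finite.of_injective _ (DFunLike.coe_injective (F := E ≃* E))
    obtain ⟨⟨_, r, rfl⟩, hr2⟩ := exists_prime_orderOf_dvd_card' 2 h2
    have ho : orderOf (Φ r) = 2 := ((Subgroup.orderOf_coe (⟨Φ r, r, rfl⟩ : N)).trans hr2)
    obtain ⟨j, n, hn, hjn⟩ := Nat.exists_eq_two_pow_mul_odd (orderOf_pos r).ne'
    have h1 : ((r ^ n : R) : G) ∈ S := hY.mem_of_normalizes (r ^ n).2.1 (r ^ n).2.2.1
      (show ((r ^ n : R) : G) ^ 2 ^ j = 1 by
        rw [← SubmonoidClass.coe_pow, ← pow_mul, mul_comm, ← hjn, pow_orderOf_eq_one]; rfl)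
    have h3 := hS1 _ h1
    rw [map_pow, ← orderOf_dvd_iff_pow_eq_one, ho] at h3
    exact hn.not_two_dvd_nat h3
  let ρ : N →* (Additive V ≃ₗ[ZMod 2] Additive V) :=
    linOfMulAut.comp ((MonoidHom.fst _ _).comp N.subtype)
  let η : N →* (Additive E ≃ₗ[ZMod 2] Additive E) :=
    linOfMulAut.comp ((MonoidHom.snd _ _).comp N.subtype)
  have hB : ∀ n u v, η n (B u v) = B (ρ n u) (ρ n v) := by
    rintro ⟨_, r, rfl⟩ u v
    obtain ⟨y, hy⟩ := QuotientGroup.mk_surjective u.toMul
    obtain ⟨w, hw⟩ := QuotientGroup.mk_surjective v.toMul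
    obtain rfl : u = Additive.ofMul (y : V) := congrArg Additive.ofMul hy.symm
    obtain rfl : v = Additive.ofMul (w : V) := congrArg Additive.ofMul hw.symm
    rw [hBapp]
    show Additive.ofMul (aE r (β0 y w)) = B (Additive.ofMul (cv r y)) (Additive.ofMul (cv r w))
    rw [hcv, hcv, hBapp]
    refine congrArg Additive.ofMul (Subtype.ext ?_)
    rw [haE]
    show (r : G) * ((y : G) * w * (y : G)⁻¹ * (w : G)⁻¹) * (r : G)⁻¹ = (r : G) * y * (r : G)⁻¹ *
      ((r : G) * w * (r : G)⁻¹) * ((r : G) * y * (r : G)⁻¹)⁻¹ * ((r : G) * w * (r : G)⁻¹)⁻¹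
    group
  have halt : ∀ v, B v v = 0 := by
    intro v
    obtain ⟨y, hy⟩ := QuotientGroup.mk_surjective v.toMul
    obtain rfl : v = Additive.ofMul (y : V) := congrArg Additive.ofMul hy.symm
    rw [hBapp]
    exact congrArg Additive.ofMul (Subtype.ext (by
      show (y : G) * y * (y : G)⁻¹ * (y : G)⁻¹ = 1; group))
  -- the torus
  have hcR : c ∈ R := hY.mem_normS hc.smul hc.norm
  let nc : N := ⟨Φ ⟨c, hcR⟩, _, rfl⟩
  let C : Subgroup N := zpowers nc
  let xV : Additive V := Additive.ofMul ((⟨x, hxZ⟩ : Z) : V)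
  have hρcx : ρ nc xV = xV := by
    show Additive.ofMul (cv ⟨c, hcR⟩ ((⟨x, hxZ⟩ : Z) : V)) = _
    rw [hcv]
    exact congrArg Additive.ofMul (congrArg QuotientGroup.mk (Subtype.ext (by
      show c * x * c⁻¹ = x; rw [hc.comm.eq, mul_inv_cancel_right])))
  have hηc : ∀ (i : ℕ) (e : E), ((Additive.toMul (η (nc ^ i) (Additive.ofMul e)) : E) : G) =
      c ^ i * e * (c ^ i)⁻¹ := fun i e => by
    have h1 : nc ^ i = Φ.rangeRestrict ((⟨c, hcR⟩ : R) ^ i) := (map_pow Φ.rangeRestrict (⟨c, hcR⟩ : R) i).symm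
    rw [h1]
    show ((aE (⟨c, hcR⟩ ^ i) e : E) : G) = _
    rw [haE, SubmonoidClass.coe_pow]
  have hCE : ∀ e f : Additive E, e ≠ 0 → f ≠ 0 → ∃ d ∈ C, η d e = f := by
    intro e f he hf
    obtain ⟨i, hi⟩ := hc.trans _ e.toMul.2 _ f.toMul.2 (fun e1 => he (congrArg Additive.ofMul (Subtype.ext e1)))
      fun e1 => hf (congrArg Additive.ofMul (Subtype.ext e1))
    refine ⟨nc ^ i, pow_mem (mem_zpowers nc) i, congrArg Additive.ofMul (Subtype.ext ?_ : (η (nc ^ i) e).toMul = f.toMul)⟩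
    exact (hηc i e.toMul).trans hi
  have hCx : ∀ d ∈ C, ρ d xV = xV := by
    intro d hd
    obtain ⟨i, rfl⟩ := (Submonoid.mem_powers_iff _ _).1 (mem_powers_iff_mem_zpowers.2 hd)
    induction i with
    | zero => rw [pow_zero, map_one]; rfl
    | succ i ih =>
      rw [pow_succ, map_mul]
      show ρ (nc ^ i) (ρ nc xV) = xV
      rw [hρcx]
      exact ih (pow_mem (mem_zpowers nc) i)
  let Ω : Set (Additive V) := {v | ∃ n : N, ρ n xV = v}
  have hρρ : ∀ (n n' : N) (v : Additive V), ρ (n * n') v = ρ n (ρ n' v) := fun n n' v => by rw [map_mul]; rfl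
  -- the representative of a member of the orbit
  have hrep : ∀ v ∈ Ω, ∃ y : Z, v = Additive.ofMul (y : V) ∧ orderOf (y : G) = 2 ∧ ¬ IsConj z (y : G) := by
    rintro v ⟨⟨_, r, rfl⟩, rfl⟩
    refine ⟨cz r ⟨x, hxZ⟩, rfl, ?_, ?_⟩
    · exact (hxb.conj (r : G)).invol
    · exact (hxb.conj (r : G)).not_conj
  have hxne : ∀ v ∈ Ω, v ≠ xV → B xV v ≠ 0 := by
    intro v hv hvx hB0
    obtain ⟨y, rfl, hyo, hyz⟩ := hrep v hv
    rw [hBapp] at hB0
    have h1 : x * (y : G) * x⁻¹ * (y : G)⁻¹ = 1 := congrArg Subtype.val (congrArg Additive.toMul hB0)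
    have hxy : Commute x (y : G) := mul_inv_eq_iff_eq_mul.1 (eq_of_mul_inv_eq_one h1)
    obtain ⟨p, hp, e1⟩ := hsingle y y.2.1 hxy y.2.2.1
    have hy2 := invol_mul_self hyo
    have hp2 : p * p = 1 := by
      rcases e1 with e1 | e1 <;> rw [e1] at hy2
      · exact hy2
      · rwa [show p * x * (p * x) = p * (x * p) * x by group, (hY.commute_reg hp).eq,
          show p * (p * x) * x = p * p * (x * x) by group, hx2, mul_one] at hy2
    have hyE : (y : G) ∉ E := fun hh => by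
      rcases hh with hh | ⟨hh, -⟩
      · exact invol_ne_one hyo hh
      · exact hyz hh
    have hyx : (y : G) * x ∈ E := by
      rcases e1 with e1 | e1 <;> rcases hY.mem_or_mul_of_sq hp hp2 hPK with h2 | h2
      · exact absurd (e1 ▸ h2) hyE
      · rw [e1]; exact h2
      · rw [e1, mul_assoc, hx2, mul_one]; exact h2
      · exact absurd (e1 ▸ h2) hyE
    refine hvx (congrArg Additive.ofMul (QuotientGroup.eq.2 (mem_subgroupOf.2 ?_)))
    show (y : G)⁻¹ * x ∈ E
    rwa [invol_inv hyo]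
  have hconcl := eq_of_mem_orbit_of_alternating hodd (Cfsg.Agent.S0205.result hodd) ρ η B hB halt Ω
    (by rintro n _ ⟨n', rfl⟩; exact ⟨n * n', hρρ _ _ _⟩)
    (by
      rintro _ ⟨n, rfl⟩ _ ⟨n', rfl⟩
      exact ⟨n' * n⁻¹, by rw [← hρρ, inv_mul_cancel_right]⟩)
    (by
      rintro _ ⟨n, rfl⟩ w ⟨n', rfl⟩ hne hB0
      refine hxne (ρ (n⁻¹ * n') xV) ⟨_, rfl⟩ (fun e1 => hne ?_) ?_
      · rw [show ρ n' xV = ρ n (ρ (n⁻¹ * n') xV) by rw [← hρρ, mul_inv_cancel_left], e1]
      · refine (η n).map_eq_zero_iff.1 ?_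
        rw [hB, ← hρρ, mul_inv_cancel_left]; exact hB0)
    (⟨1, by rw [map_one]; rfl⟩ : xV ∈ Ω) C hCx hCE
    (by
      intro d hd v hv hne hdv
      refine LinearEquiv.ext fun f => ?_
      rcases eq_or_ne f 0 with rfl | hf
      · rw [map_zero]; rfl
      obtain ⟨d', hd', hdf⟩ := hCE _ f (hxne v hv hne) hf
      rw [← hdf]
      show (η d * η d') (B xV v) = η d' (B xV v)
      rw [← map_mul, show d * d' = d' * d from congrArg Subtype.val (mul_comm' (⟨d, hd⟩ : C) ⟨d', hd'⟩), map_mul]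
      show η d' (η d (B xV v)) = η d' (B xV v)
      rw [hB, hCx d hd, hdv])
    (by
      intro v _ hvC
      obtain ⟨y, hy⟩ := QuotientGroup.mk_surjective v.toMul
      obtain rfl : v = Additive.ofMul (y : V) := congrArg Additive.ofMul hy.symm
      have hfixc : ρ nc (Additive.ofMul (y : V)) = Additive.ofMul (y : V) := hvC nc (mem_zpowers nc)
      have h1 : (cz ⟨c, hcR⟩ y : V) = (y : V) := congrArg Additive.toMul hfixc
      have h2 : c * (y : G) * c⁻¹ * (y : G)⁻¹ ∈ E := by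
        have h3 := mem_subgroupOf.1 (QuotientGroup.eq.1 h1.symm)
        have h3' : (y : G)⁻¹ * (c * y * c⁻¹) ∈ E := h3
        rw [show c * (y : G) * c⁻¹ * (y : G)⁻¹ = (y : G) * ((y : G)⁻¹ * (c * y * c⁻¹)) * (y : G)⁻¹ by group,
          (hY.centE _ y.2.1 _ h3').eq, mul_inv_cancel_right]
        exact h3'
      have hxy : Commute x (y : G) := by
        have h4 : η nc (B xV (Additive.ofMul (y : V))) = B xV (Additive.ofMul (y : V)) := by
          rw [hB, hρcx, hfixc]
        rw [hBapp] at h4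
        have h5 : ((Additive.toMul (η (nc ^ 1) (Additive.ofMul (β0 ⟨x, hxZ⟩ y))) : E) : G) = (β0 ⟨x, hxZ⟩ y : G) := by
          rw [pow_one, h4]; rfl
        rw [hηc, pow_one] at h5
        have h6 : x * (y : G) * x⁻¹ * (y : G)⁻¹ = 1 := hY.eq_one_of_tor_fix hc (β0 ⟨x, hxZ⟩ y).2 h5
        exact mul_inv_eq_iff_eq_mul.1 (eq_of_mul_inv_eq_one h6)
      obtain ⟨p, hp, e1⟩ := hsingle y y.2.1 hxy y.2.2.1
      have hpE : p ∈ E ∨ p * x ∈ E := by
        refine hY.mem_of_tor_fix hc hp ?_ ?_ hPK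
        · have h7 := y.2.2.2
          rcases e1 with e1 | e1 <;> rw [e1] at h7
          · exact h7
          · rwa [show p * x * (p * x) = p * (x * p) * x by group, (hY.commute_reg hp).eq,
              show p * (p * x) * x = p * p * (x * x) by group, hx2, mul_one] at h7
        · rcases e1 with e1 | e1 <;> rw [e1] at h2
          · exact h2
          · rwa [show c * (p * x) * c⁻¹ * (p * x)⁻¹ = c * p * (x * c⁻¹ * x⁻¹) * p⁻¹ by group,
              hc.comm.inv_left.symm.eq, mul_inv_cancel_right] at h2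
      have hcase : (y : G) ∈ E ∨ (y : G) * x ∈ E := by
        rcases e1 with e1 | e1 <;> rw [e1]
        · exact hpE
        · rw [mul_assoc, hx2, mul_one]; exact hpE.symm
      rcases hcase with h8 | h8
      · exact Or.inl (congrArg Additive.ofMul ((QuotientGroup.eq_one_iff y).2 (mem_subgroupOf.2 h8)))
      · refine Or.inr (congrArg Additive.ofMul (QuotientGroup.eq.2 (mem_subgroupOf.2 ?_)))
        show (y : G)⁻¹ * x ∈ E
        rw [show (y : G)⁻¹ * x = ((y : G) * (y : G))⁻¹ * ((y : G) * x) by group]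
        exact mul_mem (inv_mem y.2.2.2) h8)
  -- apply it
  let r : R := ⟨m, hY.mem_normS hm hmS⟩
  have h1 := congrArg Additive.toMul (hconcl (ρ ⟨Φ r, r, rfl⟩ xV) ⟨_, rfl⟩)
  have h2 := mem_subgroupOf.1 (QuotientGroup.eq.1 (show ((cz r ⟨x, hxZ⟩ : Z) : V) = ((⟨x, hxZ⟩ : Z) : V) from h1))
  have h3 : (m * x * m⁻¹)⁻¹ * x ∈ E := h2
  rwa [show (m * x * m⁻¹)⁻¹ = m * x⁻¹ * m⁻¹ by group, hxi] at h3

end EqRes.Sylo

end CfsgLib.SECrit.Eq
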