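import Cfsg.Agent.Lib.Invol.SECriterion.EqType.Big.SigmaCount
import Cfsg.Agent.Lib.Invol.SECriterion.EqType.Big.Half
import Cfsg.Agent.Lib.Invol.SECriterion.EqType.Big.Single
import Cfsg.Agent.Lib.Invol.SECriterion.EqType.Big.SylTorus

/-!
# The strong embedding criterion, equal type: no four-group with a two-element pointwise part

The half of `S` acting trivially holds an involution `h₁` with a four-group fixing two points.  Its conjugate
`y` in the coset `E h₁` is again of this kind in the same `S`, so the torus of `x` moves `y` only along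
`E`.  But `y` translates `x` by some member `e ≠ 1`, which the torus would then fix.
-/

set_option autoImplicit false
set_option linter.style.haveILetI false
set_option linter.unusedSectionVars false
set_option linter.ambiguousOpen false

namespace CfsgLib.SECrit.Eq.EqRes

open CfsgLib.Invol Small Subgroup

universe u

variable {G : Type u} [Group G] [Finite G] {M : Subgroup G} {z : G}

namespace Sylo

variable {h : EqRes M z} {x : G} {a : G ⧸ M} {T P S : Subgroup G} (hY : h.Sylo x a T P S)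
include hY

/-- A subgroup of a group of order four holding three elements is the whole. -/
theorem eq_of_three (hT : Nat.card T = 4) {U : Subgroup G} (hU : U ≤ T) {u v : G} (hu : u ∈ U) (hv : v ∈ U)
    (hu1 : u ≠ 1) (hv1 : v ≠ 1) (huv : u ≠ v) : U = T := by
  classical
  have h3 : 3 ≤ Nat.card U := by
    have hs : (({1, u, v} : Set G) ⊆ (U : Set G)) := by
      rintro w (rfl | rfl | rfl)
      · exact one_mem U
      · exact hu
      · exact hv
    have h1 := Set.ncard_le_ncard hs (Set.toFinite _)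
    rw [Set.ncard_insert_of_notMem (by simp [hu1.symm, hv1.symm]) (Set.toFinite _),
      Set.ncard_pair huv, ← Nat.card_coe_set_eq] at h1
    exact h1
  have h4 := card_dvd_of_le hU
  rw [hT] at h4
  refine eq_of_le_of_card_ge hU ?_
  rw [hT]
  have h5 := Nat.le_of_dvd (by norm_num) h4
  interval_cases hc : Nat.card U <;> simp_all

/-- **No sigma case.** -/
theorem false_of_sigma (hS : Setup M z) (hloc : ∀ y : G, IsBad M y → Local M z y) {c : G} (hc : h.Tor x T S c)
    (hs : fix M x = (deg M z + 1) ^ 3 + 1) (hT : Nat.card T = 4)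
    (hW : ∀ w ∈ T ⊓ ptwise M z x, w = 1 ∨ w = x) {g : G} (hg : g ∈ T) (hgW : g ∉ ptwise M z x) : False := by
  classical
  set E := h.res.grp (base M) with hEdef
  have hF := hY.frame
  have hbig : fix M x = (deg M z + 1) ^ 2 + 1 ∨ fix M x = (deg M z + 1) ^ 3 + 1 := Or.inr hs
  have hxx := invol_mul_self hF.bad.invol
  obtain ⟨S₁, hS₁, hPS₁, hxS₁, hinv, hgS₁, hcov, hcent⟩ := h.exists_sigma_kernel hS hloc hY hW hc hT hg hgW
  have hPK : ∀ v ∈ P, v ∈ locKer M z x → v = 1 ∨ v = x := fun v hv hk => hW v (h.regKer_le hS hloc hY hv hk)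
  have hsqP : ∀ s ∈ S₁, Commute x s → s * s ∈ E := fun s hs' hx' =>
    h.sq_mem hS hloc hY ((h.mem_regPtwise hS hloc hY).1
      ((h.sigma_mem_regPtwise hS hloc hY hW).2 (hcent s hs' hx')))
  have hcard : Nat.card (S₁ ⊓ Subgroup.centralizer ({x} : Set G) : Subgroup G) ≤ (fix M x - 1) * 2 := by
    have hle : S₁ ⊓ Subgroup.centralizer ({x} : Set G) ≤ P ⊔ (T ⊓ ptwise M z x) := fun s hs' =>
      (h.sigma_mem_regPtwise hS hloc hY hW).2
        (hcent s hs'.1 (mem_centralizer_singleton_iff.1 hs'.2).symm)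
    refine (Nat.card_le_card_of_injective _ (inclusion_injective hle)).trans ?_
    have h1 : Nat.card (P ⊔ T : Subgroup G) ≤ (fix M x - 1) * Nat.card T :=
      hY.card_le_cent hF.bad hF.fix_base hY.sup_le fun v hv => hY.sup_comm' hv
    have hxT : P ⊔ (T ⊓ ptwise M z x) ≤ P ⊔ T := sup_le_sup_left inf_le_left P
    obtain ⟨k, hk⟩ := Subgroup.card_dvd_of_le hxT
    have hk0 : k ≠ 0 := fun e => by rw [e, mul_zero] at hk; exact Nat.card_pos.ne' hk
    have hk1 : k ≠ 1 := fun e => by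
      have h3 := eq_of_le_of_card_ge hxT (by rw [hk, e, mul_one])
      have h4 : g ∈ P ⊔ (T ⊓ ptwise M z x) := h3 ▸ mem_sup_right hg
      exact h.mul_notMem hS hloc hY (one_mem P) hg hgW (by rwa [one_mul])
    rw [hk, hT] at h1
    have h5 : Nat.card (P ⊔ (T ⊓ ptwise M z x) : Subgroup G) * 2 ≤
        Nat.card (P ⊔ (T ⊓ ptwise M z x) : Subgroup G) * k := Nat.mul_le_mul_left _ (by omega)
    omega
  have hsurj : ∀ e ∈ E, ∃ s ∈ S₁, s * x * s⁻¹ = e * x := fun e he => by
    obtain ⟨u, hu, hux⟩ := hY.surj e he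
    rcases hcov u hu with hh | hh
    · exact ⟨u, hh, hux⟩
    · exact ⟨u * g, hh, by rw [show u * g * x * (u * g)⁻¹ = u * (g * x * g⁻¹) * u⁻¹ by group,
        ← (hF.cent g hg).eq, mul_inv_cancel_right, hux]⟩
  obtain ⟨Q, hEQ, hxQ, hQS, hQdec, hQc, hQi⟩ := hY.exists_half hc hS₁ hPS₁ hxS₁ hinv hcent hsqP hPK
  have hsqS := hY.sub_sq_mem hbig hc hS₁ hPS₁ hxS₁ hinv hcent hsqP hPK hcard hsurj
  obtain ⟨h₁, b, U, hh₁S₁, hgh₁, hxh₁, hgU, hU4, hF₁⟩ := h.exists_sigma_invol hS hloc hY hW hs hg hgW hS₁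
    hPS₁ hxS₁ hgS₁ hcov hc hinv hcent hsqS hEQ hxQ hQS hQdec hQc hQi hT
  have hh₁S := hS₁ hh₁S₁
  have hh₁h₁ := invol_mul_self hF₁.bad.invol
  -- `h₁` is central in `S` modulo `E`
  have hcm : ∀ {s t : G}, s ∈ S₁ → t ∈ S₁ → s * t * s⁻¹ * t⁻¹ ∈ E := fun hs' ht =>
    comm_mem_of_sq (fun r hr e he => hY.centE r (hS₁ hr) e he) hsqS hs' ht
  have hco : ∀ s ∈ S, s * h₁ * s⁻¹ * h₁ ∈ E := fun s hs' => by
    rcases hcov s hs' with hh | hh
    · have h1 := hcm hh hh₁S₁
      rwa [invol_inv hF₁.bad.invol] at h1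
    · have h1 := hcm hh hh₁S₁
      rw [invol_inv hF₁.bad.invol, show s * g * h₁ * (s * g)⁻¹ = s * (g * h₁ * g⁻¹) * s⁻¹ by group, hgh₁.eq,
        mul_inv_cancel_right] at h1
      exact h1
  obtain ⟨m, P', U', hmb, hmy, hU'm, hY'⟩ := h.exists_sylo_at hS hloc hY hF₁
    (by rw [h.fix_eq hF₁.bad hF.bad]; exact hbig) hco
  set y := m * h₁ * m⁻¹ with hy
  have hU'4 : Nat.card U' = 4 := by
    rw [← hU4]
    exact Nat.card_congr ⟨fun u => ⟨m⁻¹ * u.1 * m, (hU'm u.1).1 u.2⟩,
      fun u => ⟨m * u.1 * m⁻¹, (hU'm _).2 (by simpa [mul_assoc] using u.2)⟩,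
      fun u => Subtype.ext (by simp [mul_assoc]), fun u => Subtype.ext (by simp [mul_assoc])⟩
  -- the pointwise part at `y` has two elements
  have hnall : ¬ U' ≤ ptwise M z y := by
    intro hall
    have hg'U : m * g * m⁻¹ ∈ U' := (hU'm _).2 (by simpa [mul_assoc] using hgU)
    have hsub : ∀ d : G ⧸ M, h₁ • d = d → g • d = d := fun d hd => by
      have hyd : y • m • d = m • d := by rw [hy, smul_smul, inv_mul_cancel_right, mul_smul, hd]
      have h2 := ptwise_fix (hall hg'U) hyd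
      rw [smul_smul, inv_mul_cancel_right, mul_smul] at h2
      exact smul_left_cancel m h2
    have hgb : Bad z g := hF.bad_of_mem hg (invol_iff.2 ⟨h.sq_T hS hloc hY hg, fun e => hgW (e ▸ one_mem _)⟩)
      h.res.crit
    have he : ({d : G ⧸ M | h₁ • d = d} : Set (G ⧸ M)) = {d | g • d = d} :=
      Set.eq_of_subset_of_ncard_le (fun d hd => hsub d hd) (by
        rw [← Nat.card_coe_set_eq, ← Nat.card_coe_set_eq]; exact (h.fix_eq hgb hF₁.bad).le) (Set.toFinite _)
    have hh₁a : h₁ • a = a := (Set.ext_iff.1 he a).2 (hF.fix_T g hg).2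
    have hle : T ≤ S ⊓ MulAction.stabilizer G a := fun t ht => ⟨hY.T_le ht, (hF.fix_T t ht).2⟩
    have heq := eq_of_le_of_card_ge hle (hF.max _ a (hY.two.to_le inf_le_left) hF.ne fun s hs' =>
      ⟨hY.smul s hs'.1, hs'.2⟩)
    exact hxh₁ (hF.cent h₁ (heq ▸ ⟨hh₁S, hh₁a⟩))
  have hyy := invol_mul_self hY'.frame.bad.invol
  have hW' : ∀ w ∈ U' ⊓ ptwise M z y, w = 1 ∨ w = y := by
    intro w hw
    by_contra hh
    push Not at hh
    exact hnall (le_of_eq (hY'.eq_of_three hU'4 inf_le_left (h.self_mem_ptwise hS hloc hY') hw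
      (invol_ne_one hY'.frame.bad.invol) hh.1 (Ne.symm hh.2)).symm |>.trans inf_le_right)
  -- the torus of `y`
  have hsqU : ∀ u ∈ U', u * u = 1 := fun u hu => h.sq_T hS hloc hY' hu
  have hinvU : ∀ u ∈ U', u⁻¹ = u := fun u hu => inv_eq_of_mul_eq_one_right (hsqU u hu)
  obtain ⟨c', hc'⟩ := hY'.exists_tor hS hloc (fun w hw => hsqU w hw.1)
    (fun t ht w hw => by
      show t * w = w * t
      rw [← hinvU (t * w) (mul_mem ht hw.1), mul_inv_rev, hinvU w hw.1, hinvU t ht])
    fun r hr w hw => h.conj_ptwise_mem hS hloc hY' hr hw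
  have hsingle : ∀ r ∈ S, Commute y r → (∀ s ∈ S, s * r * s⁻¹ * r⁻¹ ∈ E) → ∃ v ∈ P', r = v ∨ r = v * y := by
    intro r hr hyr hcen
    refine (h.sigma_mem_regPtwise hS hloc hY' hW').1 ?_
    by_contra hn
    obtain ⟨u, hu, -, hne⟩ := h.exists_moved_outside hS hloc hY' hr hyr hn ⊤ fun _ _ _ _ _ _ => mem_top _
    refine hne ⟨r * u * r⁻¹ * u⁻¹, ?_, ?_⟩
    · have h1 := inv_mem (hcen u (hY'.reg_le hu))
      rwa [show (u * r * u⁻¹ * r⁻¹)⁻¹ = r * u * r⁻¹ * u⁻¹ by group] at h1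
    · rw [h.res.grp_sq (by
        have h1 := inv_mem (hcen u (hY'.reg_le hu))
        rwa [show (u * r * u⁻¹ * r⁻¹)⁻¹ = r * u * r⁻¹ * u⁻¹ by group] at h1)]
      exact one_mem _
  have hPK' : ∀ v ∈ P', v ∈ locKer M z y → v = 1 ∨ v = y := fun v hv hk =>
    hW' v (h.regKer_le hS hloc hY' hv hk)
  have hfin := hY'.fix_of_single hS hc' hsingle hPK' hc.smul hc.norm
  -- the translations
  set e' := c * y * c⁻¹ * y with he'
  have hyS : y ∈ S := hY'.T_le hY'.frame.self
  have heE := hY.coset y hyS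
  set e := y * x * y⁻¹ * x with he
  have hce : c * e * c⁻¹ = e := by
    have h1 : c * y * c⁻¹ = e' * y := by rw [he', mul_assoc _ y y, hyy, mul_one]
    have hx' : c * x * c⁻¹ = x := by rw [hc.comm.eq, mul_inv_cancel_right]
    have hyx : y * x * y⁻¹ = e * x := by rw [he, mul_assoc _ x x, hxx, mul_one]
    have he'x : Commute e' x := (h.commute_grp hF.bad hF.fix_base hfin).symm
    have he'e : Commute e' e := h.res.grp_commute hfin heE
    calc c * e * c⁻¹ = (c * y * c⁻¹) * (c * x * c⁻¹) * (c * y * c⁻¹)⁻¹ * (c * x * c⁻¹) := by rw [he]; group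
      _ = e' * (y * x * y⁻¹) * e'⁻¹ * x := by rw [h1, hx']; group
      _ = e := by rw [hyx, (he'e.mul_right he'x).eq, mul_inv_cancel_right, mul_assoc, hxx, mul_one]
  have he1 : e = 1 := hY.eq_one_of_tor_fix hc heE hce
  have hxy : Commute x y := hY.commute_iff.1 he1
  refine hxh₁ ?_
  have h2 := (h.commute_grp hF.bad hF.fix_base (inv_mem hmy)).mul_right hxy |>.symm
  have h3 : (y * h₁)⁻¹ * y = h₁ := by rw [mul_inv_rev, invol_inv hF₁.bad.invol, inv_mul_cancel_right]
  rw [h3] at h2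
  exact h2.symm

end Sylo

end CfsgLib.SECrit.Eq.EqRes
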