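import Cfsg.Agent.Lib.Invol.SECriterion.Shape.Coset.Action
import Mathlib.GroupTheory.QuotientGroup.Basic

/-!
# The strong embedding criterion: a two-group acting on a group with squares in a central elementary group

`N` has its squares in `E`, which `S` centralizes, `N₀` is the set of its elements of square `1`.  If enough
elements normalizing `S` and `N` are transitive on `E`, the image of `S` on `N / N₀` has order at most two.
-/

set_option autoImplicit false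
set_option linter.style.haveILetI false
set_option linter.unusedSectionVars false

namespace CfsgLib.SECrit.Shape

open Subgroup

variable {G : Type*} [Group G] [Finite G] {E N N₀ S : Subgroup G}

/-- Two elements moving `N` modulo `N₀` multiply into one that does not. -/
theorem mul_fix_of_moved (hE4 : 4 ≤ Nat.card E) (hEsq : ∀ e ∈ E, e * e = 1)
    (hS : IsPGroup 2 S) (hNS : N ≤ S) (hcen : ∀ g ∈ S, ∀ e ∈ E, Commute g e) (hsq : ∀ v ∈ N, v * v ∈ E)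
    (hN₀ : ∀ v, v ∈ N₀ ↔ v ∈ N ∧ v * v = 1) (hN₀c : ∀ n ∈ N₀, ∀ v ∈ N, Commute n v)
    (hcard : Nat.card N ≤ Nat.card E ^ 2 * Nat.card N₀) (hnorm : ∀ g ∈ S, ∀ v ∈ N, g * v * g⁻¹ ∈ N)
    (htr : ∀ e ∈ E, ∀ f ∈ E, e ≠ 1 → f ≠ 1 → ∃ d : G, (∀ v ∈ N, d * v * d⁻¹ ∈ N) ∧
      (∀ g ∈ S, d * g * d⁻¹ ∈ S ∧ d⁻¹ * g * d ∈ S) ∧ (∀ u ∈ E, d * u * d⁻¹ ∈ E) ∧ d * e * d⁻¹ = f)
    {g₁ g₂ : G} (hg₁ : g₁ ∈ S) (hg₂ : g₂ ∈ S) (h1 : ∃ v ∈ N, g₁ * v * g₁⁻¹ * v⁻¹ ∉ N₀)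
    (h2 : ∃ v ∈ N, g₂ * v * g₂⁻¹ * v⁻¹ ∉ N₀) :
    ∀ v ∈ N, g₁ * g₂ * v * (g₁ * g₂)⁻¹ * v⁻¹ ∈ N₀ := by
  classical
  intro v₀ hv₀
  by_contra h3
  have hinvE : ∀ e ∈ E, e⁻¹ = e := fun e he => inv_eq_of_mul_eq_one_right (hEsq e he)
  have hconjE : ∀ g ∈ S, ∀ e ∈ E, g * e * g⁻¹ = e := fun g hg e he => by
    rw [(hcen g hg e he).eq, mul_inv_cancel_right]
  -- commutators
  have hk : ∀ u ∈ N, ∀ w ∈ N, w * u * w⁻¹ * u⁻¹ ∈ E := fun u hu w hw => by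
    have e1 : w * u * w⁻¹ * u⁻¹ = (w * u) * (w * u) * (u⁻¹ * (w * w)⁻¹ * u) * (u * u)⁻¹ := by group
    rw [e1]
    refine mul_mem (mul_mem (hsq _ (mul_mem hw hu)) ?_) (inv_mem (hsq u hu))
    have h4 := hconjE u⁻¹ (inv_mem (hNS hu)) _ (inv_mem (hsq w hw))
    rw [inv_inv] at h4
    rw [h4]
    exact inv_mem (hsq w hw)
  have hN₀le : N₀ ≤ N := fun v hv => ((hN₀ v).1 hv).1
  have hk₀ : ∀ e ∈ E, e ∈ N → e ∈ N₀ := fun e he heN => (hN₀ e).2 ⟨heN, hEsq e he⟩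
  let K := N₀.subgroupOf N
  haveI hKn : K.Normal := ⟨fun n hn w => by
    have hn' : (n : G) ∈ N₀ := hn
    show (w : G) * n * (w : G)⁻¹ ∈ N₀
    rw [← (hN₀c _ hn' w w.2).eq, mul_inv_cancel_right]
    exact hn'⟩
  let π : N →* N ⧸ K := QuotientGroup.mk' K
  have hπ1 : ∀ u : N, π u = 1 ↔ (u : G) * u = 1 := fun u =>
    ((QuotientGroup.eq_one_iff u).trans mem_subgroupOf).trans
      ⟨fun h => ((hN₀ _).1 h).2, fun h => (hN₀ _).2 ⟨u.2, h⟩⟩
  -- the square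
  let f : N ⧸ K → E := fun ξ => Quotient.liftOn' ξ (fun u => (⟨(u : G) * u, hsq u u.2⟩ : E)) fun u w huw => by
    have hn : ((u⁻¹ * w : N) : G) ∈ N₀ := mem_subgroupOf.1 (QuotientGroup.leftRel_apply.1 huw :)
    refine Subtype.ext ?_
    show (u : G) * u = (w : G) * w
    have e1 : (w : G) = (u : G) * ((u⁻¹ * w : N) : G) := by simp
    rw [e1, (hN₀c _ hn u u.2).mul_mul_mul_comm, ((hN₀ _).1 hn).2, mul_one]
  have hf : ∀ u : N, (f (π u) : G) = (u : G) * u := fun u => rfl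
  -- automorphisms
  have haut : ∀ d : G, (∀ v ∈ N, d * v * d⁻¹ ∈ N) →
      ∃ σ : MulAut (N ⧸ K), ∀ u u' : N, (u' : G) = d * u * d⁻¹ → σ (π u) = π u' := by
    intro d hd
    let φ : N →* N :=
      { toFun := fun u => ⟨d * u * d⁻¹, hd u u.2⟩
        map_one' := Subtype.ext (by simp)
        map_mul' := fun u w => Subtype.ext (by simp [mul_assoc]) }
    have hle : K ≤ K.comap φ := fun n hn => by
      have hn' : (n : G) ∈ N₀ := hn
      show d * n * d⁻¹ ∈ N₀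
      refine (hN₀ _).2 ⟨hd n n.2, ?_⟩
      rw [show d * (n : G) * d⁻¹ * (d * n * d⁻¹) = d * (n * n) * d⁻¹ by group, ((hN₀ _).1 hn').2]; group
    let ψ := QuotientGroup.map K K φ hle
    have hinj : Function.Injective ψ := (injective_iff_map_eq_one ψ).2 fun ξ hξ => by
      obtain ⟨u, rfl⟩ := QuotientGroup.mk'_surjective K ξ
      have h4 : (d * u * d⁻¹) * (d * u * d⁻¹) = 1 := (hπ1 (φ u)).1 hξ
      rw [show d * (u : G) * d⁻¹ * (d * u * d⁻¹) = d * (u * u) * d⁻¹ by group, conj_eq_one_iff] at h4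
      exact (hπ1 u).2 h4
    exact ⟨MulEquiv.ofBijective ψ (Finite.injective_iff_bijective.1 hinj), fun u u' e =>
      congrArg π (show φ u = u' from Subtype.ext e.symm)⟩
  choose σ hσ using haut
  let ρ : S →* MulAut (N ⧸ K) :=
    { toFun := fun g => σ g (hnorm g g.2)
      map_one' := MulEquiv.ext fun ξ => by
        obtain ⟨u, rfl⟩ := QuotientGroup.mk'_surjective K ξ
        exact hσ _ (hnorm _ (one_mem S)) u u (by simp)
      map_mul' := fun g g' => MulEquiv.ext fun ξ => by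
        obtain ⟨u, rfl⟩ := QuotientGroup.mk'_surjective K ξ
        show σ _ _ (π u) = σ _ _ (σ _ _ (π u))
        rw [hσ _ (hnorm g' g'.2) u ⟨_, hnorm g' g'.2 u u.2⟩ rfl,
          hσ _ (hnorm g g.2) _ ⟨_, hnorm g g.2 _ (hnorm g' g'.2 u u.2)⟩ rfl]
        exact hσ _ _ u _ (by simp [mul_assoc]) }
  have hρ : ∀ (g : S) (u u' : N), (u' : G) = (g : G) * u * (g : G)⁻¹ → ρ g (π u) = π u' := fun g =>
    hσ _ (hnorm g g.2)
  have hρ1 : ∀ g : S, ρ g = 1 ↔ ∀ v ∈ N, (g : G) * v * (g : G)⁻¹ * v⁻¹ ∈ N₀ := by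
    intro g
    constructor
    · intro h v hv
      have h4 : π ⟨_, hnorm g g.2 v hv⟩ = π ⟨v, hv⟩ := by
        rw [← hρ g ⟨v, hv⟩ ⟨_, hnorm g g.2 v hv⟩ rfl, h]; rfl
      have h5 : π (⟨_, hnorm g g.2 v hv⟩ * (⟨v, hv⟩ : N)⁻¹) = 1 := by rw [map_mul, h4, map_inv, mul_inv_cancel]
      exact mem_subgroupOf.1 ((QuotientGroup.eq_one_iff _).1 h5)
    · intro h
      refine MulEquiv.ext fun ξ => ?_
      obtain ⟨u, rfl⟩ := QuotientGroup.mk'_surjective K ξ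
      show ρ g (π u) = π u
      rw [hρ g u ⟨_, hnorm g g.2 u u.2⟩ rfl, eq_comm, ← inv_mul_eq_one, ← map_inv, ← map_mul, hπ1]
      have h4 := h u u.2
      have e1 : ((u⁻¹ * ⟨_, hnorm g g.2 u u.2⟩ : N) : G) = (u : G)⁻¹ * ((g : G) * u * (g : G)⁻¹ * (u : G)⁻¹) * u := by
        simp [mul_assoc]
      rw [e1, mul_assoc _ _ (u : G), (hN₀c _ h4 u u.2).eq, inv_mul_cancel_left]
      exact ((hN₀ _).1 h4).2
  have hV : ∀ ξ : N ⧸ K, ξ * ξ = 1 := fun ξ => by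
    obtain ⟨u, rfl⟩ := QuotientGroup.mk'_surjective K ξ
    rw [← map_mul, hπ1]
    exact hEsq _ (hsq u u.2)
  have hle : Nat.card (N ⧸ K) ≤ Nat.card E ^ 2 := by
    have h4 := card_eq_card_quotient_mul_card_subgroup K
    rw [Nat.card_congr (subgroupOfEquivOfLe hN₀le).toEquiv] at h4
    exact Nat.le_of_mul_le_mul_right (h4 ▸ hcard) Nat.card_pos
  have hcomm : ∀ e ∈ E, ∀ u : N, Commute (u : G) e := fun e he u => hcen u (hNS u.2) e he
  have hdef : ∀ u w : N, ((defect f (π u) (π w) : E) : G) = (w : G) * u * (w : G)⁻¹ * (u : G)⁻¹ := by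
    intro u w
    have hmE := hk u u.2 w w.2
    show (f (π u * π w) : G) * (f (π u) : G) * (f (π w) : G) = _
    rw [← map_mul, hf, hf, hf, Subgroup.coe_mul]
    have e1 : (u : G) * w * (u * w) = (w : G) * u * (w : G)⁻¹ * (u : G)⁻¹ * ((u : G) * u) * (w * w) := by
      calc (u : G) * w * (u * w) = (u : G) * ((w : G) * u * (w : G)⁻¹ * (u : G)⁻¹) * u * (w * w) := by group
        _ = _ := by rw [(hcomm _ hmE u).eq]; group
    rw [e1]
    have hwu : Commute ((w : G) * w) ((u : G) * u) := (hcomm _ (hsq u u.2) w).mul_left (hcomm _ (hsq u u.2) w)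
    calc _ = (w : G) * u * (w : G)⁻¹ * (u : G)⁻¹ * (((u : G) * u) * (u * u)) * (((w : G) * w) * (w * w)) := by
          rw [mul_assoc _ ((w : G) * w) ((u : G) * u), hwu.eq]; simp only [mul_assoc]
      _ = _ := by rw [hEsq _ (hsq u u.2), hEsq _ (hsq w w.2), mul_one, mul_one]
  refine no_two_in_image (ρ := ρ) (f := f) hV (fun e => Subtype.ext (hEsq _ e.2)) hE4 hle ?_ ?_ hS ?_ ?_
    (g₁ := ⟨g₁, hg₁⟩) (g₂ := ⟨g₂, hg₂⟩) ?_ ?_ ?_
  · intro ξ h4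
    obtain ⟨u, rfl⟩ := QuotientGroup.mk'_surjective K ξ
    exact (hπ1 u).2 (congrArg Subtype.val h4)
  · intro ξ₁ ξ₂ ξ₃
    obtain ⟨u, rfl⟩ := QuotientGroup.mk'_surjective K ξ₁
    obtain ⟨v, rfl⟩ := QuotientGroup.mk'_surjective K ξ₂
    obtain ⟨w, rfl⟩ := QuotientGroup.mk'_surjective K ξ₃
    refine Subtype.ext ?_
    rw [← map_mul, Subgroup.coe_mul, hdef, hdef, hdef, Subgroup.coe_mul]
    have hvw := hk v v.2 w w.2
    calc (w : G) * (u * v) * (w : G)⁻¹ * ((u : G) * v)⁻¹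
        = (w : G) * u * (w : G)⁻¹ * ((w : G) * v * (w : G)⁻¹ * (v : G)⁻¹ * (u : G)⁻¹) := by group
      _ = (w : G) * u * (w : G)⁻¹ * ((u : G)⁻¹ * ((w : G) * v * (w : G)⁻¹ * (v : G)⁻¹)) := by
          rw [((hcomm _ hvw u).inv_left).eq]
      _ = _ := by simp only [mul_assoc]
  · intro g ξ
    obtain ⟨u, rfl⟩ := QuotientGroup.mk'_surjective K ξ
    refine Subtype.ext ?_
    rw [hρ g u ⟨_, hnorm g g.2 u u.2⟩ rfl, hf, hf]
    show (g : G) * u * (g : G)⁻¹ * ((g : G) * u * (g : G)⁻¹) = (u : G) * u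
    rw [show (g : G) * u * (g : G)⁻¹ * ((g : G) * u * (g : G)⁻¹) = (g : G) * (u * u) * (g : G)⁻¹ by group,
      hconjE g g.2 _ (hsq u u.2)]
  · rintro ⟨e, he⟩ ⟨e', he'⟩ hne hne'
    obtain ⟨d, hdN, hdS, hdE, hde⟩ := htr e he e' he' (fun h => hne (Subtype.ext h)) (fun h => hne' (Subtype.ext h))
    let τ₀ : E →* E :=
      { toFun := fun u => ⟨d * u * d⁻¹, hdE u u.2⟩
        map_one' := Subtype.ext (by simp)
        map_mul' := fun u w => Subtype.ext (by simp [mul_assoc]) }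
    have hτ : Function.Bijective τ₀ := Finite.injective_iff_bijective.1 fun u w h => Subtype.ext (by
      have := congrArg Subtype.val h
      simpa [τ₀] using this)
    refine ⟨σ d hdN, MulEquiv.ofBijective τ₀ hτ, fun ξ => ?_, Subtype.ext hde, fun g => ?_, fun g => ?_⟩
    · obtain ⟨u, rfl⟩ := QuotientGroup.mk'_surjective K ξ
      refine Subtype.ext ?_
      rw [hσ d hdN u ⟨_, hdN u u.2⟩ rfl, hf]
      show d * u * d⁻¹ * (d * u * d⁻¹) = d * (f (π u) : G) * d⁻¹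
      rw [hf]; group
    · refine ⟨⟨d⁻¹ * g * d, (hdS g g.2).2⟩, fun ξ => ?_⟩
      obtain ⟨u, rfl⟩ := QuotientGroup.mk'_surjective K ξ
      rw [hσ d hdN u ⟨_, hdN u u.2⟩ rfl, hρ g _ ⟨_, hnorm g g.2 _ (hdN u u.2)⟩ rfl,
        hρ _ u ⟨_, hnorm _ (hdS g g.2).2 u u.2⟩ rfl]
      exact (hσ d hdN _ _ (by group)).symm
    · refine ⟨⟨d * g * d⁻¹, (hdS g g.2).1⟩, fun ξ => ?_⟩
      obtain ⟨u, rfl⟩ := QuotientGroup.mk'_surjective K ξ
      rw [hσ d hdN u ⟨_, hdN u u.2⟩ rfl, hρ g u ⟨_, hnorm g g.2 u u.2⟩ rfl,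
        hσ d hdN ⟨_, hnorm g g.2 u u.2⟩ ⟨_, hdN _ (hnorm g g.2 u u.2)⟩ rfl]
      exact hρ _ _ _ (by simp only; group)
  · exact fun h => by
      obtain ⟨v, hv, hn⟩ := h1
      exact hn ((hρ1 _).1 h v hv)
  · exact fun h => by
      obtain ⟨v, hv, hn⟩ := h2
      exact hn ((hρ1 _).1 h v hv)
  · exact fun h => h3 ((hρ1 _).1 h v₀ hv₀)

end CfsgLib.SECrit.Shape
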