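import Cfsg.Agent.Lib.Invol.SECriterion.EqType.Big.SigmaKernel

/-!
# The strong embedding criterion, equal type, the sigma case: an involution of the half fixing two points

`g ∈ T` outside the pointwise part moves each element of the trivial half `S₁` into `Q` modulo `E`, so it has
at most `q²` conjugates in `S`.  Its centralizer then has a four-group fixing two points with one involution
in `S₁`, which does not centralize `x`.
-/

set_option autoImplicit false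
set_option linter.style.haveILetI false
set_option linter.unusedSectionVars false
set_option linter.ambiguousOpen false

namespace CfsgLib.SECrit.Eq.EqRes

open CfsgLib.Invol Small Subgroup

universe u

variable {G : Type u} [Group G] [Finite G] {M : Subgroup G} {z : G}
variable (h : EqRes M z)
include h

/-- A subgroup of a two-group of order more than two and at most four has order four. -/
theorem card_eq_four {U : Subgroup G} (hU : IsPGroup 2 U) (h2 : 2 < Nat.card U) (h4 : Nat.card U ≤ 4) :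
    Nat.card U = 4 := by
  haveI : Fact (Nat.Prime 2) := ⟨Nat.prime_two⟩
  obtain ⟨k, hk⟩ := IsPGroup.iff_card.1 hU
  have h3 : k ≤ 2 := (Nat.pow_le_pow_iff_right (a := 2) (by norm_num)).1 (by rw [← hk]; exact h4)
  interval_cases k <;> simp_all

variable (hS : Setup M z) (hloc : ∀ x, IsBad M x → Local M z x) {x : G} {a : G ⧸ M}
  {T P S : Subgroup G} (hY : h.Sylo x a T P S) (hW : ∀ w ∈ T ⊓ ptwise M z x, w = 1 ∨ w = x)
include hS hloc hY hW

variable (hs : fix M x = (deg M z + 1) ^ 3 + 1) {g : G} (hg : g ∈ T) (hgW : g ∉ ptwise M z x)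
  {S₁ : Subgroup G} (hS₁ : S₁ ≤ S) (hPS₁ : P ≤ S₁) (hxS₁ : x ∈ S₁) (hgS₁ : g ∉ S₁)
include hs hg hgW hS₁ hPS₁ hxS₁ hgS₁

/-- The common further fixed points of `x` and an involution outside the half. -/
theorem card_common_le {g' : G} (hg' : g' ∈ S) (hg'x : Commute x g') (hg'n : g' ∉ S₁) :
    Nat.card {b : G ⧸ M // (x • b = b ∧ g' • b = b) ∧ b ≠ base M} ≤ deg M z + 1 := by
  classical
  have hF := hY.frame
  have hP := hY.reg
  rcases isEmpty_or_nonempty {b : G ⧸ M // (x • b = b ∧ g' • b = b) ∧ b ≠ base M} with he | ⟨⟨b, ⟨hxb, hgb⟩, hbp⟩⟩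
  · rw [Nat.card_eq_zero.2 (Or.inl he)]; exact Nat.zero_le _
  obtain ⟨p, hp, hpa⟩ := hP.trans a b hF.fix_pt hxb hF.ne hbp
  have hxp : Commute x p := hY.commute_reg hp
  have hpS := hY.reg_le hp
  set t := p⁻¹ * g' * p with ht
  have htS : t ∈ S := mul_mem (mul_mem (inv_mem hpS) hg') hpS
  have htx : Commute x t := (hxp.inv_right.mul_right hg'x).mul_right hxp
  have hta : t • a = a := by rw [ht, mul_smul, mul_smul, hpa, hgb, ← hpa, inv_smul_smul]
  have htn : t ∉ S₁ := fun hh => hg'n (by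
    have h1 := mul_mem (mul_mem (hPS₁ hp) hh) (inv_mem (hPS₁ hp))
    rwa [show p * (p⁻¹ * g' * p) * p⁻¹ = g' by group] at h1)
  have hWS : ∀ w ∈ T ⊓ ptwise M z x, w ∈ S₁ := fun w hw => by
    rcases hW w hw with rfl | rfl
    · exact one_mem _
    · exact hxS₁
  obtain ⟨v, hv, t', ht', hvt⟩ := hY.decomp t htS htx
  have htT : t ∈ T := by
    have hva : v • a = a := by
      have h1 := hta
      rwa [hvt, mul_smul, (hF.fix_T t' ht').2] at h1
    rw [hvt]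
    rcases h.sigma_fix hS hloc hY hW hv hva with e | e <;> rw [e]
    · exact mul_mem (one_mem T) ht'
    · exact mul_mem hF.self ht'
  have htW : t ∉ ptwise M z x := fun hh => htn (hWS t ⟨htT, hh⟩)
  obtain ⟨-, hcnt⟩ := h.fix_count hS hloc hF hP (h.sylo_TE hS hloc hY) htT
    (by rw [h.sq_T hS hloc hY htT]; exact one_mem _) htW
  have hpb : p • base M = base M := hY.smul p hpS
  have e1 : Nat.card {b : G ⧸ M // (x • b = b ∧ g' • b = b) ∧ b ≠ base M} + 1 ≤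
      Nat.card {b : G ⧸ M // x • b = b ∧ t • b = b} := by
    rw [← Finite.card_option]
    refine Nat.card_le_card_of_injective (fun o => o.elim ⟨base M, hF.fix_base, hY.smul t htS⟩
      fun d => ⟨p⁻¹ • d.1, smul_mem_fix hxp.inv_right d.2.1.1, by
        rw [ht, mul_smul, mul_smul, smul_inv_smul, d.2.1.2]⟩) ?_
    rintro (_ | d) (_ | d') e
    · rfl
    · exact absurd (smul_left_cancel p⁻¹ (((congrArg Subtype.val e).symm).trans (inv_smul_eq_iff.2 hpb.symm).symm))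
        d'.2.2
    · exact absurd (smul_left_cancel p⁻¹ ((congrArg Subtype.val e).trans (inv_smul_eq_iff.2 hpb.symm).symm)) d.2.2
    · exact congrArg some (Subtype.ext (smul_left_cancel p⁻¹ (congrArg Subtype.val e)))
  omega

/-- What centralizes `g` in the half of the centralizer of `x` lies in the members or their coset. -/
theorem cent_g_le {v : G} (hvx : ∃ p ∈ P, v = p ∨ v = p * x) (hgv : Commute g v) :
    v ∈ h.res.grp (base M) ∨ v * x ∈ h.res.grp (base M) := by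
  classical
  have hF := hY.frame
  have hP := hY.reg
  have hTE := h.sylo_TE hS hloc hY
  obtain ⟨-, hcnt⟩ := h.fix_count hS hloc hF hP hTE hg (by rw [h.sq_T hS hloc hY hg]; exact one_mem _) hgW
  obtain ⟨p, hp, hv⟩ := hvx
  have hxp := hY.commute_reg hp
  have hvS : v ∈ S := by
    rcases hv with rfl | rfl
    · exact hY.reg_le hp
    · exact mul_mem (hY.reg_le hp) (hY.T_le hF.self)
  have hvxc : Commute x v := by
    rcases hv with rfl | rfl
    · exact hxp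
    · exact hxp.mul_right (Commute.refl x)
  let F₀ := {b : G ⧸ M // x • b = b ∧ g • b = b}
  let ι : Option (h.res.grp (base M)) → F₀ := fun o => o.elim ⟨base M, hF.fix_base, (hF.fix_T g hg).1⟩
    fun e => ⟨(e : G) • a, h.fix_mul_mem hF.bad hF.fix_base e.2 hF.fix_pt, by
      rw [smul_smul, (hTE g hg e e.2).eq, mul_smul, (hF.fix_T g hg).2]⟩
  have hιne : ∀ e : h.res.grp (base M), (e : G) • a ≠ base M := fun e hh =>
    hF.ne (smul_left_cancel (e : G) (hh.trans (h.res.grp_smul e.2).symm))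
  have hι : Function.Injective ι := by
    rintro (_ | e) (_ | e') hh
    · rfl
    · exact absurd (congrArg Subtype.val hh).symm (hιne e')
    · exact absurd (congrArg Subtype.val hh) (hιne e)
    · have h1 : ((e' : G)⁻¹ * e) • a = a := by
        rw [mul_smul, show (e : G) • a = (e' : G) • a from congrArg Subtype.val hh, inv_smul_smul]
      exact congrArg some (Subtype.ext (inv_mul_eq_one.1
        (h.eq_one_of_grp_fix (mul_mem (inv_mem e'.2) e.2) hF.ne h1)).symm)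
  obtain ⟨o, ho⟩ := ((Nat.bijective_iff_injective_and_card ι).2 ⟨hι, by
    rw [Finite.card_option, h.res.card_grp, hcnt]⟩).2 ⟨v • a, smul_mem_fix hvxc hF.fix_pt, by
      rw [smul_smul, hgv.eq, mul_smul, (hF.fix_T g hg).2]⟩
  rcases o with _ | ⟨e, he⟩
  · exact absurd (smul_left_cancel v ((congrArg Subtype.val ho).symm.trans (hY.smul v hvS).symm)) hF.ne
  have hva : v • a = e • a := (congrArg Subtype.val ho).symm
  have hpa : (e⁻¹ * p) • a = a := by
    rcases hv with rfl | rfl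
    · rw [mul_smul, hva, inv_smul_smul]
    · rw [mul_smul, show p • a = e • a by rwa [mul_smul, hF.fix_pt] at hva, inv_smul_smul]
  have hee := inv_eq_of_mul_eq_one_right (h.res.grp_sq he)
  rcases h.sigma_fix hS hloc hY hW (mul_mem (inv_mem (h.sigma_grp_le hS hloc hY hW he)) hp) hpa with e1 | e1
  · rw [inv_mul_eq_one] at e1
    subst e1
    rcases hv with rfl | rfl
    · exact Or.inl he
    · exact Or.inr (by rwa [mul_assoc, invol_mul_self hF.bad.invol, mul_one])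
  · obtain rfl : p = e * x := by rw [← e1, mul_inv_cancel_left]
    rcases hv with rfl | rfl
    · exact Or.inr (by rwa [mul_assoc, invol_mul_self hF.bad.invol, mul_one])
    · exact Or.inl (by rwa [mul_assoc, invol_mul_self hF.bad.invol, mul_one])

variable (hcov : ∀ s ∈ S, s ∈ S₁ ∨ s * g ∈ S₁) {c : G} (hc : h.Tor x T S c)
  (hinv : ∀ s ∈ S₁, c * s * c⁻¹ ∈ S₁)
  (hcent : ∀ s ∈ S₁, Commute x s → ∃ v ∈ P, s = v ∨ s = v * x)
  (hsqS : ∀ s ∈ S₁, s * s ∈ h.res.grp (base M))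
  {Q : Subgroup G} (hEQ : h.res.grp (base M) ≤ Q) (hxQ : x ∉ Q) (hQS : ∀ v ∈ Q, v ∈ S₁ ∧ Commute x v)
  (hQdec : ∀ s ∈ S₁, Commute x s → ∃ v ∈ Q, s = v ∨ s = v * x) (hQc : ∀ v ∈ Q, c * v * c⁻¹ ∈ Q)
  (hQi : ∀ v ∈ Q, v * v = 1 → v ∈ h.res.grp (base M))
include hcov hc hinv hcent hsqS hEQ hxQ hQS hQdec hQc hQi

omit hs hgW hPS₁ in
/-- `g` moves the half into `Q`. -/
theorem conj_g_mem {s : G} (hs₁ : s ∈ S₁) :
    s * g * s⁻¹ * g⁻¹ ∈ Q ∧ g * (s * g * s⁻¹ * g⁻¹) * g⁻¹ * (s * g * s⁻¹ * g⁻¹)⁻¹ ∈ h.res.grp (base M) := by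
  classical
  set E := h.res.grp (base M) with hEdef
  have hF := hY.frame
  have hgS := hY.T_le hg
  have hgg := h.sq_T hS hloc hY hg
  have hgi : g⁻¹ = g := inv_eq_of_mul_eq_one_right hgg
  have hxx := invol_mul_self hF.bad.invol
  have hcen : ∀ t ∈ S₁, ∀ e ∈ E, Commute t e := fun t ht e he => hY.centE t (hS₁ ht) e he
  have hES₁ : ∀ e ∈ E, e ∈ S₁ := fun e he => (hQS e (hEQ he)).1
  have hcm : ∀ {t u : G}, t ∈ S₁ → u ∈ S₁ → t * u * t⁻¹ * u⁻¹ ∈ E := fun ht hu => comm_mem_of_sq hcen hsqS ht hu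
  -- the translations
  have hφ1 : ∀ t ∈ S, Commute x t → t * x * t⁻¹ * x = 1 := fun t ht htx => hY.commute_iff.2 htx
  have hgconj : ∀ t ∈ S₁, g * t * g⁻¹ ∈ S₁ := fun t ht => by
    rcases hcov _ (mul_mem (mul_mem hgS (hS₁ ht)) (inv_mem hgS)) with hh | hh
    · exact hh
    · refine absurd ?_ hgS₁
      rw [inv_mul_cancel_right] at hh
      simpa using mul_mem hh (inv_mem ht)
  have hd : ∀ t ∈ S₁, t * g * t⁻¹ * g⁻¹ ∈ S₁ ∧ Commute x (t * g * t⁻¹ * g⁻¹) := fun t ht => by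
    refine ⟨?_, hY.commute_iff.1 ?_⟩
    · rw [show t * g * t⁻¹ * g⁻¹ = t * (g * t⁻¹ * g⁻¹) by group]
      exact mul_mem ht (hgconj _ (inv_mem ht))
    · have htS := hS₁ ht
      rw [hY.translate_mul (mul_mem (mul_mem htS hgS) (inv_mem htS)) (inv_mem hgS),
        hY.translate_mul (mul_mem htS hgS) (inv_mem htS), hY.translate_mul htS hgS,
        hφ1 g hgS (hF.cent g hg), hφ1 g⁻¹ (inv_mem hgS) (hF.cent g hg).inv_right, mul_one, mul_one,
        ← hY.translate_mul htS (inv_mem htS), mul_inv_cancel]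
      simp [hxx]
  -- the subgroup moved into `Q`
  have hd_mul : ∀ t ∈ S₁, ∀ u ∈ S₁, ∃ e ∈ E, t * u * g * (t * u)⁻¹ * g⁻¹ =
      e * ((u * g * u⁻¹ * g⁻¹) * (t * g * t⁻¹ * g⁻¹)) := fun t ht u hu => ⟨_, hcm ht (hd u hu).1, by group⟩
  let S₂ : Subgroup G :=
    { carrier := {t | t ∈ S₁ ∧ t * g * t⁻¹ * g⁻¹ ∈ Q}
      one_mem' := ⟨one_mem _, by simp⟩
      mul_mem' := fun {t u} ht hu => ⟨mul_mem ht.1 hu.1, by
        obtain ⟨e, he, e1⟩ := hd_mul t ht.1 u hu.1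
        rw [e1]
        exact mul_mem (hEQ he) (mul_mem hu.2 ht.2)⟩
      inv_mem' := fun {t} ht => ⟨inv_mem ht.1, by
        obtain ⟨e, he, e1⟩ := hd_mul t ht.1 t⁻¹ (inv_mem ht.1)
        rw [mul_inv_cancel, one_mul, inv_one, mul_one, mul_inv_cancel] at e1
        have e2 : t⁻¹ * g * t⁻¹⁻¹ * g⁻¹ = e⁻¹ * (t * g * t⁻¹ * g⁻¹)⁻¹ := by
          rw [eq_comm, ← eq_inv_mul_iff_mul_eq, mul_one] at e1
          exact eq_mul_inv_of_mul_eq e1
        rw [e2]
        exact mul_mem (inv_mem (hEQ he)) (inv_mem ht.2)⟩ }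
  have hS₂m : ∀ t, t ∈ S₂ ↔ t ∈ S₁ ∧ t * g * t⁻¹ * g⁻¹ ∈ Q := fun _ => Iff.rfl
  have hES₂ : ∀ e ∈ E, e ∈ S₂ := fun e he => ⟨hES₁ e he, by
    rw [show e * g * e⁻¹ * g⁻¹ = e * (g * e⁻¹ * g⁻¹) by group,
      (hY.centE g hgS _ (inv_mem he)).eq, mul_inv_cancel_right, mul_inv_cancel]
    exact one_mem Q⟩
  have hxS₂ : x ∈ S₂ := ⟨hxS₁, by
    rw [(hF.cent g hg).eq, mul_inv_cancel_right, mul_inv_cancel]; exact one_mem Q⟩
  -- pairs
  have hpair : ∀ t ∈ S₁, t * (c * t * c⁻¹) ∈ S₂ := by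
    intro t ht
    have hct := hinv t ht
    have hcd : ∃ e ∈ E, c * t * c⁻¹ * g * (c * t * c⁻¹)⁻¹ * g⁻¹ = e * (c * (t * g * t⁻¹ * g⁻¹) * c⁻¹) := by
      have hg'S : c⁻¹ * g * c ∈ S := conj_inv_mem hc.norm hgS
      have hpS : c⁻¹ * g * c * g ∈ S₁ := by
        rcases hcov _ hg'S with hh | hh
        · refine absurd ?_ hgS₁
          have h1 := hinv _ hh
          rwa [show c * (c⁻¹ * g * c) * c⁻¹ = g by group] at h1
        · exact hh
      obtain ⟨p, hp, hpg⟩ : ∃ p ∈ S₁, c⁻¹ * g * c = p * g :=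
        ⟨_, hpS, by rw [mul_assoc (c⁻¹ * g * c), hgg, mul_one]⟩
      have h1 : c * t * c⁻¹ * g * (c * t * c⁻¹)⁻¹ * g⁻¹ =
          c * ((t * p * t⁻¹ * p⁻¹) * (p * (t * g * t⁻¹ * g⁻¹) * p⁻¹ * (t * g * t⁻¹ * g⁻¹)⁻¹)) * c⁻¹ *
            (c * (t * g * t⁻¹ * g⁻¹) * c⁻¹) := by
        calc c * t * c⁻¹ * g * (c * t * c⁻¹)⁻¹ * g⁻¹
            = c * (t * (c⁻¹ * g * c) * t⁻¹ * (c⁻¹ * g * c)⁻¹) * c⁻¹ := by group
          _ = _ := by rw [hpg]; group
      exact ⟨_, h.conj_mem hc.smul (mul_mem (hcm ht hp) (hcm hp (hd t ht).1)), h1⟩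
    obtain ⟨e, he, e1⟩ := hd_mul t ht _ hct
    obtain ⟨e', he', e2⟩ := hcd
    refine ⟨mul_mem ht hct, ?_⟩
    rw [e1, e2]
    refine mul_mem (hEQ he) ?_
    obtain ⟨hdS, hdx⟩ := hd t ht
    obtain ⟨q, hq, hdq | hdq⟩ := hQdec _ hdS hdx <;> rw [hdq]
    · exact mul_mem (mul_mem (hEQ he') (hQc q hq)) hq
    · rw [show c * (q * x) * c⁻¹ = c * q * c⁻¹ * (c * x * c⁻¹) by group, hc.comm.eq, mul_inv_cancel_right,
        show e' * (c * q * c⁻¹ * x) * (q * x) = e' * (c * q * c⁻¹) * (x * q) * x by simp only [mul_assoc],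
        (hQS q hq).2.eq, show e' * (c * q * c⁻¹) * (q * x) * x = e' * (c * q * c⁻¹) * q * (x * x) by
          simp only [mul_assoc], hxx, mul_one]
      exact mul_mem (mul_mem (hEQ he') (hQc q hq)) hq
  -- `c` fixes no member
  have hfix1 : ∀ e ∈ E, c * e * c⁻¹ = e → e = 1 := by
    intro e he hce
    by_contra he1
    obtain ⟨f, hf, hf1, hfe⟩ := h.exists_other e
    obtain ⟨i, hi⟩ := hc.trans e he f hf he1 hf1
    refine hfe (hi.symm.trans ?_)
    have h1 : Commute c e := mul_inv_eq_iff_eq_mul.1 hce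
    rw [(h1.pow_left i).eq, mul_inv_cancel_right]
  have hQcomm : ∀ v ∈ Q, ∀ w ∈ Q, v * w * v⁻¹ * w⁻¹ ∈ E := fun v hv w hw => hcm (hQS v hv).1 (hQS w hw).1
  -- all of the centralizer of `x`
  have hQle : ∀ v ∈ Q, v ∈ S₂ := by
    let K := E.subgroupOf Q
    let Ψ : Q ⧸ K → Q ⧸ K := fun ξ => QuotientGroup.mk
      (ξ.out * ⟨c * (ξ.out : G) * c⁻¹, hQc _ ξ.out.2⟩)
    have hΨ : Function.Injective Ψ := by
      intro ξ η hh
      have h1 : ((ξ.out : G) * (c * (ξ.out : G) * c⁻¹))⁻¹ * ((η.out : G) * (c * (η.out : G) * c⁻¹)) ∈ E :=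
        mem_subgroupOf.1 (QuotientGroup.eq.1 hh)
      rw [← QuotientGroup.out_eq' ξ, ← QuotientGroup.out_eq' η]
      refine QuotientGroup.eq.2 (mem_subgroupOf.2 ?_)
      set v : G := (ξ.out : G)⁻¹ * (η.out : G) with hv
      have hvQ : v ∈ Q := mul_mem (inv_mem ξ.out.2) η.out.2
      show v ∈ E
      have hcξ := hQc _ ξ.out.2
      set u := c * (ξ.out : G) * c⁻¹
      have h2 : v * (c * v * c⁻¹) ∈ E := by
        have e1 : ((ξ.out : G) * u)⁻¹ * ((η.out : G) * (c * (η.out : G) * c⁻¹)) =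
            (u⁻¹ * v * u⁻¹⁻¹ * v⁻¹) * (v * (c * v * c⁻¹)) := by
          rw [hv]; simp only [u]; group
        rw [e1] at h1
        have h3 := mul_mem (inv_mem (hQcomm _ (inv_mem hcξ) _ hvQ)) h1
        rwa [inv_mul_cancel_left] at h3
      set r := v * (c * v * c⁻¹) with hr
      have h3 : c * v * c⁻¹ = v⁻¹ * r := by rw [hr, inv_mul_cancel_left]
      have h4 : c * (v * v) * c⁻¹ = v * v := by
        calc c * (v * v) * c⁻¹ = v⁻¹ * r * (v⁻¹ * r) := by rw [← h3]; group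
          _ = v⁻¹ * v⁻¹ * (r * r) := by
              rw [((hY.centE v (hS₁ (hQS v hvQ).1) r h2).inv_left).symm.mul_mul_mul_comm]
          _ = v * v := by
              rw [h.res.grp_sq h2, mul_one, ← mul_inv_rev,
                inv_eq_of_mul_eq_one_right (h.res.grp_sq (hsqS v (hQS v hvQ).1))]
      exact hQi v hvQ (hfix1 _ (hsqS v (hQS v hvQ).1) h4)
    intro v hv
    obtain ⟨ξ, hξ⟩ := Finite.surjective_of_injective hΨ (QuotientGroup.mk ⟨v, hv⟩)
    have h1 : ((ξ.out : G) * (c * (ξ.out : G) * c⁻¹))⁻¹ * v ∈ E := mem_subgroupOf.1 (QuotientGroup.eq.1 hξ)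
    have h2 := mul_mem (hpair _ (hQS _ ξ.out.2).1) (hES₂ _ h1)
    rwa [mul_inv_cancel_left] at h2
  have hall : ∀ t ∈ S₁, t ∈ S₂ := by
    have hC : ∀ t ∈ S₁, Commute x t → t ∈ S₂ := fun t ht htx => by
      obtain ⟨q, hq, rfl | rfl⟩ := hQdec t ht htx
      · exact hQle _ hq
      · exact mul_mem (hQle q hq) hxS₂
    let ψ : E → E := fun f => ⟨(f : G) * (c * f * c⁻¹), mul_mem f.2 (h.conj_mem hc.smul f.2)⟩
    have hψ : Function.Injective ψ := by
      intro f f' hh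
      have h1 : (f : G) * (c * f * c⁻¹) = f' * (c * f' * c⁻¹) := congrArg Subtype.val hh
      refine Subtype.ext (mul_inv_eq_one.1 (hfix1 _ (mul_mem f.2 (inv_mem f'.2)) ?_))
      calc c * ((f : G) * (f' : G)⁻¹) * c⁻¹
          = (f : G)⁻¹ * ((f : G) * (c * f * c⁻¹)) * (c * f' * c⁻¹)⁻¹ := by group
        _ = (f : G)⁻¹ * f' := by rw [h1]; group
        _ = (f : G) * (f' : G)⁻¹ := by rw [h.grp_inv f.2, h.grp_inv f'.2]
    intro t ht
    have htE := hY.coset t (hS₁ ht)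
    obtain ⟨⟨f, hf⟩, hff⟩ := Finite.surjective_of_injective hψ ⟨_, htE⟩
    obtain ⟨u, hu, hux⟩ : ∃ u ∈ S₁, u * x * u⁻¹ * x = f := by
      obtain ⟨u, hu, hux⟩ := hY.surj f hf
      have hux' : u * x * u⁻¹ * x = f := by rw [hux, mul_assoc, hxx, mul_one]
      rcases hcov u hu with hh | hh
      · exact ⟨u, hh, hux'⟩
      · exact ⟨u * g, hh, by rw [hY.translate_mul hu hgS, hφ1 g hgS (hF.cent g hg), mul_one, hux']⟩
    set w := u * (c * u * c⁻¹) with hw
    have hwS : w ∈ S₂ := hpair u hu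
    have hwφ : w * x * w⁻¹ * x = t * x * t⁻¹ * x := by
      rw [hw, hY.translate_mul (hS₁ hu) (hc.norm u (hS₁ hu)), hux]
      have e1 : c * u * c⁻¹ * x * (c * u * c⁻¹)⁻¹ * x = c * f * c⁻¹ := by
        calc c * u * c⁻¹ * x * (c * u * c⁻¹)⁻¹ * x = c * u * (c⁻¹ * x * c) * u⁻¹ * (c⁻¹ * x) := by group
          _ = c * u * x * u⁻¹ * (x * c⁻¹) := by rw [hc.comm.inv_left.eq, inv_mul_cancel_right]
          _ = c * f * c⁻¹ := by rw [← hux]; group
      rw [e1]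
      exact congrArg Subtype.val hff
    have h1 : Commute x (w⁻¹ * t) := hY.commute_iff.1 (by
      have hwS' := hS₁ ((hS₂m w).1 hwS).1
      rw [hY.translate_mul (inv_mem hwS') (hS₁ ht), ← hwφ, ← hY.translate_mul (inv_mem hwS') hwS',
        inv_mul_cancel]
      simp [hxx])
    have h2 := mul_mem hwS (hC _ (mul_mem (inv_mem ((hS₂m w).1 hwS).1) ht) h1)
    rwa [mul_inv_cancel_left] at h2
  refine ⟨((hS₂m s).1 (hall s hs₁)).2, ?_⟩
  set q := s * g * s⁻¹ * g⁻¹ with hq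
  have hqE := hsqS q (hd s hs₁).1
  have e1 : g * q * g⁻¹ * q⁻¹ = (q * q)⁻¹ := by
    have gq : g * q * g⁻¹ = q⁻¹ := by
      rw [hq, show (s * g * s⁻¹ * g⁻¹)⁻¹ = g * s * g⁻¹ * s⁻¹ by group,
        show g * (s * g * s⁻¹ * g⁻¹) * g⁻¹ = g * s * g * s⁻¹ * (g * g)⁻¹ by group, hgg, hgi, inv_one, mul_one]
    rw [gq]
    exact (mul_inv_rev q q).symm
  rw [e1]
  exact inv_mem hqE

/-- **An involution of the half fixing two points, not centralizing `x`.** -/
theorem exists_sigma_invol (hT : Nat.card T = 4) :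
    ∃ (h₁ : G) (b : G ⧸ M) (U : Subgroup G), h₁ ∈ S₁ ∧ Commute g h₁ ∧ ¬ Commute x h₁ ∧ g ∈ U ∧
      Nat.card U = 4 ∧ Frame M z h₁ b U := by
  classical
  haveI : Fact (Nat.Prime 2) := ⟨Nat.prime_two⟩
  set E := h.res.grp (base M) with hEdef
  have hF := hY.frame
  have hgS := hY.T_le hg
  have hgg := h.sq_T hS hloc hY hg
  have hgo : orderOf g = 2 := invol_iff.2 ⟨hgg, fun e => hgW (e ▸ one_mem _)⟩
  have hgb := hF.bad_of_mem hg hgo h.res.crit
  have hxx := invol_mul_self hF.bad.invol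
  have hES₁ : ∀ e ∈ E, e ∈ S₁ := fun e he => (hQS e (hEQ he)).1
  obtain ⟨β, hβ2, hβ⟩ := h.exists_card_grp
  have hcE : Nat.card E = 2 ^ β := (h.res.card_grp _).trans hβ
  -- the conjugates of `g`
  have hconj : ∀ s ∈ S, ∃ q ∈ Q, g * q * g⁻¹ * q⁻¹ ∈ E ∧ s * g * s⁻¹ * g⁻¹ = q := by
    intro s hs'
    rcases hcov s hs' with hh | hh
    · obtain ⟨h1, h2⟩ := h.conj_g_mem hS hloc hY hW hg hS₁ hxS₁ hgS₁ hcov hc hinv hcent hsqS hEQ hxQ hQS hQdec hQc
        hQi hh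
      exact ⟨_, h1, h2, rfl⟩
    · obtain ⟨h1, h2⟩ := h.conj_g_mem hS hloc hY hW hg hS₁ hxS₁ hgS₁ hcov hc hinv hcent hsqS hEQ hxQ hQS hQdec hQc
        hQi hh
      exact ⟨_, h1, h2, by group⟩
  let Q' := {q : G // q ∈ Q ∧ g * q * g⁻¹ * q⁻¹ ∈ E}
  have hQ' : Nat.card Q' ≤ Nat.card E * Nat.card E := by
    rw [← Nat.card_prod]
    let r : E → G := fun e => if hh : ∃ q : Q', g * q.1 * g⁻¹ * q.1⁻¹ = e then hh.choose.1 else 1
    have hr : ∀ q : Q', g * r ⟨_, q.2.2⟩ * g⁻¹ * (r ⟨_, q.2.2⟩)⁻¹ = g * q.1 * g⁻¹ * q.1⁻¹ ∧ r ⟨_, q.2.2⟩ ∈ Q := by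
      intro q
      have hh : ∃ q' : Q', g * q'.1 * g⁻¹ * q'.1⁻¹ = g * q.1 * g⁻¹ * q.1⁻¹ := ⟨q, rfl⟩
      simp only [r, dif_pos hh]
      exact ⟨hh.choose_spec, hh.choose.2.1⟩
    have hkey : ∀ q : Q', (r ⟨_, q.2.2⟩)⁻¹ * q.1 ∈ E := by
      intro q
      obtain ⟨h1, h2⟩ := hr q
      set r₀ := r ⟨_, q.2.2⟩
      have hvQ : r₀⁻¹ * q.1 ∈ Q := mul_mem (inv_mem h2) q.2.1
      have hgv : Commute g (r₀⁻¹ * q.1) := by
        refine mul_inv_eq_iff_eq_mul.1 ?_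
        calc g * (r₀⁻¹ * q.1) * g⁻¹ = r₀⁻¹ * (g * r₀ * g⁻¹ * r₀⁻¹)⁻¹ * (g * q.1 * g⁻¹ * q.1⁻¹) * q.1 := by group
          _ = r₀⁻¹ * q.1 := by rw [h1]; group
      rcases h.cent_g_le hS hloc hY hW hs hg hgW hS₁ hPS₁ hxS₁ hgS₁ (hcent _ (hQS _ hvQ).1 (hQS _ hvQ).2) hgv
        with hh | hh
      · exact hh
      · refine absurd ?_ hxQ
        have h3 := mul_mem (inv_mem hvQ) (hEQ hh)
        rwa [inv_mul_cancel_left] at h3
    refine Nat.card_le_card_of_injective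
      (fun q : Q' => ((⟨_, q.2.2⟩, ⟨_, hkey q⟩) : E × E)) fun q q' e => Subtype.ext ?_
    have e1 := congrArg Prod.fst e
    have e2 := congrArg (fun p : E × E => (p.2 : G)) e
    simp only at e1 e2
    rw [← mul_inv_cancel_left (r ⟨_, q.2.2⟩) q.1, e2, e1, mul_inv_cancel_left]
  let D := S ⊓ centralizer ({g} : Set G)
  have hDm : ∀ d, d ∈ D ↔ d ∈ S ∧ Commute d g := fun d => by
    rw [mem_inf, mem_centralizer_singleton_iff]; rfl
  have hDcard : Nat.card S ≤ Nat.card E * Nat.card E * Nat.card D := by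
    rw [card_eq_card_quotient_mul_card_subgroup (D.subgroupOf S),
      Nat.card_congr (subgroupOfEquivOfLe (show D ≤ S from inf_le_left)).toEquiv]
    refine Nat.mul_le_mul_right _ (le_trans ?_ hQ')
    choose qf hqQ hqE hqeq using hconj
    refine Nat.card_le_card_of_injective
      (fun ξ : S ⧸ D.subgroupOf S => (⟨qf ξ.out ξ.out.2, hqQ _ _, hqE _ _⟩ : Q')) fun ξ η e => ?_
    rw [← QuotientGroup.out_eq' ξ, ← QuotientGroup.out_eq' η]
    refine QuotientGroup.eq.2 (mem_subgroupOf.2 ((hDm _).2 ⟨mul_mem (inv_mem ξ.out.2) η.out.2, ?_⟩))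
    have e1 : (ξ.out : G) * g * (ξ.out : G)⁻¹ = (η.out : G) * g * (η.out : G)⁻¹ := by
      have e2 := congrArg Subtype.val e
      simp only at e2
      rw [← hqeq _ ξ.out.2, ← hqeq _ η.out.2] at e2
      exact mul_right_cancel e2
    refine mul_inv_eq_iff_eq_mul.1 ?_
    calc (ξ.out : G)⁻¹ * η.out * g * ((ξ.out : G)⁻¹ * η.out)⁻¹
        = (ξ.out : G)⁻¹ * ((η.out : G) * g * (η.out : G)⁻¹) * ξ.out := by group
      _ = g := by rw [← e1]; group
  have hD4 : 2 ^ (2 * β + 1) * 2 ≤ Nat.card D := by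
    have h1 := hY.card_ge.trans hDcard
    rw [hs, Nat.add_sub_cancel, hT, hβ, hcE] at h1
    refine Nat.le_of_mul_le_mul_left (le_trans (le_of_eq ?_) h1) (by positivity : 0 < 2 ^ β * 2 ^ β)
    rw [pow_succ, two_mul, pow_add]
    ring
  -- the points
  let X := {d : G ⧸ M // g • d = d ∧ d ≠ base M}
  let X₀ := {d : X // ∃ e ∈ E, (e * x) • d.1 = d.1}
  have hX : Nat.card X = (2 ^ β) ^ 3 := by
    have e1 := h.fix_eq hgb hF.bad
    rw [hs, fix, hβ, ← Nat.card_congr (Equiv.optionSubtypeNe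
      (⟨base M, (hF.fix_T g hg).1⟩ : {d : G ⧸ M // g • d = d})), Finite.card_option] at e1
    rw [← Nat.succ_injective e1]
    exact Nat.card_congr ⟨fun d => ⟨⟨d.1, d.2.1⟩, fun hh => d.2.2 (congrArg Subtype.val hh)⟩,
      fun d => ⟨d.1.1, d.1.2, fun hh => d.2 (Subtype.ext hh)⟩, fun _ => rfl, fun _ => rfl⟩
  have hX₀pos : 0 < Nat.card X₀ := by
    haveI : Nonempty X₀ := ⟨⟨⟨a, (hF.fix_T g hg).2, hF.ne⟩, 1, one_mem E, by rw [one_mul, hF.fix_pt]⟩⟩
    exact Nat.card_pos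
  have hX₀le : Nat.card X₀ ≤ 2 ^ β * 2 ^ β := by
    letI : Fintype E := Fintype.ofFinite E
    let Y := fun e : E => {d : G ⧸ M // ((e * x : G) • d = d ∧ g • d = d) ∧ d ≠ base M}
    have hYle : ∀ e : E, Nat.card (Y e) ≤ deg M z + 1 := by
      intro e
      obtain ⟨u, hu, hux⟩ : ∃ u ∈ S₁, u * x * u⁻¹ = e * x := by
        obtain ⟨u, hu, hux⟩ := hY.surj e e.2
        rcases hcov u hu with hh | hh
        · exact ⟨u, hh, hux⟩
        · exact ⟨u * g, hh, by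
            rw [show u * g * x * (u * g)⁻¹ = u * (g * x * g⁻¹) * u⁻¹ by group, ← (hF.cent g hg).eq,
              mul_inv_cancel_right, hux]⟩
      have huS := hS₁ hu
      have hg'x : Commute x (u⁻¹ * g * u) := by
        have h1 : Commute (e * x : G) g :=
          (hY.centE g hgS e e.2).symm.mul_left (hF.cent g hg)
        rw [← hux] at h1
        have h2 := h1.map (MulAut.conj u⁻¹).toMonoidHom
        simpa [mul_assoc] using h2
      have hg'n : u⁻¹ * g * u ∉ S₁ := fun hh => hgS₁ (by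
        have h1 := mul_mem (mul_mem hu hh) (inv_mem hu)
        rwa [show u * (u⁻¹ * g * u) * u⁻¹ = g by group] at h1)
      refine le_trans (Nat.card_le_card_of_injective (fun d : Y e =>
        (⟨u⁻¹ • d.1, ⟨?_, by rw [mul_smul, mul_smul, smul_inv_smul, d.2.1.2]⟩, fun hh => d.2.2 (by
          rw [inv_smul_eq_iff.1 hh, hY.smul u huS])⟩ :
          {d : G ⧸ M // (x • d = d ∧ (u⁻¹ * g * u) • d = d) ∧ d ≠ base M})) fun d d' hh =>
            Subtype.ext (smul_left_cancel u⁻¹ (congrArg Subtype.val hh))) (h.card_common_le hS hloc hY hW hs hg hgW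
              hS₁ hPS₁ hxS₁ hgS₁ (mul_mem (mul_mem (inv_mem huS) hgS) huS) hg'x hg'n)
      have h1 : (u * x * u⁻¹) • d.1 = d.1 := by rw [hux]; exact d.2.1.1
      rw [mul_smul, mul_smul] at h1
      exact eq_inv_smul_iff.2 h1
    calc Nat.card X₀ ≤ Nat.card (Σ e : E, Y e) := by
          choose ef hef hed using fun d : X₀ => d.2
          refine Nat.card_le_card_of_injective
            (fun d => ⟨⟨ef d, hef d⟩, ⟨d.1.1, ⟨hed d, d.1.2.1⟩, d.1.2.2⟩⟩) fun d d' hh =>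
              Subtype.ext (Subtype.ext (congrArg (fun s : Σ e : E, Y e => s.2.1) hh))
      _ ≤ ∑ _e : E, (deg M z + 1) := by rw [Nat.card_sigma]; exact Finset.sum_le_sum fun e _ => hYle e
      _ = _ := by rw [Finset.sum_const, Finset.card_univ, ← Nat.card_eq_fintype_card, hcE, hβ, smul_eq_mul]
  -- a stabilizer of order four
  obtain ⟨b, ⟨hgb', hbp⟩, hb0, hU2⟩ : ∃ b : G ⧸ M, (g • b = b ∧ b ≠ base M) ∧
      (∀ e ∈ E, (e * x) • b ≠ b) ∧ 2 < Nat.card (D ⊓ MulAction.stabilizer G b : Subgroup G) := by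
    by_contra hh
    push Not at hh
    letI : MulAction D (G ⧸ M) := MulAction.compHom _ D.subtype
    let Y := {d : G ⧸ M // (g • d = d ∧ d ≠ base M) ∧ ∀ e ∈ E, (e * x) • d ≠ d}
    have hkeep : ∀ (u : D) (d : G ⧸ M), ((g • d = d ∧ d ≠ base M) ∧ ∀ e ∈ E, (e * x) • d ≠ d) →
        ((g • u • d = u • d ∧ u • d ≠ base M) ∧ ∀ e ∈ E, (e * x) • u • d ≠ u • d) := by
      rintro ⟨u, hu⟩ d ⟨⟨hd1, hd2⟩, hd3⟩
      obtain ⟨huS, hug⟩ := (hDm u).1 hu
      refine ⟨⟨?_, fun hh' => hd2 (smul_left_cancel u (hh'.trans (hY.smul u huS).symm))⟩, fun e he hh' => ?_⟩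
      · show g • u • d = u • d
        rw [smul_smul, ← hug.eq, mul_smul, hd1]
      · change (e * x) • u • d = u • d at hh'
        have h1 := hY.coset u⁻¹ (inv_mem huS)
        rw [inv_inv] at h1
        refine hd3 _ (mul_mem (h.conj_mem (hY.smul u⁻¹ (inv_mem huS)) he) h1) ?_
        rw [show u⁻¹ * e * u⁻¹⁻¹ * (u⁻¹ * x * u * x) * x = u⁻¹ * (e * x) * u * (x * x) by group, hxx, mul_one,
          mul_smul, mul_smul, hh', inv_smul_smul]
    letI : MulAction D Y :=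
      { smul := fun u d => ⟨u • d.1, hkeep u d.1 d.2⟩
        one_smul := fun d => Subtype.ext (one_smul D d.1)
        mul_smul := fun u v d => Subtype.ext (mul_smul u v d.1) }
    obtain ⟨k, hk⟩ := IsPGroup.iff_card.1 (hY.two.to_le (show D ≤ S from inf_le_left))
    have hdvd : 2 ^ (2 * β + 1) ∣ Nat.card Y := by
      refine dvd_card_of_stabilizer_le (k := k) (t := 2) hk (fun d => ?_) (hk ▸ hD4)
      refine le_trans (le_of_eq ?_) (hh d.1 d.2.1 d.2.2)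
      exact Nat.card_congr ⟨fun u => ⟨u.1.1, u.1.2, (congrArg Subtype.val u.2 : _)⟩,
        fun u => ⟨⟨u.1, u.2.1⟩, Subtype.ext u.2.2⟩, fun _ => rfl, fun _ => rfl⟩
    have hsum : Nat.card X₀ + Nat.card Y = Nat.card X := by
      rw [← Nat.card_sum]
      refine Nat.card_congr
        { toFun := Sum.elim (fun d => d.1) (fun d => ⟨d.1, d.2.1⟩)
          invFun := fun d => if hh' : ∃ e ∈ E, (e * x) • d.1 = d.1 then Sum.inl ⟨d, hh'⟩
            else Sum.inr ⟨d.1, d.2, fun e he hed => hh' ⟨e, he, hed⟩⟩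
          left_inv := ?_
          right_inv := fun d => by by_cases hh' : ∃ e ∈ E, (e * x) • d.1 = d.1 <;> simp [hh'] }
      rintro (⟨d, hd⟩ | ⟨d, hd1, hd2⟩)
      · simp [hd]
      · simp [show ¬ ∃ e ∈ E, (e * x) • d = d from fun ⟨e, he, hed⟩ => hd2 e he hed]
    rw [hX, ← pow_mul] at hsum
    have h1 : 2 ^ (2 * β + 1) ∣ Nat.card X₀ := (Nat.dvd_add_left hdvd).1 (by
      rw [hsum]; exact Nat.pow_dvd_pow 2 (by omega))
    have h2 := Nat.le_of_dvd hX₀pos h1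
    rw [pow_succ, two_mul, pow_add] at h2
    have : 0 < 2 ^ β * 2 ^ β := by positivity
    omega
  set U := D ⊓ MulAction.stabilizer G b with hUdef
  have hUm : ∀ u ∈ U, u ∈ S ∧ Commute u g ∧ u • b = b := fun u hu => by
    obtain ⟨h1, h2⟩ := mem_inf.1 hu
    exact ⟨((hDm u).1 h1).1, ((hDm u).1 h1).2, h2⟩
  have hU2g : IsPGroup 2 U := hY.two.to_le fun u hu => (hUm u hu).1
  have hUfix : ∀ u ∈ U, u • base M = base M ∧ u • b = b := fun u hu => ⟨hY.smul u (hUm u hu).1, (hUm u hu).2.2⟩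
  have hU4 : Nat.card U = 4 := h.card_eq_four hU2g hU2 (hT ▸ hF.max U b hU2g hbp hUfix)
  have hgU : g ∈ U := mem_inf.2 ⟨(hDm g).2 ⟨hgS, Commute.refl g⟩, hgb'⟩
  obtain ⟨h₁, hh₁U, hh₁S, hh₁1⟩ : ∃ h₁ ∈ U, h₁ ∈ S₁ ∧ h₁ ≠ 1 := by
    by_contra hh
    push Not at hh
    have hsub : ∀ u ∈ U, u = 1 ∨ u = g := fun u hu => by
      rcases hcov u (hUm u hu).1 with h1 | h1
      · exact Or.inl (hh u hu h1)
      · exact Or.inr (by
          rw [eq_inv_of_mul_eq_one_left (hh _ (mul_mem hu hgU) h1), inv_eq_of_mul_eq_one_right hgg])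
    have h1 : Nat.card U ≤ Nat.card Bool := Nat.card_le_card_of_injective (fun u : U => decide (u.1 = 1))
      fun u v e => Subtype.ext (by
        rcases hsub u u.2 with e1 | e1 <;> rcases hsub v v.2 with e2 | e2 <;> simp_all)
    simp at h1
    omega
  have hzero : ∀ e ∈ E, e • b = b → e = 1 := fun e he heb => h.eq_one_of_grp_fix he hbp heb
  have hh₁2 : h₁ * h₁ = 1 := hzero _ (hsqS h₁ hh₁S) (by
    rw [mul_smul, (hUm h₁ hh₁U).2.2, (hUm h₁ hh₁U).2.2])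
  have hh₁o : orderOf h₁ = 2 := invol_iff.2 ⟨hh₁2, hh₁1⟩
  have hh₁g : Commute g h₁ := (hUm h₁ hh₁U).2.1.symm
  have hh₁x : ¬ Commute x h₁ := fun hcm => by
    obtain ⟨q, hq, e | e⟩ := hQdec h₁ hh₁S hcm
    · subst e
      exact hh₁1 (hzero _ (hQi _ hq hh₁2) (hUm _ hh₁U).2.2)
    · subst e
      rw [(hQS q hq).2.mul_mul_mul_comm, hxx, mul_one] at hh₁2
      exact hb0 q (hQi q hq hh₁2) (hUm _ hh₁U).2.2
  refine ⟨h₁, b, U, hh₁S, hh₁g, hh₁x, hgU, hU4, ⟨⟨hh₁o, fun hh => hbp (h.res.crit.fix_unique hh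
    (hUfix h₁ hh₁U).2 (hUfix h₁ hh₁U).1)⟩, (hUfix h₁ hh₁U).1, (hUfix h₁ hh₁U).2, hbp, hU2g, ?_, hUfix, hh₁U,
    fun V d hV hd hVf => by rw [hU4, ← hT]; exact hF.max V d hV hd hVf⟩⟩
  intro u hu
  have key : ∀ v ∈ U, v ∈ S₁ → Commute h₁ v := fun v hv hv₁ => by
    refine mul_inv_eq_iff_eq_mul.1 (mul_inv_eq_one.1 (hzero _
      (comm_mem_of_sq (fun t ht e he => hY.centE t (hS₁ ht) e he) hsqS hh₁S hv₁) ?_))
    rw [mul_smul, mul_smul, mul_smul, inv_smul_eq_iff.2 (hUm v hv).2.2.symm,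
      inv_smul_eq_iff.2 (hUm h₁ hh₁U).2.2.symm, (hUm v hv).2.2, (hUm h₁ hh₁U).2.2]
  rcases hcov u (hUm u hu).1 with h1 | h1
  · exact key u hu h1
  · have h2 := (key _ (mul_mem hu hgU) h1).mul_right hh₁g.symm.inv_right
    rwa [mul_inv_cancel_right] at h2

end CfsgLib.SECrit.Eq.EqRes
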