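import Cfsg.Agent.Lib.Invol.SECriterion.EqType.Big.SigmaAction
import Cfsg.Agent.Lib.Invol.SECriterion.EqType.Big.Basic
import Cfsg.Agent.Lib.Invol.SECriterion.EqType.Big.Central

/-!
# The strong embedding criterion, equal type, the sigma case: the half of `S` acting trivially

`T` is a four-group with pointwise part `⟨x⟩`.  The elements of `S` acting trivially on `P ⟨x⟩` modulo
`E ⟨x⟩` form a subgroup of index two missing `g ∈ T` outside the pointwise part.
-/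

set_option autoImplicit false
set_option linter.style.haveILetI false
set_option linter.unusedSectionVars false
set_option linter.ambiguousOpen false

namespace CfsgLib.SECrit.Eq.EqRes

open CfsgLib.Invol Small Subgroup

universe u

variable {G : Type u} [Group G] [Finite G] {M : Subgroup G} {z : G}

/-- Commutators lie where the squares do. -/
theorem comm_mem_of_sq {H : Subgroup G} {E : Subgroup G} (hcen : ∀ g ∈ H, ∀ e ∈ E, Commute g e)
    (hsq : ∀ g ∈ H, g * g ∈ E) {s t : G} (hs : s ∈ H) (ht : t ∈ H) : s * t * s⁻¹ * t⁻¹ ∈ E := by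
  rw [show s * t * s⁻¹ * t⁻¹ = (s * t) * (s * t) * (t⁻¹ * (s * s)⁻¹ * t) * (t * t)⁻¹ by group]
  refine mul_mem (mul_mem (hsq _ (mul_mem hs ht)) ?_) (inv_mem (hsq t ht))
  rw [mul_assoc, ← (hcen t ht _ (inv_mem (hsq s hs))).eq, inv_mul_cancel_left]
  exact inv_mem (hsq s hs)

/-- A set kept by conjugation is kept by the powers. -/
theorem conj_pow_mem {A : Subgroup G} {c : G} (hc : ∀ v ∈ A, c * v * c⁻¹ ∈ A) :
    ∀ (i : ℕ), ∀ v ∈ A, c ^ i * v * (c ^ i)⁻¹ ∈ A
  | 0, v, hv => by simpa using hv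
  | i + 1, v, hv => by
    rw [show c ^ (i + 1) * v * (c ^ (i + 1))⁻¹ = c * (c ^ i * v * (c ^ i)⁻¹) * c⁻¹ by rw [pow_succ']; group]
    exact hc _ (conj_pow_mem hc i v hv)

/-- So by the inverse. -/
theorem conj_inv_mem {A : Subgroup G} {c : G} (hc : ∀ v ∈ A, c * v * c⁻¹ ∈ A) {v : G} (hv : v ∈ A) :
    c⁻¹ * v * c ∈ A := by
  have h1 := conj_pow_mem hc (orderOf c - 1) v hv
  rwa [show c ^ (orderOf c - 1) = c⁻¹ from eq_inv_of_mul_eq_one_left (by
    rw [← pow_succ, Nat.sub_add_cancel (orderOf_pos c), pow_orderOf_eq_one]), inv_inv] at h1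

variable (h : EqRes M z) (hS : Setup M z) (hloc : ∀ x, IsBad M x → Local M z x) {x : G} {a : G ⧸ M}
  {T P S : Subgroup G} (hY : h.Sylo x a T P S) (hW : ∀ w ∈ T ⊓ ptwise M z x, w = 1 ∨ w = x)
include h hS hloc hY hW

theorem sigma_mem_regPtwise {v : G} :
    v ∈ P ⊔ (T ⊓ ptwise M z x) ↔ ∃ p ∈ P, v = p ∨ v = p * x := by
  rw [h.mem_regPtwise hS hloc hY]
  constructor
  · rintro ⟨p, hp, w, hw, rfl⟩
    rcases hW w hw with rfl | rfl
    · exact ⟨p, hp, Or.inl (mul_one p)⟩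
    · exact ⟨p, hp, Or.inr rfl⟩
  · rintro ⟨p, hp, rfl | rfl⟩
    · exact ⟨v, hp, 1, one_mem _, (mul_one v).symm⟩
    · exact ⟨p, hp, x, h.self_mem_ptwise hS hloc hY, rfl⟩

theorem sigma_grp_le : h.res.grp (base M) ≤ P := fun e he => by
  refine hY.reg.line_le ?_
  rwa [h.lineGrp_eq hY.frame.bad hY.frame.fix_base]

/-- An element of `P` fixing `a` is trivial or `x`. -/
theorem sigma_fix {p : G} (hp : p ∈ P) (hpa : p • a = a) : p = 1 ∨ p = x :=
  hW p (h.regKer_le hS hloc hY hp (hY.reg.free p hp a hY.frame.fix_pt hY.frame.ne hpa))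

theorem sigma_invol {v : G} (hv : v ∈ P ⊔ (T ⊓ ptwise M z x)) :
    v * v = 1 ↔ v ∈ h.res.grp (base M) ∨ v * x ∈ h.res.grp (base M) := by
  have hF := hY.frame
  have hxx := invol_mul_self hF.bad.invol
  constructor
  · intro hvv
    obtain ⟨p, hp, hv'⟩ := (h.sigma_mem_regPtwise hS hloc hY hW).1 hv
    have hpp : p * p = 1 := by
      rcases hv' with rfl | rfl
      · exact hvv
      · rwa [(hY.commute_reg hp).symm.symm.mul_mul_mul_comm, hxx, mul_one] at hvv
    obtain ⟨e, he, hek⟩ := hY.reg.invol p hp (by rw [hpp]; exact one_mem _)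
    rw [h.lineGrp_eq hF.bad hF.fix_base] at he
    have hee := h.res.grp_sq he
    rcases hW _ (h.regKer_le hS hloc hY (mul_mem (h.sigma_grp_le hS hloc hY hW he) hp) hek) with h1 | h1
    · obtain rfl : e = p := by rw [eq_inv_of_mul_eq_one_right h1, inv_eq_of_mul_eq_one_right hee]
      rcases hv' with rfl | rfl
      · exact Or.inl he
      · exact Or.inr (by rwa [mul_assoc, hxx, mul_one])
    · have hpe : p = e * x := by rw [← h1, ← mul_assoc, hee, one_mul]
      rcases hv' with rfl | rfl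
      · exact Or.inr (by rwa [hpe, mul_assoc, hxx, mul_one])
      · exact Or.inl (by rwa [hpe, mul_assoc, hxx, mul_one])
  · rintro (hh | hh)
    · exact h.res.grp_sq hh
    · have e1 : v = v * x * x := by rw [mul_assoc, hxx, mul_one]
      rw [e1, (h.commute_grp hF.bad hF.fix_base hh).mul_mul_mul_comm, h.res.grp_sq hh, hxx, one_mul]

theorem sigma_keep {d v : G} (hdx : Commute d x) (hdp : d • base M = base M)
    (hv : v ∈ P ⊔ (T ⊓ ptwise M z x)) : d * v * d⁻¹ ∈ P ⊔ (T ⊓ ptwise M z x) := by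
  obtain ⟨p, hp, hv'⟩ := (h.sigma_mem_regPtwise hS hloc hY hW).1 hv
  refine (h.sigma_mem_regPtwise hS hloc hY hW).2 ⟨d * p * d⁻¹, regTwo_conj hY.reg hdx.symm hdp hp, ?_⟩
  rcases hv' with rfl | rfl
  · exact Or.inl rfl
  · refine Or.inr ?_
    rw [show d * (p * x) * d⁻¹ = d * p * d⁻¹ * (d * x * d⁻¹) by group, hdx.eq, mul_inv_cancel_right]

theorem pow_smul_base {c : G} (hcp : c • base M = base M) : ∀ i : ℕ, (c ^ i) • base M = base M
  | 0 => by rw [pow_zero, one_smul]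
  | i + 1 => by rw [pow_succ', mul_smul, pow_smul_base hcp i, hcp]

variable {c : G} (hc : h.Tor x T S c) (hT : Nat.card T = 4)
include hc hT

/-- **The half of `S` acting trivially.** -/
theorem exists_sigma_kernel {g : G} (hg : g ∈ T) (hgW : g ∉ ptwise M z x) :
    ∃ S₁ : Subgroup G, S₁ ≤ S ∧ P ≤ S₁ ∧ x ∈ S₁ ∧ (∀ s ∈ S₁, c * s * c⁻¹ ∈ S₁) ∧ g ∉ S₁ ∧
      (∀ s ∈ S, s ∈ S₁ ∨ s * g ∈ S₁) ∧ (∀ s ∈ S₁, Commute x s → ∃ v ∈ P, s = v ∨ s = v * x) := by
  classical
  have hF := hY.frame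
  have hP := hY.reg
  have hTE := h.sylo_TE hS hloc hY
  set N := P ⊔ (T ⊓ ptwise M z x) with hN
  set E := h.res.grp (base M) with hEdef
  have hxx := invol_mul_self hF.bad.invol
  have hEc : ∀ e ∈ E, Commute x e := fun e he => h.commute_grp hF.bad hF.fix_base he
  let N₀ : Subgroup G :=
    { carrier := {v | v ∈ E ∨ v * x ∈ E}
      one_mem' := Or.inl (one_mem E)
      mul_mem' := fun {u v} hu hv => by
        rcases hu with hu | hu <;> rcases hv with hv | hv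
        · exact Or.inl (mul_mem hu hv)
        · exact Or.inr (by rw [mul_assoc]; exact mul_mem hu hv)
        · exact Or.inr (by rw [mul_assoc, ← (hEc v hv).eq, ← mul_assoc]; exact mul_mem hu hv)
        · refine Or.inl ?_
          have e1 : u * v = u * x * (v * x) := by
            rw [mul_assoc u x, (hEc _ hv).eq, mul_assoc v x x, hxx, mul_one]
          rw [e1]; exact mul_mem hu hv
      inv_mem' := fun {u} hu => by
        rcases hu with hu | hu
        · exact Or.inl (inv_mem hu)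
        · refine Or.inr ?_
          have e1 : u⁻¹ * x = x * (u * x)⁻¹ * x := by
            rw [_root_.mul_inv_rev, invol_inv hF.bad.invol, ← mul_assoc, hxx, one_mul]
          rw [e1, ((hEc _ (inv_mem hu))).eq, mul_assoc, hxx, mul_one]
          exact inv_mem hu }
  have hN₀m : ∀ v, v ∈ N₀ ↔ v ∈ E ∨ v * x ∈ E := fun _ => Iff.rfl
  have hEN : E ≤ N := fun e he => mem_sup_left (h.sigma_grp_le hS hloc hY hW he)
  have hxN : x ∈ N := mem_sup_right (h.self_mem_ptwise hS hloc hY)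
  have hNS : ∀ v ∈ N, v ∈ S ∧ Commute x v := fun v hv => h.regPtwise_le hS hloc hY hv
  have hN₀ : ∀ v, v ∈ N₀ ↔ v ∈ N ∧ v * v = 1 := fun v => by
    refine ⟨fun hv => ?_, fun hv => (h.sigma_invol hS hloc hY hW hv.1).1 hv.2⟩
    have hvN : v ∈ N := by
      rcases (hN₀m v).1 hv with hh | hh
      · exact hEN hh
      · simpa [mul_assoc, hxx] using mul_mem (hEN hh) hxN
    exact ⟨hvN, (h.sigma_invol hS hloc hY hW hvN).2 hv⟩
  have hN₀c : ∀ n ∈ N₀, ∀ v ∈ N, Commute n v := fun n hn v hv => by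
    rcases (hN₀m n).1 hn with hh | hh
    · exact (hY.centE v (hNS v hv).1 n hh).symm
    · rw [show n = n * x * x by rw [mul_assoc, hxx, mul_one]]
      exact (hY.centE v (hNS v hv).1 _ hh).symm.mul_left (hNS v hv).2
  have hsqN : ∀ v ∈ N, v * v ∈ E := fun v hv => h.sq_mem hS hloc hY ((h.mem_regPtwise hS hloc hY).1 hv)
  have hcommN : ∀ u ∈ N, ∀ v ∈ N, u * v * u⁻¹ * v⁻¹ ∈ N₀ := fun u hu v hv => Or.inl
    (comm_mem_of_sq (H := N) (fun w hw e he => hY.centE w (hNS w hw).1 e he) hsqN hu hv)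
  have hnorm : ∀ s ∈ S, ∀ v ∈ N, s * v * s⁻¹ ∈ N := fun s hs v hv => h.conj_mem_regPtwise hS hloc hY hs hv
  -- `g` moves `N`
  have hmove : ∃ v ∈ N, g * v * g⁻¹ * v⁻¹ ∉ N₀ := by
    obtain ⟨u, hu, -, hne⟩ := h.exists_moved hS hloc hF hP hTE hg hgW ⊤ fun _ _ _ _ _ _ => mem_top _
    refine ⟨u, mem_sup_left hu, fun hh => ?_⟩
    set d := g * u * g⁻¹ * u⁻¹ with hd
    have hdP : d ∈ P := mul_mem (regTwo_conj hP (hF.cent g hg) (hF.fix_T g hg).1 hu) (inv_mem hu)
    rcases (hN₀m d).1 hh with hh | hh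
    · exact hne ⟨d, hh, by rw [h.res.grp_sq hh]; exact one_mem _⟩
    · refine hne ⟨d * x, hh, ?_⟩
      have hxP : x ∈ P := by
        have h1 := mul_mem (inv_mem hdP) (h.sigma_grp_le hS hloc hY hW hh)
        rwa [inv_mul_cancel_left] at h1
      have h2 : d * x * (d * x) = 1 := h.res.grp_sq hh
      have h3 : d * x * d = x := by
        calc d * x * d = d * x * (d * x) * x := by simp only [mul_assoc, hxx, mul_one]
          _ = x := by rw [h2, one_mul]
      rw [h3]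
      exact hP.free x hxP a hF.fix_pt hF.ne hF.fix_pt
  -- the torus
  have htr : ∀ e ∈ E, ∀ f ∈ E, e ≠ 1 → f ≠ 1 → ∃ d : G, (∀ v ∈ N, d * v * d⁻¹ ∈ N) ∧
      (∀ s ∈ S, d * s * d⁻¹ ∈ S ∧ d⁻¹ * s * d ∈ S) ∧ (∀ u ∈ E, d * u * d⁻¹ ∈ E) ∧ d * e * d⁻¹ = f := by
    intro e he f hf he1 hf1
    obtain ⟨i, hi⟩ := hc.trans e he f hf he1 hf1
    have hp := h.pow_smul_base hS hloc hY hW hc.smul i
    refine ⟨c ^ i, fun v hv => h.sigma_keep hS hloc hY hW (hc.comm.pow_left i) hp hv,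
      fun s hs => ⟨conj_pow_mem hc.norm i s hs, conj_inv_mem (conj_pow_mem hc.norm i) hs⟩,
      fun u hu => h.conj_mem hp hu, hi⟩
  -- the order of `N`
  have hxT : N ≤ P ⊔ T := sup_le_sup_left inf_le_left P
  have hcard : Nat.card N ≤ Nat.card E ^ 2 * Nat.card N₀ := by
    obtain ⟨hfix, -⟩ := h.fix_count hS hloc hF hP hTE hg
      (h.mul_mem_ptwise hS hloc hF hP hTE hg hg hgW hgW) hgW
    have h1 : Nat.card (P ⊔ T : Subgroup G) ≤ (fix M x - 1) * Nat.card T :=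
      hY.card_le_cent hF.bad hF.fix_base hY.sup_le fun v hv => hY.sup_comm' hv
    have h2 : 2 * Nat.card N ≤ Nat.card (P ⊔ T : Subgroup G) := by
      obtain ⟨k, hk⟩ := Subgroup.card_dvd_of_le hxT
      have hk0 : k ≠ 0 := fun e => by rw [e, mul_zero] at hk; exact Nat.card_pos.ne' hk
      have hk1 : k ≠ 1 := fun e => by
        have h3 := eq_of_le_of_card_ge hxT (by rw [hk, e, mul_one])
        have h4 : g ∈ N := h3 ▸ mem_sup_right hg
        exact h.mul_notMem hS hloc hY (one_mem P) hg hgW (by rwa [one_mul])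
      rw [hk, mul_comm 2]
      exact Nat.mul_le_mul_left _ (by omega)
    have h3 : 2 * Nat.card E ≤ Nat.card N₀ := by
      rw [show 2 * Nat.card E = Nat.card (Bool × E) by rw [Nat.card_prod]; simp]
      refine Nat.card_le_card_of_injective (fun r => (⟨if r.1 then (r.2 : G) * x else r.2, by
        rcases r with ⟨_ | _, e⟩
        · exact Or.inl e.2
        · exact Or.inr (by simp [mul_assoc, hxx])⟩ : N₀)) ?_
      rintro ⟨_ | _, e⟩ ⟨_ | _, e'⟩ hh <;> have hh' := congrArg Subtype.val hh <;>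
        simp only [Bool.false_eq_true, if_false, if_true] at hh'
      · rw [Subtype.ext hh']
      · refine absurd ?_ (h.bad_notMem hF.bad)
        have h4 := mul_mem (inv_mem e'.2) e.2
        rwa [hh', inv_mul_cancel_left] at h4
      · refine absurd ?_ (h.bad_notMem hF.bad)
        have h4 := mul_mem (inv_mem e.2) e'.2
        rwa [← hh', inv_mul_cancel_left] at h4
      · rw [Subtype.ext (mul_right_cancel hh')]
    rw [hT, hfix, Nat.add_sub_cancel, ← h.res.card_grp (base M)] at h1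
    calc Nat.card N ≤ Nat.card E ^ 2 * (2 * Nat.card E) := by
          change Nat.card _ ≤ Nat.card E ^ 3 * 4 at h1
          have e1 : Nat.card E ^ 2 * (2 * Nat.card E) * 2 = Nat.card E ^ 3 * 4 := by ring
          omega
      _ ≤ _ := Nat.mul_le_mul_left _ h3
  have hE4 : 4 ≤ Nat.card E := by
    obtain ⟨β, hβ2, hβ⟩ := h.exists_card_grp
    rw [h.res.card_grp, hβ]
    calc 4 = 2 ^ 2 := rfl
      _ ≤ _ := Nat.pow_le_pow_right (by norm_num) hβ2
  let S₁ : Subgroup G :=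
    { carrier := {s | s ∈ S ∧ ∀ v ∈ N, s * v * s⁻¹ * v⁻¹ ∈ N₀}
      one_mem' := ⟨one_mem S, fun v _ => by simp⟩
      mul_mem' := fun {s t} hs ht => ⟨mul_mem hs.1 ht.1, fun v hv => by
        rw [show s * t * v * (s * t)⁻¹ * v⁻¹ =
          (s * (t * v * t⁻¹) * s⁻¹ * (t * v * t⁻¹)⁻¹) * (t * v * t⁻¹ * v⁻¹) by group]
        exact mul_mem (hs.2 _ (hnorm t ht.1 v hv)) (ht.2 v hv)⟩
      inv_mem' := fun {s} hs => ⟨inv_mem hs.1, fun v hv => by
        have h1 := hs.2 _ (by have := hnorm s⁻¹ (inv_mem hs.1) v hv; simpa using this : s⁻¹ * v * s ∈ N)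
        have h2 := inv_mem h1
        rwa [show (s * (s⁻¹ * v * s) * s⁻¹ * (s⁻¹ * v * s)⁻¹)⁻¹ = s⁻¹ * v * s⁻¹⁻¹ * v⁻¹ by group] at h2⟩ }
  have hNle : N ≤ S₁ := fun u hu => ⟨(hNS u hu).1, fun v hv => hcommN u hu v hv⟩
  have hgS : g ∉ S₁ := fun hh => by
    obtain ⟨v, hv, hne⟩ := hmove
    exact hne (hh.2 v hv)
  refine ⟨S₁, fun s hs => hs.1, fun p hp => hNle (mem_sup_left hp), hNle hxN, fun s hs => ?_, hgS,
    fun s hs => ?_, fun s hs hxs => ?_⟩
  · refine ⟨hc.norm s hs.1, fun v hv => ?_⟩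
    have hv' : c⁻¹ * v * c ∈ N := conj_inv_mem (fun w hw => h.sigma_keep hS hloc hY hW hc.comm hc.smul hw) hv
    have h1 := (hN₀ _).1 (hs.2 _ hv')
    refine (hN₀ _).2 ⟨?_, ?_⟩
    · rw [show c * s * c⁻¹ * v * (c * s * c⁻¹)⁻¹ * v⁻¹ =
        c * (s * (c⁻¹ * v * c) * s⁻¹ * (c⁻¹ * v * c)⁻¹) * c⁻¹ by group]
      exact h.sigma_keep hS hloc hY hW hc.comm hc.smul h1.1
    · rw [show c * s * c⁻¹ * v * (c * s * c⁻¹)⁻¹ * v⁻¹ * (c * s * c⁻¹ * v * (c * s * c⁻¹)⁻¹ * v⁻¹) =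
        c * ((s * (c⁻¹ * v * c) * s⁻¹ * (c⁻¹ * v * c)⁻¹) * (s * (c⁻¹ * v * c) * s⁻¹ * (c⁻¹ * v * c)⁻¹)) * c⁻¹ by
          group, h1.2]
      group
  · by_cases hs1 : s ∈ S₁
    · exact Or.inl hs1
    refine Or.inr ⟨mul_mem hs (hY.T_le hg), ?_⟩
    have h1 : ∃ v ∈ N, s * v * s⁻¹ * v⁻¹ ∉ N₀ := by
      by_contra hh
      push Not at hh
      exact hs1 ⟨hs, hh⟩
    exact Shape.mul_fix_of_moved hE4 (fun e he => h.res.grp_sq he) hY.two (fun v hv => (hNS v hv).1)
      hY.centE hsqN hN₀ hN₀c hcard hnorm htr hs (hY.T_le hg) h1 hmove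
  · obtain ⟨v, hv, t, ht, rfl⟩ := hY.decomp s hs.1 hxs
    refine (h.sigma_mem_regPtwise hS hloc hY hW).1 (mul_mem (mem_sup_left hv) (mem_sup_right ⟨ht, ?_⟩))
    by_contra htW
    have h1 : t ∈ S₁ := by
      have := mul_mem (inv_mem (hNle (mem_sup_left hv))) hs
      rwa [inv_mul_cancel_left] at this
    have h2 : t * g ∈ S₁ := hNle (mem_sup_right
      ⟨mul_mem ht hg, h.mul_mem_ptwise hS hloc hF hP hTE ht hg htW hgW⟩)
    exact hgS (by simpa using mul_mem (inv_mem h1) h2)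

end CfsgLib.SECrit.Eq.EqRes
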