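import Cfsg.Agent.Lib.Invol.SECriterion.EqType.Big.Pair

/-!
# The strong embedding criterion, equal type: the translates of the pointwise part

The translates of the pointwise part `W` by different members meet trivially, so they commute.  There are
`q - 1` of them in the centralizer of `x`, too many unless `W` is abelian.
-/

set_option autoImplicit false
set_option linter.style.haveILetI false
set_option linter.unusedSectionVars false
set_option linter.ambiguousOpen false

namespace CfsgLib.SECrit.Eq.EqRes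

open CfsgLib.Invol Small Subgroup

universe u

variable {G : Type u} [Group G] [Finite G] {M : Subgroup G} {z : G}

theorem conj_mem_locGroup {x g l : G} (hl : l ∈ locGroup z x) : g * l * g⁻¹ ∈ locGroup z (g * x * g⁻¹) := by
  induction hl using closure_induction with
  | mem d hd => exact mem_locGroup (hd.1.trans (isConj_iff.2 ⟨g, rfl⟩)) (hd.2.map (MulAut.conj g).toMonoidHom)
  | one => simp
  | mul a b _ _ iha ihb =>
    rw [show g * (a * b) * g⁻¹ = g * a * g⁻¹ * (g * b * g⁻¹) by group]; exact mul_mem iha ihb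
  | inv a _ iha => rw [show g * a⁻¹ * g⁻¹ = (g * a * g⁻¹)⁻¹ by group]; exact inv_mem iha

theorem conj_mem_ptwise {x g w : G} (hw : w ∈ ptwise M z x) : g * w * g⁻¹ ∈ ptwise M z (g * x * g⁻¹) := by
  refine mem_ptwise.2 ⟨(ptwise_comm hw).map (MulAut.conj g).toMonoidHom, fun l hl => ?_, fun b hb => ?_⟩
  · have h1 := conj_mem_locGroup (g := g⁻¹) hl
    rw [show g⁻¹ * (g * x * g⁻¹) * g⁻¹⁻¹ = x by group] at h1
    have h2 := ((mem_ptwise.1 hw).2.1 _ h1).map (MulAut.conj g).toMonoidHom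
    simpa [mul_assoc] using h2
  · have hb' : x • g⁻¹ • b = g⁻¹ • b := by
      rw [mul_smul, mul_smul] at hb
      exact eq_inv_smul_iff.2 hb
    rw [mul_smul, mul_smul, ptwise_fix hw hb', smul_inv_smul]

theorem conj_mem_ptwise_of_comm {x g w : G} (hxg : Commute x g) (hw : w ∈ ptwise M z x) :
    g * w * g⁻¹ ∈ ptwise M z x := by
  have h1 := conj_mem_ptwise (g := g) hw
  rwa [show g * x * g⁻¹ = x by rw [← hxg.eq, mul_inv_cancel_right]] at h1

theorem ptwise_of_locKer {x k : G} (hl : Local M z x) (hk : k ∈ locKer M z x) : k ∈ ptwise M z x :=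
  mem_ptwise.2 ⟨commute_of_mem_locGroup (mem_locKer.1 hk).1, fun l hl' => (hl.ker_comm k hk l hl').symm,
    (mem_locKer.1 hk).2⟩

theorem commute_mul_left_iff {n m a : G} (hn : Commute n a) : Commute (n * m) a ↔ Commute m a :=
  ⟨fun h => by simpa using (hn.inv_left.mul_left h), fun h => hn.mul_left h⟩

theorem commute_mul_right_iff {n m a : G} (hm : Commute m a) : Commute (n * m) a ↔ Commute n a :=
  ⟨fun h => by simpa using (h.mul_left hm.inv_left), fun h => h.mul_left hm⟩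

variable (h : EqRes M z) (hS : Setup M z) (hloc : ∀ x, IsBad M x → Local M z x) {x : G} {a : G ⧸ M}
  {T P S : Subgroup G} (hY : h.Sylo x a T P S)
include h hS hloc hY

theorem sylo_TE : ∀ t ∈ T, ∀ e ∈ h.res.grp (base M), Commute t e := fun t ht => hY.centE t (hY.T_le ht)

/-- The pointwise part of `S` lies in `T`. -/
theorem mem_T_of_ptwise {g : G} (hg : g ∈ S) (hgW : g ∈ ptwise M z x) : g ∈ T := by
  have hF := hY.frame
  have hle : T ⊔ (S ⊓ ptwise M z x) ≤ S := sup_le hY.T_le inf_le_left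
  have hst : T ⊔ (S ⊓ ptwise M z x) ≤ MulAction.stabilizer G a ⊓ MulAction.stabilizer G (base M) :=
    sup_le (fun t ht => ⟨(hF.fix_T t ht).2, (hF.fix_T t ht).1⟩)
      fun k hk => ⟨ptwise_fix hk.2 hF.fix_pt, ptwise_fix hk.2 hF.fix_base⟩
  have hcard := hF.max _ a (hY.two.to_le hle) hF.ne fun k hk => ⟨(hst hk).2, (hst hk).1⟩
  rw [eq_of_le_of_card_ge (le_sup_left : T ≤ T ⊔ (S ⊓ ptwise M z x)) hcard]
  exact mem_sup_right ⟨hg, hgW⟩

theorem exists_translation_coset {g : G} (hg : g ∈ S) : ∃ e ∈ h.res.grp (base M), g * x * g⁻¹ = e * x :=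
  ⟨_, hY.coset g hg, by rw [mul_assoc (g * x * g⁻¹), invol_mul_self hY.frame.bad.invol, mul_one]⟩

/-- `S` keeps the centralizer of `x` in it. -/
theorem conj_comm_x {g v : G} (hg : g ∈ S) (hv : v ∈ S) (hxv : Commute x v) : Commute x (g * v * g⁻¹) := by
  obtain ⟨e, he, hge⟩ := h.exists_translation_coset hS hloc hY hg
  have h1 : Commute (e * x) (g * v * g⁻¹) := hge ▸ hxv.map (MulAut.conj g).toMonoidHom
  have h2 := (hY.centE _ (mul_mem (mul_mem hg hv) (inv_mem hg)) e he).symm.inv_left.mul_left h1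
  rwa [inv_mul_cancel_left] at h2

/-- Different translates of the pointwise part meet trivially. -/
theorem eq_one_of_translate {g e u : G} (he : e ∈ h.res.grp (base M)) (he1 : e ≠ 1)
    (hge : g * x * g⁻¹ = e * x) (hgp : g • base M = base M) (hu : u ∈ T) (huW : u ∈ ptwise M z x)
    (hug : g * u * g⁻¹ ∈ ptwise M z x) : u = 1 := by
  classical
  haveI : Fact (Nat.Prime 2) := ⟨Nat.prime_two⟩
  have hF := hY.frame
  by_contra hu1
  obtain ⟨k, hk⟩ := hF.two ⟨u, hu⟩
  obtain ⟨j, -, hj⟩ := (Nat.dvd_prime_pow Nat.prime_two).1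
    (orderOf_dvd_of_pow_eq_one (show u ^ 2 ^ k = 1 from congrArg Subtype.val hk))
  have heven : Even (orderOf u) := by
    rcases j with - | j
    · exact absurd (orderOf_eq_one_iff.1 (by rw [hj, pow_zero])) hu1
    · rw [hj]; exact Nat.even_pow.2 ⟨even_two, j.succ_ne_zero⟩
  set n := orderOf u / 2
  have ho : orderOf (u ^ n) = 2 := orderOf_pow_half heven
  set i := g * u ^ n * g⁻¹ with hi
  have hiW : i ∈ ptwise M z x := by rw [hi, ← conj_pow]; exact pow_mem hug _
  have hib : Bad z i :=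
    ⟨invol_conj ho g, fun hh => hF.ne (h.res.crit.fix_unique hh (ptwise_fix hiW hF.fix_pt) (ptwise_fix hiW hF.fix_base))⟩
  have hga : i • g • a = g • a := by
    rw [hi, mul_smul, mul_smul, inv_smul_smul, ptwise_fix (pow_mem huW n) hF.fix_pt]
  have hxga : x • g • a = g • a := by
    by_contra hne
    have h1 : Nat.card {b : G ⧸ M // x • b = b} < Nat.card {b : G ⧸ M // i • b = b} := by
      have h2 := Set.ncard_lt_ncard (s := {b : G ⧸ M | x • b = b}) (t := {b : G ⧸ M | i • b = b})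
        ⟨fun b hb => ptwise_fix hiW hb, fun hs => hne (hs hga)⟩ (Set.toFinite _)
      rwa [← Nat.card_coe_set_eq, ← Nat.card_coe_set_eq] at h2
    exact h1.ne (h.fix_eq hF.bad hib)
  have h2 : e • g • a = g • a := by
    have h3 : (e * x) • g • a = g • a := by rw [← hge, mul_smul, mul_smul, inv_smul_smul, hF.fix_pt]
    rwa [mul_smul, hxga] at h3
  exact hF.ne (smul_left_cancel g ((h.eq_of_grp_fix he he1 h2).trans hgp.symm))

/-- A translate of the pointwise part commutes with it. -/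
theorem commute_translate {g w w' : G} (hg : g ∈ S) (hne : ¬ Commute x g) (hw : w ∈ T) (hwW : w ∈ ptwise M z x)
    (hw' : w' ∈ T) (hw'W : w' ∈ ptwise M z x) : Commute (g * w * g⁻¹) w' := by
  obtain ⟨e, he, hge⟩ := h.exists_translation_coset hS hloc hY hg
  have he1 : e ≠ 1 := fun e1 => hne (by
    rw [e1, one_mul] at hge
    exact (mul_inv_eq_iff_eq_mul.1 hge).symm)
  have hgS := mul_mem (mul_mem hg (hY.T_le hw)) (inv_mem hg)
  have hxw1 := h.conj_comm_x hS hloc hY hg (hY.T_le hw) (ptwise_comm hwW)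
  set c := g * w * g⁻¹ * w' * (g * w * g⁻¹)⁻¹ * w'⁻¹ with hc
  have hcW : c ∈ ptwise M z x := mul_mem (conj_mem_ptwise_of_comm hxw1 hw'W) (inv_mem hw'W)
  set v := g⁻¹ * w' * g with hv
  have hvx : Commute x v := by
    have h1 := h.conj_comm_x hS hloc hY (inv_mem hg) (hY.T_le hw') (ptwise_comm hw'W)
    rwa [inv_inv] at h1
  have hu : g⁻¹ * c * g ∈ ptwise M z x := by
    rw [show g⁻¹ * c * g = w * (v * w⁻¹ * v⁻¹) by rw [hc, hv]; group]
    exact mul_mem hwW (conj_mem_ptwise_of_comm hvx (inv_mem hwW))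
  have huS : g⁻¹ * c * g ∈ S :=
    mul_mem (mul_mem (inv_mem hg) (mul_mem (mul_mem (mul_mem hgS (hY.T_le hw')) (inv_mem hgS))
      (inv_mem (hY.T_le hw')))) hg
  have h1 := h.eq_one_of_translate hS hloc hY he he1 hge (hY.smul g hg)
    (h.mem_T_of_ptwise hS hloc hY huS hu) hu (by rwa [show g * (g⁻¹ * c * g) * g⁻¹ = c by group])
  have h2 : c = 1 := by
    rw [show c = g * (g⁻¹ * c * g) * g⁻¹ by group, h1]; group
  rw [hc, mul_inv_eq_one, mul_inv_eq_iff_eq_mul] at h2
  exact h2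

/-- **The pointwise part is abelian.** -/
theorem ptwise_abelian {w₁ w₂ : G} (hw₁ : w₁ ∈ T) (hw₁W : w₁ ∈ ptwise M z x) (hw₂ : w₂ ∈ T)
    (hw₂W : w₂ ∈ ptwise M z x) : Commute w₁ w₂ := by
  classical
  by_contra hne
  have hF := hY.frame
  have hP := hY.reg
  have hx := hF.bad
  set E := h.res.grp (base M) with hE
  let Ee := {e : E // e ≠ 1}
  have hsur : ∀ e : Ee, ∃ g ∈ S, g * x * g⁻¹ = (e.1 : G) * x := fun e => hY.surj _ e.1.2
  choose g hgS hge using hsur
  set A : Ee → G := fun e => g e * w₁ * (g e)⁻¹ with hA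
  set B : Ee → G := fun e => g e * w₂ * (g e)⁻¹ with hB
  have hAB : ∀ e, ¬ Commute (A e) (B e) := fun e hh => hne (by
    have h1 := hh.map (MulAut.conj (g e)⁻¹).toMonoidHom
    simpa [hA, hB, mul_assoc] using h1)
  have hdiff : ∀ i j : Ee, i ≠ j → ∀ u ∈ T, u ∈ ptwise M z x → ∀ u' ∈ T, u' ∈ ptwise M z x →
      Commute (g i * u * (g i)⁻¹) (g j * u' * (g j)⁻¹) := by
    intro i j hij u hu huW u' hu' hu'W
    have hnc : ¬ Commute x ((g j)⁻¹ * g i) := by
      intro hh
      refine hij (Subtype.ext (Subtype.ext (mul_right_cancel (b := x) ?_)))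
      rw [← hge i, ← hge j]
      calc g i * x * (g i)⁻¹ = g j * ((g j)⁻¹ * g i * x * ((g j)⁻¹ * g i)⁻¹) * (g j)⁻¹ := by group
        _ = g j * x * (g j)⁻¹ := by rw [← hh.eq, mul_inv_cancel_right]
    have h1 := (h.commute_translate hS hloc hY (mul_mem (inv_mem (hgS j)) (hgS i)) hnc hu huW hu' hu'W).map
      (MulAut.conj (g j)).toMonoidHom
    simpa [mul_assoc] using h1
  have hH : ∀ i, (A i ∈ S ∧ Commute x (A i)) ∧ B i ∈ S ∧ Commute x (B i) := fun i =>
    ⟨⟨mul_mem (mul_mem (hgS i) (hY.T_le hw₁)) (inv_mem (hgS i)),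
      h.conj_comm_x hS hloc hY (hgS i) (hY.T_le hw₁) (ptwise_comm hw₁W)⟩,
      mul_mem (mul_mem (hgS i) (hY.T_le hw₂)) (inv_mem (hgS i)),
      h.conj_comm_x hS hloc hY (hgS i) (hY.T_le hw₂) (ptwise_comm hw₂W)⟩
  -- all patterns of commutation occur
  have hpat : ∀ (I : Finset Ee) (f : Ee → Bool × Bool), ∃ n ∈ S, Commute x n ∧
      (∀ i ∈ I, (Commute n (A i) ↔ (f i).1 = true) ∧ (Commute n (B i) ↔ (f i).2 = true)) ∧
      (∀ i ∉ I, Commute n (A i) ∧ Commute n (B i)) := by
    intro I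
    induction I using Finset.induction_on with
    | empty => exact fun f => ⟨1, one_mem S, Commute.one_right x, by simp, fun i _ =>
        ⟨Commute.one_left _, Commute.one_left _⟩⟩
    | @insert j I hj ih =>
      intro f
      obtain ⟨n, hnS, hnx, hnI, hnO⟩ := ih f
      obtain ⟨m, hmS, hmx, hmA, hmB, hmO⟩ : ∃ m, m ∈ S ∧ Commute x m ∧
          (Commute m (A j) ↔ (f j).1 = true) ∧ (Commute m (B j) ↔ (f j).2 = true) ∧
          ∀ i, i ≠ j → Commute m (A i) ∧ Commute m (B i) := by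
        have hO : ∀ i, i ≠ j → (Commute (A j) (A i) ∧ Commute (A j) (B i)) ∧
            Commute (B j) (A i) ∧ Commute (B j) (B i) := fun i hij =>
          ⟨⟨hdiff j i hij.symm _ hw₁ hw₁W _ hw₁ hw₁W, hdiff j i hij.symm _ hw₁ hw₁W _ hw₂ hw₂W⟩,
            hdiff j i hij.symm _ hw₂ hw₂W _ hw₁ hw₁W, hdiff j i hij.symm _ hw₂ hw₂W _ hw₂ hw₂W⟩
        obtain ⟨⟨hA1, hA2⟩, hB1, hB2⟩ := hH j
        rcases hfj : f j with ⟨c₁, c₂⟩
        cases c₁ <;> cases c₂
        · refine ⟨A j * B j, mul_mem hA1 hB1, hA2.mul_right hB2, ?_, ?_, fun i hi =>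
            ⟨(hO i hi).1.1.mul_left (hO i hi).2.1, (hO i hi).1.2.mul_left (hO i hi).2.2⟩⟩
          · rw [commute_mul_left_iff (Commute.refl _)]
            exact iff_of_false (fun hh => hAB j hh.symm) Bool.false_ne_true
          · rw [commute_mul_right_iff (Commute.refl _)]
            exact iff_of_false (hAB j) Bool.false_ne_true
        · exact ⟨B j, hB1, hB2, iff_of_false (fun hh => hAB j hh.symm) Bool.false_ne_true,
            iff_of_true (Commute.refl _) rfl, fun i hi => (hO i hi).2⟩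
        · exact ⟨A j, hA1, hA2, iff_of_true (Commute.refl _) rfl,
            iff_of_false (hAB j) Bool.false_ne_true, fun i hi => (hO i hi).1⟩
        · exact ⟨1, one_mem S, Commute.one_right x, iff_of_true (Commute.one_left _) rfl,
            iff_of_true (Commute.one_left _) rfl, fun i _ => ⟨Commute.one_left _, Commute.one_left _⟩⟩
      refine ⟨n * m, mul_mem hnS hmS, hnx.mul_right hmx, fun i hi => ?_, fun i hi => ?_⟩
      · rcases Finset.mem_insert.1 hi with rfl | hi'
        · rw [commute_mul_left_iff (hnO i hj).1, commute_mul_left_iff (hnO i hj).2]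
          exact ⟨hmA, hmB⟩
        · have hij : i ≠ j := fun e => hj (e ▸ hi')
          rw [commute_mul_right_iff (hmO i hij).1, commute_mul_right_iff (hmO i hij).2]
          exact hnI i hi'
      · have hi' := fun e => hi (Finset.mem_insert_of_mem e)
        have hij : i ≠ j := fun e => hi (e ▸ Finset.mem_insert_self j I)
        exact ⟨(hnO i hi').1.mul_left (hmO i hij).1, (hnO i hi').2.mul_left (hmO i hij).2⟩
  letI := Fintype.ofFinite Ee
  have hpat' : ∀ f : Ee → Bool × Bool, ∃ v ∈ P, ∃ t ∈ T,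
      ∀ i, (Commute (v * t) (A i) ↔ (f i).1 = true) ∧ (Commute (v * t) (B i) ↔ (f i).2 = true) := fun f => by
    obtain ⟨n, hnS, hnx, hnI, -⟩ := hpat Finset.univ f
    obtain ⟨v, hv, t, ht, rfl⟩ := hY.decomp n hnS hnx
    exact ⟨v, hv, t, ht, fun i => hnI i (Finset.mem_univ i)⟩
  choose v hv t ht hvt using hpat'
  have hlc := hloc x (h.isBad hx)
  have hEP : ∀ e ∈ E, e ∈ P := fun e he => hP.line_le (by rw [h.lineGrp_eq hx hF.fix_base]; exact he)
  have hPx : ∀ u ∈ P, Commute x u := fun u hu => commute_of_mem_locGroup ((hP.mem u).1 hu).1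
  let Φ : (Ee → Bool × Bool) × E → {b : G ⧸ M // x • b = b ∧ b ≠ base M} × Bool := fun q =>
    (⟨((q.2 : G) * v q.1) • a, smul_mem_fix (hPx _ (mul_mem (hEP _ q.2.2) (hv q.1))) hF.fix_pt,
      fun e => hF.ne (smul_left_cancel _
        (e.trans ((hP.mem _).1 (mul_mem (hEP _ q.2.2) (hv q.1))).2.1.symm))⟩,
      decide (t q.1 ∈ ptwise M z x))
  have hinj : Function.Injective Φ := by
    rintro ⟨f, e⟩ ⟨f', e'⟩ hq
    simp only [Φ, Prod.mk.injEq, Subtype.mk.injEq, decide_eq_decide] at hq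
    obtain ⟨hpt, htW⟩ := hq
    set k := ((e : G) * v f)⁻¹ * ((e' : G) * v f') with hk
    have hkP : k ∈ P := mul_mem (inv_mem (mul_mem (hEP _ e.2) (hv f))) (mul_mem (hEP _ e'.2) (hv f'))
    have hkK : k ∈ locKer M z x := hP.free k hkP a hF.fix_pt hF.ne (by rw [hk, mul_smul, ← hpt, inv_smul_smul])
    have hw : t f' * (t f)⁻¹ ∈ ptwise M z x := by
      by_cases h1 : t f ∈ ptwise M z x
      · exact mul_mem (htW.1 h1) (inv_mem h1)
      · exact h.mul_mem_ptwise hS hloc hF hP (h.sylo_TE hS hloc hY) (ht f') (inv_mem (ht f))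
          (fun h2 => h1 (htW.2 h2)) fun h2 => h1 (by simpa using inv_mem h2)
    have hv' : v f' = (e' : G)⁻¹ * e * v f * k := by rw [hk]; group
    have hkw : k * (t f' * (t f)⁻¹) ∈ T ∧ k * (t f' * (t f)⁻¹) ∈ ptwise M z x := by
      have h1 := mul_mem (ptwise_of_locKer hlc hkK) hw
      exact ⟨h.mem_T_of_ptwise hS hloc hY
        (mul_mem (hY.reg_le hkP) (hY.T_le (mul_mem (ht f') (inv_mem (ht f))))) h1, h1⟩
    have hquot : v f' * t f' * (v f * t f)⁻¹ = (e' : G)⁻¹ * e * (k * (t f' * (t f)⁻¹)) := by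
      have hc : Commute (k * (t f' * (t f)⁻¹)) (v f) := ptwise_loc hkw.2 ((hP.mem _).1 (hv f)).1
      calc v f' * t f' * (v f * t f)⁻¹ = (e' : G)⁻¹ * e * (v f * (k * (t f' * (t f)⁻¹))) * (v f)⁻¹ := by
            rw [hv']; group
        _ = (e' : G)⁻¹ * e * (k * (t f' * (t f)⁻¹)) := by rw [← hc.eq]; group
    have hNA : ∀ i, ∀ u ∈ T, u ∈ ptwise M z x →
        Commute (v f' * t f' * (v f * t f)⁻¹) (g i * u * (g i)⁻¹) := fun i u hu huW => by
      rw [hquot]
      refine ((hY.centE _ (mul_mem (mul_mem (hgS i) (hY.T_le hu)) (inv_mem (hgS i))) _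
        (mul_mem (inv_mem e'.2) e.2)).symm).mul_left (Commute.symm ?_)
      refine h.commute_translate hS hloc hY (hgS i) (fun hh => i.2 ?_) hu huW hkw.1 hkw.2
      have h1 := hge i
      rw [← hh.eq, mul_inv_cancel_right, eq_comm, mul_eq_right] at h1
      exact Subtype.ext h1
    obtain rfl : f = f' := funext fun i => Prod.ext
      (Bool.eq_iff_iff.2 (by
        have h1 := commute_mul_left_iff (m := v f * t f) (hNA i w₁ hw₁ hw₁W)
        rw [inv_mul_cancel_right] at h1
        exact (hvt f i).1.symm.trans (h1.symm.trans (hvt f' i).1)))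
      (Bool.eq_iff_iff.2 (by
        have h1 := commute_mul_left_iff (m := v f * t f) (hNA i w₂ hw₂ hw₂W)
        rw [inv_mul_cancel_right] at h1
        exact (hvt f i).2.symm.trans (h1.symm.trans (hvt f' i).2)))
    refine Prod.ext rfl (Subtype.ext ?_)
    have hc : ∀ d ∈ E, Commute d (v f) := fun d hd => (hY.centE _ (hY.reg_le (hv f)) d hd).symm
    rw [(hc _ e.2).eq, (hc _ e'.2).eq, mul_smul, mul_smul] at hpt
    have h2 : ((e' : G)⁻¹ * e) • a = a := by rw [mul_smul, smul_left_cancel (v f) hpt, inv_smul_smul]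
    exact (inv_mul_eq_one.1 (h.eq_one_of_grp_fix (mul_mem (inv_mem e'.2) e.2) hF.ne h2)).symm
  have hcard := Nat.card_le_card_of_injective Φ hinj
  obtain ⟨β, hβ2, hβ⟩ := h.exists_card_grp
  have hEe : Nat.card Ee + 1 = 2 ^ β := by
    rw [← hβ, ← h.res.card_grp (base M), ← Finite.card_option]
    exact Nat.card_congr (Equiv.optionSubtypeNe (1 : E))
  have hcat := h.card_cat hx hF.fix_base
  obtain ⟨⟨d, hd, hdp, hdx⟩, ⟨d', hd', hd'p, hd'x⟩, hne0⟩ :=
    (Finite.one_lt_card_iff_nontrivial.1 (show 1 < Nat.card (CAt z ({x} : Set G) (base M)) by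
      rw [hcat]; exact h.two_le)).exists_pair_ne
  obtain ⟨k, hk⟩ := hlc.card_fix ⟨d, d', hd, hd', hdx x rfl, hd'x x rfl,
    hlc.comm_at d d' _ hd hd' (hdx x rfl) (hd'x x rfl) hdp hd'p, fun e1 => hne0 (Subtype.ext e1)⟩
    hF.ne.symm hF.fix_base hF.fix_pt
  have hshape := hS.fix_shape hlc (h.isBad hx) hF.fix_base (by rw [hcat]; exact h.two_le)
    (by rw [hcat]; exact hβ) hk
  have hs : Nat.card {b : G ⧸ M // x • b = b ∧ b ≠ base M} = 2 ^ k := by
    have h1 : Nat.card {b : G ⧸ M // x • b = b ∧ b ≠ base M} + 1 = Nat.card {b : G ⧸ M // x • b = b} := by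
      rw [← Finite.card_option, ← Nat.card_congr (Equiv.optionSubtypeNe
        (⟨base M, hF.fix_base⟩ : {b : G ⧸ M // x • b = b}))]
      exact Nat.card_congr (Equiv.optionCongr
        ⟨fun b => ⟨⟨b.1, b.2.1⟩, fun e => b.2.2 (congrArg Subtype.val e)⟩,
          fun b => ⟨b.1.1, b.1.2, fun e => b.2 (Subtype.ext e)⟩, fun _ => rfl, fun _ => rfl⟩)
    omega
  rw [Nat.card_prod, Nat.card_prod, Nat.card_fun, Nat.card_prod, hs, h.res.card_grp, hβ,
    show Nat.card Bool = 2 by simp, show (2 : ℕ) * 2 = 2 ^ 2 by norm_num, ← pow_mul, ← pow_add, ← pow_succ] at hcard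
  have h3 := (Nat.pow_le_pow_iff_right (a := 2) (by norm_num)).1 hcard
  have h4 : 2 * β ≤ 2 ^ β := by
    obtain ⟨i, rfl⟩ := Nat.exists_eq_add_of_le hβ2
    have := Nat.lt_two_pow_self (n := i + 1)
    rw [show 2 + i = i + 1 + 1 by ring, pow_succ]
    omega
  rcases hshape with rfl | rfl | rfl <;> omega

end CfsgLib.SECrit.Eq.EqRes
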